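import Cfsg.Agent.H34.UDefs
import Cfsg.Agent.H31.HermCount
import Cfsg.Agent.H27.EndKit

/-!
# Standard subgroups of unitary type in characteristic two: orders and generators
-/

set_option autoImplicit false
set_option linter.unusedSectionVars false

namespace Cfsg.Agent.H36.UKB

open Cfsg Cfsg.Agent.H63 Cfsg.Agent.H63.SL Cfsg.Agent.H34 Cfsg.Agent.H34.TW Cfsg.Agent.H31
  Cfsg.Agent.H34.UM Cfsg.Agent.H27.End Subgroup Module
open Cfsg.Agent.H8 (IsSylowIn)

universe u v

variable {F E V : Type v} [Field F] [Field E] [AddCommGroup V] [Module E V] [Finite F] [Finite E]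
  [Finite V] [FiniteDimensional E V] {i : F →+* E} {σ : E ≃+* E}
  {B : V →ₛₗ[(σ : E →+* E)] V →ₗ[E] E} {G : Type u} [Group G] [Finite G] {φ : sisom B →* G}
  {L : Subgroup G}

theorem el_eq (s : sisom B) {N : V → V} (h : ∀ x, s.1 x = N x) : el φ N = φ s := by
  have e : ∃ s : sisom B, ∀ x, s.1 x = N x := ⟨s, h⟩
  rw [el, dif_pos e]
  exact congrArg φ (Subtype.ext (LinearEquiv.ext fun x => (e.choose_spec x).trans (h x).symm))

section Lin

variable (q : QF i σ) (h : IsHerm B)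
include q

theorem fix (a : F) : σ (i a) = i a := (q.fix _).2 ⟨a, rfl⟩

theorem skew (a : F) : i a + (σ : E →+* E) (i a) = 0 := by
  rw [RingHom.coe_coe, fix q, ← two_mul, q.two, zero_mul]

theorem of_skew {c : E} (hc : c + (σ : E →+* E) c = 0) : ∃ a, c = i a :=
  (q.fix c).1 (by rw [RingHom.coe_coe] at hc; linear_combination hc - c * q.two)

theorem add_self (x : V) : x + x = 0 := by rw [← two_smul E, q.two, zero_smul]

include h

/-- The transvection as a special isometry. -/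
def tS {u : V} (hu : B u u = 0) (a : F) : sisom B :=
  ⟨tv B u (i a) hu (skew q a), h.tv_mem_sisom hu _⟩

theorem tS_apply {u : V} (hu : B u u = 0) (a : F) (x : V) :
    (tS q h hu a).1 x = x + (i a * B u x) • u := rfl

theorem TT_eq {u : V} (hu : B u u = 0) (a : F) : TT i φ u a = φ (tS q h hu a) :=
  el_eq _ fun _ => rfl

theorem tS_R0 {u : V} (hu : B u u = 0) (a : F) : tS q h hu a ∈ R0 B (E ∙ u) :=
  ⟨fun x hx => by
    obtain ⟨c, rfl⟩ := Submodule.mem_span_singleton.1 hx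
    simp [tS_apply, hu], fun x hx => by simp [tS_apply, mem_perp_span_singleton.1 hx]⟩

theorem tS_sq {u : V} (hu : B u u = 0) (a : F) : tS q h hu a * tS q h hu a = 1 :=
  Subtype.ext (LinearEquiv.ext fun x => by
    change (tS q h hu a).1 ((tS q h hu a).1 x) = x
    simp [tS_apply, hu, add_assoc, add_self q])

theorem tS_comm {u w : V} (hu : B u u = 0) (hw : B w w = 0) (e : B u w = 0) (a b : F) :
    Commute (tS q h hu a) (tS q h hw b) :=
  Subtype.ext (LinearEquiv.ext fun x => by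
    change (tS q h hu a).1 ((tS q h hw b).1 x) = (tS q h hw b).1 ((tS q h hu a).1 x)
    simp [tS_apply, e, h.flip_zero e, add_right_comm])

omit q in
theorem iso_add {x v : V} (hx : B x x = 0) (hv : B v v = 0) (e : B v x = 0) :
    B (x + v) (x + v) = 0 := by simp [hx, hv, e, h.flip_zero e]

/-- `z ↦ z + B(v, z) x + B(x, z) v`. -/
noncomputable def bb {x v : V} (hx : B x x = 0) (hv : B v v = 0) (e : B v x = 0) : sisom B :=
  tS q h (iso_add h hx hv e) 1 * tS q h hx 1 * tS q h hv 1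

theorem bb_apply {x v : V} (hx : B x x = 0) (hv : B v v = 0) (e : B v x = 0) (z : V) :
    (bb q h hx hv e).1 z = z + B v z • x + B x z • v := by
  change (tS q h (iso_add h hx hv e) 1).1 ((tS q h hx 1).1 ((tS q h hv 1).1 z)) = _
  simp only [tS_apply, map_one, one_mul, map_add, map_smul, LinearMap.add_apply, hx, hv, e,
    h.flip_zero e, mul_zero, add_zero]
  linear_combination (norm := module) add_self q (B v z • v) + add_self q (B x z • x)

theorem BB_eq {x v : V} (hx : B x x = 0) (hv : B v v = 0) (e : B v x = 0) :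
    BB (TT i φ) x v 1 = φ (bb q h hx hv e) := by
  rw [BB, TT_eq q h (iso_add h hx hv e), TT_eq q h hx, TT_eq q h hv, bb, map_mul, map_mul]

theorem bb_R0 {x v : V} (hx : B x x = 0) (hv : B v v = 0) (e : B v x = 0) :
    bb q h hx hv e ∈ R0 B (E ∙ v) :=
  ⟨fun z hz => by
    obtain ⟨c, rfl⟩ := Submodule.mem_span_singleton.1 hz
    simp [bb_apply, hv, h.flip_zero e], fun z hz => by
    rw [bb_apply, mem_perp_span_singleton.1 hz, zero_smul, add_zero, add_sub_cancel_left]
    exact Submodule.smul_mem _ _ (Submodule.mem_span_singleton_self v)⟩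

omit q in
theorem plane {v v' : V} (hv : B v v = 0) (e : B v v' = 1) :
    NondegOn B (perp B (Submodule.span E {v, v'})) ∧
      finrank E (perp B (Submodule.span E {v, v'})) = finrank E V - 2 := by
  have g := h.gram_hyperbolic (f := v') hv e
  exact ⟨h.nondegOn_perp (h.nondegOn_span_pair g), by
    rw [h.finrank_perp, finrank_span_pair_of_gram g]⟩

omit q h in
theorem mem_plane {v v' w : V} : w ∈ perp B (Submodule.span E {v, v'}) ↔ B v w = 0 ∧ B v' w = 0 := by
  simp [mem_perp_span]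

/-- The Heisenberg group is transitive on the isotropic partners. -/
theorem trans (hm : 4 ≤ finrank E V) {v v' x : V} (hv : B v v = 0) (hv' : B v' v' = 0)
    (e : B v v' = 1) (hx : B x x = 0) (ex : B v x = 1) {K : Subgroup (sisom B)}
    (h1 : ∀ a, tS q h hv a ∈ K) (h2 : ∀ w (hw : B w w = 0) (e : B v w = 0), bb q h hw hv e ∈ K) :
    ∃ g ∈ K, g.1 v' = x := by
  obtain ⟨p1, p2⟩ := plane h hv e
  have e' := h.flip_one e
  obtain ⟨w1, m1, w2, m2, i1, i2, hw⟩ := h.exists_add_isotropic p1 (by omega)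
    (v := x - v' - B v' x • v) (mem_plane.2 ⟨by simp [ex, e, hv], by simp [hv', e']⟩)
  obtain ⟨a1, b1⟩ := mem_plane.1 m1
  obtain ⟨a2, b2⟩ := mem_plane.1 m2
  have hx' : x = v' + (w1 + w2) + B v' x • v := by rw [← hw]; abel
  generalize B v' x = d at hx'
  obtain ⟨a, ha⟩ := of_skew q (c := d + B w1 w2) (by
    rw [hx'] at hx
    simp only [map_add, map_smul, LinearMap.add_apply, smul_left, smul_eq_mul, hv, hv', e, e', i1,
      i2, a1, a2, b1, b2, h.flip_zero a1, h.flip_zero a2, h.flip_zero b1, h.flip_zero b2] at hx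
    rw [map_add, h.symm]
    linear_combination hx)
  refine ⟨tS q h hv a * (bb q h i1 hv a1 * bb q h i2 hv a2),
    mul_mem (h1 a) (mul_mem (h2 _ _ _) (h2 _ _ _)), ?_⟩
  change (tS q h hv a).1 ((bb q h i1 hv a1).1 ((bb q h i2 hv a2).1 v')) = x
  simp only [tS_apply, bb_apply, map_add, map_smul, hv, e, a1, a2,
    h.flip_zero a1, h.flip_zero b1, h.flip_zero b2, ← ha, hx']
  linear_combination (norm := module) add_self q (B w1 w2 • v)

omit q in
theorem uniq {v v' : V} (e : B v v' = 1) {s : sisom B} (hs : s ∈ R0 B (E ∙ v))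
    (h1 : s.1 v' = v') : s = 1 := Subtype.ext (LinearEquiv.ext fun z => by
  obtain ⟨c, hc⟩ := Submodule.mem_span_singleton.1
    (hs.2 (z - B v z • v') (mem_perp_span_singleton.2 (by simp [e])))
  have h2 := s.2.1 v' (z - B v z • v')
  rw [h1, ← sub_eq_zero, ← map_sub, ← hc, map_smul, h.flip_one e, smul_eq_mul, mul_one] at h2
  rw [h2, zero_smul, map_sub, map_smul, h1, eq_comm, sub_eq_zero, sub_left_inj] at hc
  exact hc)

omit q h in
theorem R0_fix {v : V} {s : sisom B} (hs : s ∈ R0 B (E ∙ v)) : s.1 v = v :=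
  hs.1 v (Submodule.mem_span_singleton_self v)

theorem R0_le (hm : 4 ≤ finrank E V) {v : V} (hv : B v v = 0) (h0 : v ≠ 0)
    {K : Subgroup (sisom B)} (h1 : ∀ a, tS q h hv a ∈ K)
    (h2 : ∀ w (hw : B w w = 0) (e : B v w = 0), bb q h hw hv e ∈ K) : R0 B (E ∙ v) ≤ K :=
  fun s hs => by
  obtain ⟨v', hv', e⟩ := h.exists_hyperbolic' hv h0
  obtain ⟨g, hg, e1⟩ := trans q h hm hv hv' e (x := s.1 v') ((s.2.1 _ _).trans hv')
    (by rw [← e, ← s.2.1 v v', R0_fix hs]) (K := K ⊓ R0 B (E ∙ v))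
    (fun a => ⟨h1 a, tS_R0 q h hv a⟩) fun w hw e => ⟨h2 w hw e, bb_R0 q h hw hv e⟩
  have := uniq h e (mul_mem (inv_mem hg.2) hs) (by
    change (g.1)⁻¹ (s.1 v') = v'
    rw [← e1, inv_apply_apply])
  rw [inv_mul_eq_one] at this
  exact this ▸ hg.1

theorem hasTv {K : Subgroup (sisom B)} {u : V} (h1 : ∀ (hu : B u u = 0) a, tS q h hu a ∈ K) :
    HasTv B (K.map (sisom B).subtype) u := fun c hu hc => by
  obtain ⟨a, rfl⟩ := of_skew q hc
  exact ⟨_, h1 hu a, rfl⟩

omit q h in
theorem mem_of_map {K : Subgroup (sisom B)} {s : sisom B} (h : s.1 ∈ K.map (sisom B).subtype) :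
    s ∈ K := by
  obtain ⟨s', h1, h2⟩ := h
  rwa [← Subtype.ext h2]

theorem hasTv_ne (hm : 4 ≤ finrank E V) {e f : V} (he : B e e = 0) (hf : B f f = 0)
    (ef : B e f = 1) {K : Subgroup (sisom B)} (h1 : R0 B (E ∙ e) ≤ K) (h2 : R0 B (E ∙ f) ≤ K)
    {u : V} (hu : B u u = 0) (h0 : B e u ≠ 0) : HasTv B (K.map (sisom B).subtype) u := by
  obtain ⟨g, hg, e1⟩ := trans q h hm he hf ef (isotropic_smul hu (B e u)⁻¹) (by simp [h0])
    (K := R0 B (E ∙ e)) (tS_R0 q h he) fun w hw e => bb_R0 q h hw he e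
  refine HasTv.of_smul h.toIsHermSymm (inv_ne_zero h0) (e1 ▸ HasTv.map ?_ g.2.1 ⟨g, h1 hg, rfl⟩)
  exact hasTv q h fun hf a => h2 (tS_R0 q h hf a)

theorem gen (hm : 4 ≤ finrank E V) {e f : V} (he : B e e = 0) (hf : B f f = 0)
    (ef : B e f = 1) {K : Subgroup (sisom B)} (h1 : R0 B (E ∙ e) ≤ K) (h2 : R0 B (E ∙ f) ≤ K)
    (s : sisom B) : s ∈ K := by
  refine mem_of_map (h.sisom_le_of_hasTv (fun u c hu => ?_) (.inl (by omega)) s.2)
  refine (?_ : HasTv B _ u) c hu
  by_cases a1 : B e u = 0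
  swap
  · exact hasTv_ne q h hm he hf ef h1 h2 hu a1
  by_cases a2 : B f u = 0
  swap
  · exact hasTv_ne q h hm hf he (h.flip_one ef) h2 h1 hu a2
  by_cases a3 : u = 0
  · exact a3 ▸ hasTv_zero _
  obtain ⟨w, m, hw, uw⟩ := h.exists_hyperbolic_of_nondegOn (plane h he ef).1 hu a3
    (mem_plane.2 ⟨a1, a2⟩)
  have b := (mem_plane.1 m).2
  have k := hasTv_ne q h hm he hf ef h1 h2 (isotropic_map (bb q h hw hf b).2.1 hu) (by
    simp [bb_apply, a1, a2, h.flip_one uw, ef])
  simpa [inv_apply_apply] using k.map (inv_mem (bb q h hw hf b).2.1)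
    (inv_mem ⟨_, h2 (bb_R0 q h hw hf b), rfl⟩)

theorem stab_le (hd : Dim (Nat.card F) (finrank E V)) {v : V} (hv : B v v = 0) (h0 : v ≠ 0)
    {K : Subgroup (sisom B)} (h1 : ∀ w (hw : B w w = 0), B v w = 0 → ∀ a, tS q h hw a ∈ K)
    {s : sisom B} (hs : s.1 v = v) : s ∈ K := by
  have hm : 4 ≤ finrank E V := by rcases hd with hd | hd <;> omega
  obtain ⟨v', hv', e⟩ := h.exists_hyperbolic' hv h0
  obtain ⟨g, hg, e1⟩ := trans q h hm hv hv' e (x := s.1 v') ((s.2.1 _ _).trans hv')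
    (by rw [← e, ← s.2.1 v v', hs]) (K := K ⊓ R0 B (E ∙ v))
    (fun a => ⟨h1 v hv hv a, tS_R0 q h hv a⟩) fun w hw e =>
      ⟨mul_mem (mul_mem (h1 _ _ (by simp [hv, e]) 1) (h1 w hw e 1)) (h1 v hv hv 1),
        bb_R0 q h hw hv e⟩
  obtain ⟨p1, p2⟩ := plane h hv e
  refine (mul_mem_cancel_left (K.inv_mem hg.1)).1 (mem_of_map (h.mem_of_hasTv p1 p1 le_rfl
    (fun u hu => hasTv q h fun hu' => h1 u hu' (mem_plane.1 hu).1) ?_ (g⁻¹ * s).2 ?_))
  · rcases hd with hd | hd
    · obtain ⟨b, b0, b1⟩ : ∃ b : F, b ≠ 0 ∧ b ≠ 1 := by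
        classical
        by_contra! hb
        have := Fintype.ofFinite F
        have : (Finset.univ : Finset F) ⊆ {0, 1} := fun b _ => by
          by_cases e : b = 0 <;> simp [e, hb b]
        have h2 := (Finset.card_le_card this).trans Finset.card_le_two
        rw [Finset.card_univ, ← Nat.card_eq_fintype_card] at h2
        omega
      exact .inr (.inl ⟨i b, fix q b, by simpa using b0,
        fun e => b1 (i.injective (e.trans (map_one i).symm))⟩)
    · exact .inl (by omega)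
  · rw [h.perp_perp]
    refine mem_fixOn_span ?_
    rintro _ (rfl | rfl)
    · change (g.1)⁻¹ (s.1 _) = _
      rw [hs]
      exact R0_fix (inv_mem hg.2)
    · change (g.1)⁻¹ (s.1 _) = _
      rw [← e1, inv_apply_apply]

omit h in
theorem two_pow : ∃ k, 0 < k ∧ Nat.card F = 2 ^ k := by
  have := Fintype.ofFinite F
  have := CharTwo.of_one_ne_zero_of_two_eq_zero (one_ne_zero' F)
    (i.injective (by rw [map_ofNat, q.two, map_zero]))
  obtain ⟨n, -, hn⟩ := FiniteField.card F 2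
  exact ⟨n, n.pos, Nat.card_eq_fintype_card.trans hn⟩

omit h in
theorem odd_pred : Odd (Nat.card E - 1) := by
  obtain ⟨k, hk, e⟩ := two_pow q
  rw [q.card, e, ← pow_mul]
  exact Nat.Even.sub_odd (Nat.one_le_two_pow) (Nat.even_pow.2 ⟨even_two, by omega⟩) odd_one

omit q h in
theorem pow_apply {s : sisom B} {v : V} {c : E} (e : s.1 v = c • v) (n : ℕ) :
    (s ^ n).1 v = c ^ n • v := by
  induction n with
  | zero => simp
  | succ n ih =>
    rw [pow_succ', pow_succ]
    change s.1 ((s ^ n).1 v) = _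
    rw [ih, map_smul, e, smul_smul]

omit q h in
theorem pow_fix {s : sisom B} {v : V} {c : E} (e : s.1 v = c • v) :
    (s ^ (Nat.card E - 1)).1 v = v := by
  have := Fintype.ofFinite E
  by_cases hc : c = 0
  · obtain rfl : v = 0 := by simpa [hc] using e
    simp
  rw [pow_apply e, Nat.card_eq_fintype_card, FiniteField.pow_card_sub_one_eq_one c hc, one_smul]

end Lin

variable (c : UCtx i φ L)
include c

theorem four : 4 ≤ finrank E V := by rcases c.dim with hd | hd <;> omega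

theorem mem_L (s : sisom B) : φ s ∈ L := c.mod.rng ▸ ⟨s, rfl⟩

theorem card_syl {S : Subgroup G} (hS : IsSylowIn 2 S L) :
    Nat.card S = Nat.card F ^ (finrank E V).choose 2 := by
  have := Fintype.ofFinite E
  have : Finite (V ≃ₗ[E] V) := finite_linearEquiv
  obtain ⟨q, hq, hσ⟩ := c.mod.herm.inv.exists_q
  obtain rfl : q = Nat.card F := by
    rw [← Nat.card_eq_fintype_card, c.qf.card] at hq
    exact (Nat.pow_left_injective two_ne_zero hq).symm
  obtain ⟨k, hk, e⟩ := two_pow c.qf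
  have h1 := c.mod.herm.card_sisom hq hσ (by have := four c; omega)
  have h2 : Odd (Nat.card φ.ker) := by
    by_contra! h
    obtain ⟨⟨s, hs⟩, h1⟩ := exists_prime_orderOf_dvd_card' 2
      (even_iff_two_dvd.1 (Nat.not_odd_iff_even.1 h))
    rw [orderOf_mk] at h1
    obtain ⟨a, ha⟩ := c.mod.ker s (by rw [MonoidHom.mem_ker.1 hs]; exact one_mem _)
    have : s ^ (Nat.card E - 1) = 1 := Subtype.ext (LinearEquiv.ext fun x => pow_fix (ha x))
    have := (odd_pred c.qf).of_dvd_nat (h1 ▸ orderOf_dvd_of_pow_eq_one this)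
    exact absurd this (by decide)
  have h3 : Even (Nat.card F) := e ▸ Nat.even_pow.2 ⟨even_two, hk.ne'⟩
  rw [← φ.ker.index_mul_card, index_ker, c.mod.rng, ordGU, ← Nat.choose_two_right] at h1
  have h4 : Odd (∏ j ∈ Finset.range (finrank E V),
      if Even j then Nat.card F ^ (j + 1) + 1 else Nat.card F ^ (j + 1) - 1) :=
    Finset.prod_induction _ Odd (fun _ _ => Odd.mul) odd_one fun j _ => by
      have := h3.pow_of_ne_zero (Nat.succ_ne_zero j)
      split_ifs
      exacts [this.add_one, Nat.Even.sub_odd (Nat.one_le_pow _ _ Nat.card_pos) this odd_one]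
  have h5 := congrArg (·.factorization 2) h1
  have k1 : ∀ {n : ℕ}, Odd n → n.factorization 2 = 0 := fun h =>
    Nat.factorization_eq_zero_of_not_dvd (by rwa [← even_iff_two_dvd, Nat.not_even_iff_odd])
  rw [Nat.factorization_mul h3.add_one.pos.ne' (mul_ne_zero Nat.card_pos.ne' h2.pos.ne'),
    Nat.factorization_mul Nat.card_pos.ne' h2.pos.ne',
    Nat.factorization_mul (pow_ne_zero _ Nat.card_pos.ne') h4.pos.ne'] at h5
  simp only [Finsupp.add_apply, k1 h2, k1 h4, k1 h3.add_one, zero_add, add_zero] at h5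
  rw [hS.card_eq, h5, e, ← pow_mul, Nat.Prime.factorization_pow Nat.prime_two]
  simp

theorem eig {v : V} (hv : Pt B v) {s : sisom B} (hs : φ s ∈ C[ZV i φ v]) : ∃ a : E, s.1 v = a • v := by
  have q := c.qf
  have h := c.mod.herm
  have h1 : Commute (φ s) (φ (tS q h hv.1 1)) :=
    comm_of_C hs (subset_closure ⟨1, TT_eq q h hv.1 1⟩)
  have h2 : s * tS q h hv.1 1 * s⁻¹ = tS q h (isotropic_map s.2.1 hv.1) 1 :=
    Subtype.ext (tv_conj s.2.1 hv.1 (skew q 1))
  obtain ⟨a, ha⟩ := c.mod.ker (tS q h (isotropic_map s.2.1 hv.1) 1 * tS q h hv.1 1) (by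
    rw [← h2, map_mul, map_mul, map_mul, map_inv, h1.mul_inv_cancel, ← map_mul, tS_sq, map_one]
    exact one_mem _)
  generalize hT : tS q h hv.1 1 = T at ha
  generalize hT' : tS q h (isotropic_map s.2.1 hv.1) 1 = T' at ha
  have k : ∀ z, T.1 (T.1 z) = z := fun z => by
    rw [← hT]; exact congrArg (fun g : sisom B => g.1 z) (tS_sq q h hv.1 1)
  have k' : ∀ z, T'.1 (T'.1 z) = z := fun z => by
    rw [← hT']; exact congrArg (fun g : sisom B => g.1 z) (tS_sq q h _ 1)
  have h3 : ∀ z, T'.1 z = a • T.1 z := fun z => by rw [← ha]; exact congrArg T'.1 (k z).symm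
  have h4 : a = 1 := by
    have h5 := k' v
    rw [h3, h3, map_smul, k, smul_smul, ← sub_eq_zero] at h5
    nth_rewrite 2 [← one_smul E v] at h5
    rw [← sub_smul, smul_eq_zero_iff_left hv.2] at h5
    have : (a - 1) ^ 2 = 0 := by linear_combination h5 + (1 - a) * q.two
    exact sub_eq_zero.1 (pow_eq_zero_iff two_ne_zero |>.1 this)
  obtain ⟨v', e⟩ := h.exists_eq_one hv.2
  have h5 := h3 v'
  rw [h4, one_smul, ← hT, ← hT', tS_apply, tS_apply, e, add_right_inj, map_one, one_mul, one_mul,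
    one_smul] at h5
  generalize B (s.1 v) v' = b at h5
  have hb : b ≠ 0 := by rintro rfl; exact hv.2 (by simpa using h5.symm)
  exact ⟨b⁻¹, (eq_inv_smul_iff₀ hb).2 h5⟩

omit c in
/-- **U-KITB** -/
theorem kitB : KitBStmt.{u, v} := by
  intro F E V _ _ _ _ _ _ _ _ i σ B G _ _ φ L c
  have q := c.qf
  have h := c.mod.herm
  refine ⟨fun S => card_syl c, fun e f he hf ef => ?_, fun v hv => le_antisymm ?_ ?_,
    fun v hv => le_antisymm ?_ ?_⟩
  · rw [← c.mod.rng]
    rintro _ ⟨s, rfl⟩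
    exact gen q h (four c) he hf ef (K := (QV φ e ⊔ QV φ f).comap φ)
      (map_le_iff_le_comap.1 le_sup_left) (map_le_iff_le_comap.1 le_sup_right) s
  · refine (closure_le _).2 ?_
    rintro g ⟨hg, h1, k, hk⟩
    obtain ⟨s, rfl⟩ : g ∈ φ.range := c.mod.rng ▸ hg
    obtain ⟨a, ha⟩ := eig c hv h1
    refine H83.mem_of_pelt_of_pow_mem hk (n := Nat.card E - 1) ?_
      (Nat.coprime_two_right.2 (odd_pred q))
    rw [← map_pow, ← mem_comap]
    refine stab_le q h c.dim hv.1 hv.2 (fun w hw e a => ?_) (pow_fix ha)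
    exact Subgroup.subset_closure ⟨w, hw, e, a, (TT_eq q h hw a).symm⟩
  · refine (closure_le _).2 ?_
    rintro _ ⟨x, hx, e, a, rfl⟩
    rw [TT_eq q h hx]
    refine Subgroup.subset_closure ⟨mem_L c _, ?_, is2_of_sq (by rw [← map_mul, tS_sq, map_one])⟩
    rw [ZV, centralizer_closure]
    rintro _ ⟨b, rfl⟩
    rw [TT_eq q h hv.1]
    exact ((tS_comm q h hv.1 hx e b a).map φ).eq
  · exact map_le_iff_le_comap.2 (R0_le q h (four c) hv.1 hv.2
      (fun a => mem_sup_right (subset_closure ⟨a, TT_eq q h hv.1 a⟩))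
      fun w hw e => mem_sup_left (subset_closure ⟨w, hw, e, (BB_eq q h hw hv.1 e).symm⟩))
  · refine sup_le ((closure_le _).2 ?_) ((closure_le _).2 ?_)
    · rintro _ ⟨x, hx, e, rfl⟩
      exact ⟨_, bb_R0 q h hx hv.1 e, (BB_eq q h hx hv.1 e).symm⟩
    · rintro _ ⟨a, rfl⟩
      exact ⟨_, tS_R0 q h hv.1 a, (TT_eq q h hv.1 a).symm⟩

end Cfsg.Agent.H36.UKB
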