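import Cfsg.Agent.H74.CksDefs

/-!
# Project CKS: the basic facts on systems
-/

set_option autoImplicit false

namespace Cfsg.Agent.H36.CkB

open Subgroup Cfsg.Agent.H35 Cfsg.Agent.H74.Cks
open scoped Pointwise

theorem dec_l {G : Type} [Group G] {N H : Subgroup G} (h : H ≤ normalizer (N : Set G)) {g : G}
    (hg : g ∈ N ⊔ H) : ∃ a ∈ N, ∃ b ∈ H, g = a * b := by
  have : g ∈ (N : Set G) * (H : Set G) := by
    rw [← coe_mul_of_right_le_normalizer_left N H h]; exact hg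
  obtain ⟨a, ha, b, hb, e⟩ := this
  exact ⟨a, ha, b, hb, e.symm⟩

theorem dec_r {G : Type} [Group G] {N H : Subgroup G} (h : H ≤ normalizer (N : Set G)) {g : G}
    (hg : g ∈ H ⊔ N) : ∃ a ∈ H, ∃ b ∈ N, g = a * b := by
  have : g ∈ (H : Set G) * (N : Set G) := by
    rw [← coe_mul_of_left_le_normalizer_right H N h]; exact hg
  obtain ⟨a, ha, b, hb, e⟩ := this
  exact ⟨a, ha, b, hb, e.symm⟩

theorem mem_cn {G : Type} [Group G] {g x : G} {K : Subgroup G} : x ∈ cn g K ↔ g⁻¹ * x * g ∈ K := by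
  constructor
  · rintro ⟨y, hy, rfl⟩
    simpa [mul_assoc] using hy
  · intro h
    exact ⟨_, h, by simp [mul_assoc]⟩

variable {G : Type} [Group G] {p n : ℕ} (S : Sys G p n)

theorem B_nQ (J : Finset (Fin n)) : S.B ≤ normalizer (S.Q J : Set G) :=
  (BN.B_le_PJ _).trans (S.sp.U_normal _)

theorem B_nU : S.B ≤ normalizer (S.U : Set G) := (BN.B_le_PJ _).trans (S.sp.U_normal _)

theorem U_le : S.U ≤ S.B := S.sp.U_le _

theorem Q_le (J : Finset (Fin n)) : S.Q J ≤ S.U := S.anti _ _ (Finset.empty_subset _)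

theorem Q_one (i : Fin n) : S.Q {i} = S.sp.U {S.e i} := by
  rw [Sys.Q, Finset.map_singleton]; rfl

theorem X_sup (i : Fin n) : S.X i ⊔ S.Q {i} = S.U := by rw [Q_one]; exact S.X_sup i

theorem X_le (i : Fin n) : S.X i ≤ S.U := X_sup S i ▸ le_sup_left

theorem X_leB (i : Fin n) : S.X i ≤ S.B := (X_le S i).trans (U_le S)

theorem s_N (i : Fin n) : S.s i ∈ S.bn.N := S.bn.subset (S.e i).2

theorem s_sq (i : Fin n) : S.s i * S.s i ∈ S.B := S.bn.sq_mem _ (S.e i).2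

theorem decB {b : G} (hb : b ∈ S.B) : ∃ u ∈ S.U, ∃ t ∈ S.T, b = u * t :=
  dec_l (inf_le_left.trans (B_nU S)) (S.sp.B_eq ▸ hb)

theorem levi1 (i : Fin n) : (S.T ⊔ S.L i) ⊓ S.Q {i} = ⊥ := by
  have := S.levi {i}
  rwa [Finset.iSup_singleton] at this

theorem X_inf (i : Fin n) : S.X i ⊓ S.Q {i} = ⊥ :=
  eq_bot_iff.2 (levi1 S i ▸ inf_le_inf_right _ (le_sup_left.trans le_sup_right))

theorem not_conj (i : Fin n) : ¬ ∀ b ∈ S.B, (S.s i)⁻¹ * b * S.s i ∈ S.B := fun h => by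
  obtain ⟨b, hb, hn⟩ := BN.exists_conj_not_mem (S.e i)
  refine hn ?_
  have h2 := h (S.s i * S.s i * b) (mul_mem (s_sq S i) hb)
  simpa [mul_assoc] using h2

theorem X_ne (i : Fin n) : S.X i ≠ ⊥ := fun h => not_conj S i fun b hb => by
  obtain ⟨y, hy, e⟩ := S.cell i (b⁻¹ * S.s i)
    (BN.mul_mem_cell_left (inv_mem hb) (BN.s_mem_cell _))
  rw [h, mem_bot] at hy
  simpa [hy] using e

theorem T_conj {m t : G} (hm : m ∈ S.bn.N) (ht : t ∈ S.T) : m⁻¹ * t * m ∈ S.T :=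
  ⟨BN.conj_mem_B hm ht, S.bn.N.mul_mem (S.bn.N.mul_mem (inv_mem hm) ht.2) hm⟩

theorem norm_U : normalizer (S.U : Set G) = S.B := by
  refine le_antisymm ?_ (B_nU S)
  rw [BN.eq_parabolic_of_le (P := S.bn) (B_nU S), BN.parabolic_le_iff]
  refine ⟨le_rfl, ?_⟩
  rintro _ ⟨j, hj, rfl⟩
  obtain ⟨i, rfl⟩ := S.e.surjective j
  refine absurd (fun b hb => ?_) (not_conj S i)
  obtain ⟨u, hu, t, ht, rfl⟩ := decB S hb
  have h1 : (S.s i)⁻¹ * u * S.s i ∈ S.U := by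
    simpa using (mem_normalizer_iff.1 (inv_mem (show S.s i ∈ _ from hj)) u).1 hu
  have := mul_mem (U_le S h1) (T_conj S (s_N S i) ht).1
  simpa [mul_assoc] using this

theorem X_le_Q {J : Finset (Fin n)} {k : Fin n} (h : k ∉ J) : S.X k ≤ S.Q J := fun y hy => by
  have := S.conj k 1 (one_mem _) (by
    rw [BN.mkW_one, mul_one, (BN.exchange S.bn).len_s, (BN.gens S.bn).len_eq_zero_iff.2 rfl]
    exact one_pos) (J.map S.e.toEmbedding) (by
    rw [BN.mkW_one, inv_one, one_mul, mul_one, BN.s_mem_WJ_iff]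
    simpa using h) y hy
  simpa using this

theorem P_one (i : Fin n) : S.P {i} = S.bn.parabolic {S.s i} := by
  simp [Sys.P, BN.PJ]

theorem mem_P (i : Fin n) (g : G) :
    g ∈ S.P {i} ↔ g ∈ S.B ∨ ∃ y ∈ S.X i, ∃ b ∈ S.B, g = y * S.s i * b := by
  rw [P_one, BN.mem_parabolic_singleton_iff]
  refine or_congr Iff.rfl ⟨fun h => ?_, ?_⟩
  · obtain ⟨y, hy, e⟩ := S.cell i g h
    exact ⟨y, hy, _, inv_mem e, by group⟩
  · rintro ⟨y, hy, b, hb, rfl⟩
    exact BN.mul_mem_cell_right hb (BN.mul_mem_cell_left (X_leB S i hy) (BN.s_mem_cell _))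

theorem T_nL (i : Fin n) : S.T ≤ normalizer (S.L i : Set G) := by
  have key : ∀ t ∈ S.T, ∀ x ∈ S.L i, t * x * t⁻¹ ∈ S.L i := fun t ht => by
    have : S.L i ≤ (S.L i).comap (MulAut.conj t).toMonoidHom := by
      refine sup_le (fun x hx => ?_) (fun x hx => ?_)
      · exact mem_sup_left ((mem_normalizer_iff.1 (S.X_T i ht) x).1 hx)
      · refine mem_sup_right (mem_cn.2 ?_)
        have := (mem_normalizer_iff.1 (S.X_T i (T_conj S (s_N S i) ht)) _).1 (mem_cn.1 hx)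
        simpa [mul_assoc] using this
    exact fun x hx => this hx
  intro t ht
  refine mem_normalizer_iff.2 fun x => ⟨key t ht x, fun h => ?_⟩
  simpa [mul_assoc] using key t⁻¹ (inv_mem ht) _ h

theorem L_inf (i : Fin n) : S.L i ⊓ S.B = S.X i ⊔ (S.T ⊓ S.L i) := by
  refine le_antisymm ?_ (sup_le (le_inf le_sup_left (X_leB S i))
    (le_inf inf_le_right (inf_le_left.trans inf_le_left)))
  rintro g ⟨hg, hb⟩
  obtain ⟨u, hu, t, ht, rfl⟩ := decB S hb
  obtain ⟨x, hx, q, hq, rfl⟩ := dec_r ((X_leB S i).trans (B_nQ S {i})) (X_sup S i ▸ hu)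
  have h1 : q ∈ (S.T ⊔ S.L i) ⊓ S.Q {i} := ⟨by
    have := mul_mem (mul_mem (inv_mem (mem_sup_right (S := S.T) (mem_sup_left hx)))
      (mem_sup_right hg)) (inv_mem (mem_sup_left (T := S.L i) ht))
    simpa [mul_assoc] using this, hq⟩
  rw [levi1, mem_bot] at h1
  subst h1
  rw [mul_one] at hg ⊢
  refine mul_mem (mem_sup_left hx) (mem_sup_right ⟨ht, ?_⟩)
  simpa using mul_mem (inv_mem (mem_sup_left (T := cn (S.s i) (S.X i)) hx)) hg

theorem s_t (i : Fin n) : ∃ t ∈ S.T, S.s i * t ∈ S.L i := by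
  obtain ⟨l, hl, t, ht, e⟩ := dec_l (T_nL S i) (sup_comm S.T (S.L i) ▸ S.s_mem i)
  exact ⟨t⁻¹, inv_mem ht, by rw [show S.s i = l * t from e]; simpa using hl⟩

theorem s_mem_P {J : Finset (Fin n)} {i : Fin n} (h : i ∈ J) : S.s i ∈ S.P J :=
  BN.s_mem_parabolic_iff'.2 (by simpa using h)

theorem L_le_P {J : Finset (Fin n)} {i : Fin n} (h : i ∈ J) : S.L i ≤ S.P J := by
  have h1 : S.X i ≤ S.P J := (X_leB S i).trans (BN.B_le_PJ _)
  refine sup_le h1 fun x hx => ?_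
  have := mul_mem (mul_mem (s_mem_P S h) (h1 (mem_cn.1 hx))) (inv_mem (s_mem_P S h))
  simpa [mul_assoc] using this

variable [Finite G] [hp : Fact p.Prime]

theorem U_inf_T : S.U ⊓ S.T = ⊥ := by
  refine disjoint_iff.1 (Subgroup.disjoint_of_coprime_natCard ?_)
  obtain ⟨k, hk⟩ := (S.sp.U_pgroup ∅).exists_card_eq
  rw [hk]
  exact ((Nat.Prime.coprime_iff_not_dvd hp.out).2 S.sp.coprime).pow_left k

theorem q_pow (i : Fin n) : ∃ c, 0 < c ∧ S.q i = p ^ c := by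
  obtain ⟨c, hc⟩ := ((S.sp.U_pgroup ∅).to_le (X_le S i)).exists_card_eq
  refine ⟨c, Nat.pos_of_ne_zero fun h => X_ne S i ?_, hc⟩
  rw [h, pow_zero] at hc
  exact card_eq_one.1 hc

theorem uniq (i : Fin n) {y : G} (hy : y ∈ S.X i) (h : (S.s i)⁻¹ * y * S.s i ∈ S.B) : y = 1 := by
  obtain ⟨m, hm, hP, hn⟩ := S.sp.exists_n (({i} : Finset (Fin n)).map S.e.toEmbedding)
  have h1 : m⁻¹ * y * m ∈ S.B := by
    rcases BN.mem_parabolic_singleton_iff.1 (P_one S i ▸ (show m ∈ S.P {i} from hP)) with h2 | h2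
    · exact mul_mem (mul_mem (inv_mem h2) (X_leB S i hy)) h2
    · have h3 := (BN.mkW_eq_iff (s_N S i) hm).1 (BN.eq_of_mem_cell h2 (BN.self_mem_cell hm))
      have := mul_mem (mul_mem (inv_mem h3) h) h3
      simpa [mul_assoc] using this
  obtain ⟨q, hq, t, ht, e⟩ := dec_l (inf_le_left.trans (B_nQ S {i})) (hn y (X_leB S i hy) h1)
  have h2 : t ∈ S.U ⊓ S.T := ⟨by
    have := mul_mem (inv_mem (Q_le S _ hq)) (X_le S i hy)
    simpa [e] using this, ht⟩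
  rw [U_inf_T, mem_bot] at h2
  rw [h2, mul_one] at e
  exact mem_bot.1 (X_inf S i ▸ ⟨hy, e ▸ hq⟩)

omit hp in
theorem two_le {i j : Fin n} (h : i ≠ j) : 2 ≤ S.m i j := by
  have h0 : 0 < S.m i j := orderOf_pos _
  have h1 : S.m i j ≠ 1 := fun e => h (S.e.injective (BN.gens_s_injective (by
    have := orderOf_eq_one_iff.1 e
    rw [← (BN.gens S.bn).inv_s (S.e j)]
    exact eq_inv_of_mul_eq_one_left this)))
  omega

theorem bas1 : Bas1Stmt := fun S =>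
  ⟨norm_U S, ⟨Sylow.ofCard S.U S.sp.card_U, rfl⟩, S.sp.card_U, S.sp.card_B, U_inf_T S,
    fun _ hb => decB S hb, by rw [Sys.Q, Finset.map_empty],
    S.sp.U_univ _ (by simp), fun _ _ h => S.anti _ _ (Finset.map_subset_map.2 h), Q_le S,
    fun i => ⟨X_sup S i, X_inf S i, X_ne S i, q_pow S i⟩, fun _ _ h => X_le_Q S h, mem_P S,
    fun i _ hy h => uniq S i hy h, L_inf S, s_t S, fun _ _ h => L_le_P S h,
    fun i => by rw [Sys.m, (BN.gens S.bn).s_mul_s, orderOf_one],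
    fun i j => by
      rw [Sys.m, Sys.m, ← orderOf_inv, mul_inv_rev, (BN.gens S.bn).inv_s, (BN.gens S.bn).inv_s],
    fun _ _ h => two_le S h⟩

end Cfsg.Agent.H36.CkB
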