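import Cfsg.Agent.H36.O8T1

/-! Frames for the large Ree groups: Bruhat decomposition, uniqueness, the centraliser of a
central involution. -/

set_option autoImplicit false
set_option linter.unusedSimpArgs false
set_option linter.unnecessarySeqFocus false

namespace Cfsg.Agent.H36.O8T

open Cfsg.Agent.H39 Cfsg.Agent.H83 Cfsg.Agent.H15.O8 Subgroup

variable {K : Type*} [Field K] {T : Tits K} {G : Type*} [Group G] {G' : Type*} [Group G']

section PF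
variable (M : PF T G)

/-- The rotation. -/
def rho : G := M.n1 * M.n8

/-- Conjugation by a power of the rotation. -/
def rot (k : ℤ) (g : G) : G := rho M ^ k * g * (rho M ^ k)⁻¹

/-- The Borel subgroup. -/
def Bo : Subgroup G := M.φ.range ⊔ M.h.range

/-- Words in the two reflections. -/
def IsN (w : G) : Prop := ∃ k : ℤ, w = rho M ^ k ∨ w = M.n1 * rho M ^ k

theorem n1_inv : M.n1⁻¹ = M.n1 := inv_eq_of_mul_eq_one_right M.n1n1

theorem n8_inv : M.n8⁻¹ = M.n8 := inv_eq_of_mul_eq_one_right M.n8n8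

theorem rho_inv : (rho M)⁻¹ = M.n8 * M.n1 := by rw [rho, mul_inv_rev, n1_inv, n8_inv]

theorem rot_add (k j : ℤ) (g : G) : rot M (k + j) g = rot M k (rot M j g) := by
  simp only [rot, zpow_add]; group

theorem rot_zero (g : G) : rot M 0 g = g := by simp [rot]

theorem rot_one (g : G) : rot M 1 g = M.n1 * (M.n8 * g * M.n8) * M.n1 := by
  rw [rot, zpow_one, rho_inv, rho]; group

theorem rot_neg (g : G) : rot M (-1) g = M.n8 * (M.n1 * g * M.n1) * M.n8 := by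
  rw [rot, zpow_neg_one, inv_inv, rho_inv, rho]; group

theorem rot_up {k : ℤ} {g : G} {u : U T} (e : rot M k g = M.φ u) (h1 : u ∈ Q T)
    (h2 : w8 u ∈ E T) : rot M (1 + k) g = M.φ (w1 (w8 u)) := by
  rw [rot_add, e, rot_one, M.n8φ u h1, M.n1φ _ h2]

theorem rot_down {k : ℤ} {g : G} {u : U T} (e : rot M k g = M.φ u) (h1 : u ∈ E T)
    (h2 : w1 u ∈ Q T) : rot M (-1 + k) g = M.φ (w8 (w1 u)) := by
  rw [rot_add, e, rot_neg, M.n1φ u h1, M.n8φ _ h2]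

theorem r1_1 (t : K) : rot M 1 (M.φ (x1 T t)) = M.φ (x3 T t) :=
  (rot_up M (rot_zero M _) (by o8s) (by o8s)).trans (congrArg _ (by ext <;> o8s))

theorem r1_2 (t : K) : rot M 2 (M.φ (x1 T t)) = M.φ (x5 T t) :=
  (rot_up M (r1_1 M t) (by o8s) (by o8s)).trans (congrArg _ (by ext <;> o8s))

theorem r1_3 (t : K) : rot M 3 (M.φ (x1 T t)) = M.φ (x7 T t) :=
  (rot_up M (r1_2 M t) (by o8s) (by o8s)).trans (congrArg _ (by ext <;> o8s))

theorem r1_4 (t : K) : rot M 4 (M.φ (x1 T t)) = M.n1 * M.φ (x1 T t) * M.n1 := by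
  rw [show (4 : ℤ) = 1 + 3 from rfl, rot_add, r1_3, rot_one, M.n8φ _ (by o8s)]
  congr 3
  ext <;> o8s

theorem r8_1 (b a : K) : rot M (-1) (M.φ (y8 T b * x8 T a)) = M.φ (y6 T b * x6 T a) :=
  (rot_down M (rot_zero M _) (by o8s) (by o8s)).trans (congrArg _ (by ext <;> o8s))

theorem r8_2 (b a : K) : rot M (-2) (M.φ (y8 T b * x8 T a)) = M.φ (y4 T b * x4 T a) :=
  (rot_down M (r8_1 M b a) (by o8s) (by o8s)).trans (congrArg _ (by ext <;> o8s))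

theorem r8_3 (b a : K) : rot M (-3) (M.φ (y8 T b * x8 T a)) = M.φ (y2 T b * x2 T a) :=
  (rot_down M (r8_2 M b a) (by o8s) (by o8s)).trans (congrArg _ (by ext <;> o8s))

theorem r8_4 (b a : K) :
    rot M (-4) (M.φ (y8 T b * x8 T a)) = M.n8 * M.φ (y8 T b * x8 T a) * M.n8 := by
  rw [show (-4 : ℤ) = -1 + -3 from rfl, rot_add, r8_3, rot_neg, M.n1φ _ (by o8s)]
  congr 3
  ext <;> o8s

theorem eq_U1 {v : U T} (h : v ∈ U1 T) : v = x1 T v.a1 := by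
  obtain ⟨h1, h2, h3, h4, h5, h6, h7, h8, h9, h10, h11⟩ := h
  ext <;> o8s <;> assumption

theorem eq_U8 {v : U T} (h : v ∈ U8 T) : v = y8 T v.b8 * x8 T v.a8 := by
  obtain ⟨h1, h2, h3, h4, h5, h6, h7, h8, h9, h10⟩ := h
  ext <;> o8s <;> assumption

theorem n1_rho (k : ℤ) : M.n1 * rho M ^ k * M.n1 = rho M ^ (-k) := by
  have : M.n1 * rho M * M.n1⁻¹ = (rho M)⁻¹ := by
    rw [rho_inv, n1_inv, rho, ← mul_assoc, M.n1n1, one_mul]
  rw [zpow_neg, ← inv_zpow, ← this, conj_zpow, n1_inv]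

theorem n8_eq : M.n8 = M.n1 * rho M := by rw [rho, ← mul_assoc, M.n1n1, one_mul]

theorem n1_rot (k : ℤ) (g : G) :
    M.n1 * rot M k g * M.n1 = rot M (-k) (M.n1 * g * M.n1) := by
  rw [rot, rot, ← n1_rho, mul_inv_rev, mul_inv_rev, n1_inv]
  calc _ = M.n1 * rho M ^ k * 1 * g * 1 * (rho M ^ k)⁻¹ * M.n1 := by group
    _ = _ := by rw [← M.n1n1]; group

theorem h_norm_S (c : Kˣ × Kˣ) : M.h c ∈ normalizer (M.φ.range : Set G) := by
  have key : ∀ c, cj (M.h c) M.φ.range ≤ M.φ.range := by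
    rintro c _ ⟨_, ⟨u, rfl⟩, rfl⟩
    exact ⟨_, (M.hφ c u).symm⟩
  refine cj_eq_self_iff.1 (le_antisymm (key c) ?_)
  have := cj_le_iff.1 (key c⁻¹)
  rwa [map_inv, inv_inv] at this

theorem Bo_norm : Bo M ≤ normalizer (M.φ.range : Set G) :=
  sup_le le_normalizer fun _ ⟨c, e⟩ => e ▸ h_norm_S M c

theorem mem_Bo {g : G} : g ∈ Bo M ↔ ∃ u c, g = M.φ u * M.h c := by
  rw [Bo, mem_sup_left_norm (H := M.h.range) fun _ ⟨c, e⟩ => e ▸ h_norm_S M c]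
  exact ⟨fun ⟨_, ⟨u, e⟩, _, ⟨c, e'⟩, k⟩ => ⟨u, c, by rw [e, e', k]⟩,
    fun ⟨u, c, k⟩ => ⟨_, ⟨u, rfl⟩, _, ⟨c, rfl⟩, k.symm⟩⟩

theorem φ_Bo (u : U T) : M.φ u ∈ Bo M := mem_sup_left ⟨u, rfl⟩

theorem h_Bo (c : Kˣ × Kˣ) : M.h c ∈ Bo M := mem_sup_right ⟨c, rfl⟩

theorem eq_one_of_h {c : Kˣ × Kˣ} (h : M.h c ∈ M.φ.range) : c = 1 := by
  obtain ⟨u, e⟩ := h
  have k : ∀ v, u * v * u⁻¹ = tor T c v := fun v => M.inj (by
    rw [← M.hφ, ← e, map_mul, map_mul, map_inv])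
  have h4 := congrArg U.b4 (mul_inv_eq_iff_eq_mul.1 (k (y4 T 1)))
  have h6 := congrArg U.b6 (mul_inv_eq_iff_eq_mul.1 (k (y6 T 1)))
  rw [tor_apply] at h4 h6
  o8s at h4 h6
  refine Prod.ext (Units.ext ?_) (Units.ext ?_)
  · show (c.1 : K) = 1
    linear_combination -h4
  · show (c.2 : K) = 1
    linear_combination -h6

theorem n_norm_H : M.n1 ∈ normalizer (M.h.range : Set G) ∧ M.n8 ∈ normalizer (M.h.range : Set G) := by
  have key : ∀ s : G, s * s = 1 → (∀ c, s * M.h c * s ∈ M.h.range) →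
      s ∈ normalizer (M.h.range : Set G) := fun s ss k => by
    have i : s⁻¹ = s := inv_eq_of_mul_eq_one_right ss
    have : cj s M.h.range ≤ M.h.range := by
      rintro _ ⟨_, ⟨c, rfl⟩, rfl⟩
      have := k c
      nth_rw 2 [← i] at this
      exact this
    exact cj_eq_self_iff.1 (le_antisymm this (by have := cj_le_iff.1 this; rwa [i] at this))
  exact ⟨key _ M.n1n1 fun c => ⟨_, (M.n1h c.1 c.2).symm⟩,
    key _ M.n8n8 fun c => ⟨_, (M.n8h c.1 c.2).symm⟩⟩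

variable {M} in
theorem IsN.norm {w : G} (h : IsN M w) : w ∈ normalizer (M.h.range : Set G) := by
  have : rho M ∈ normalizer (M.h.range : Set G) := mul_mem (n_norm_H M).1 (n_norm_H M).2
  obtain ⟨k, rfl | rfl⟩ := h
  · exact zpow_mem this k
  · exact mul_mem (n_norm_H M).1 (zpow_mem this k)

variable {M} in
theorem IsN.n1 {w : G} (h : IsN M w) : IsN M (M.n1 * w) := by
  obtain ⟨k, rfl | rfl⟩ := h
  · exact ⟨k, .inr rfl⟩
  · exact ⟨k, .inl (by rw [← mul_assoc, M.n1n1, one_mul])⟩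

theorem n1_mul_rho (k : ℤ) : M.n1 * rho M ^ k = M.n8 * rho M ^ (k - 1) := by
  rw [n8_eq]; group

variable {M} in
theorem IsN.n8 {w : G} (h : IsN M w) : IsN M (M.n8 * w) := by
  obtain ⟨k, rfl | rfl⟩ := h
  · exact ⟨k + 1, .inr (by rw [n1_mul_rho, add_sub_cancel_right])⟩
  · exact ⟨k - 1, .inl (by rw [n1_mul_rho, ← mul_assoc, M.n8n8, one_mul])⟩

/-- The union of the Bruhat cells. -/
def Cells : Set G := {g | ∃ u w, IsN M w ∧ ∃ b ∈ Bo M, g = M.φ u * w * b}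

theorem cells_of {u : U T} {c : Kˣ × Kˣ} {w b : G} (hw : IsN M w) (hb : b ∈ Bo M) :
    M.φ u * M.h c * w * b ∈ Cells M := by
  refine ⟨u, w, hw, w⁻¹ * M.h c * w * b, mul_mem (mem_sup_right ?_) hb, by group⟩
  exact conj_mem' le_rfl hw.norm ⟨c, rfl⟩

theorem step {s : G} {P D : Subgroup (U T)} (ss : s * s = 1)
    (h1 : ∀ u, ∃ e ∈ D, ∃ v ∈ P, u = e * v) (h2 : ∀ e ∈ D, ∃ e', s * M.φ e * s = M.φ e')
    (h3 : ∀ v ∈ P, v ≠ 1 → ∃ a, ∃ b ∈ P, ∃ c, s * M.φ v * s = M.φ a * M.h c * s * M.φ b)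
    (h4 : ∀ w, IsN M w → IsN M (s * w))
    (h5 : ∀ w, IsN M w → (∀ v ∈ P, w⁻¹ * M.φ v * w ∈ M.φ.range) ∨
      ∀ v ∈ P, w⁻¹ * (s * M.φ v * s) * w ∈ M.φ.range) {x : G} (hx : x ∈ Cells M) :
    s * x ∈ Cells M := by
  obtain ⟨u, w, hw, b, hb, rfl⟩ := hx
  obtain ⟨e, he, v, hv, rfl⟩ := h1 u
  obtain ⟨e', k⟩ := h2 e he
  have e0 : s * (M.φ (e * v) * w * b) = M.φ e' * (s * M.φ v * w * b) := by
    rw [← k, map_mul]
    calc _ = s * M.φ e * 1 * (M.φ v * w * b) := by group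
      _ = _ := by rw [← ss]; group
  rw [e0]
  rcases h5 w hw with k1 | k1
  · exact ⟨e', s * w, h4 w hw, _, mul_mem (mem_sup_left (k1 v hv)) hb, by group⟩
  by_cases v1 : v = 1
  · exact ⟨e', s * w, h4 w hw, b, hb, by rw [v1, map_one]; group⟩
  obtain ⟨a, b', hb', c, k2⟩ := h3 v hv v1
  have := cells_of M (u := e' * a) (c := c) hw (mul_mem (mem_sup_left (k1 b' hb')) hb)
  convert this using 1
  calc _ = M.φ e' * (s * M.φ v * 1 * w * b) := by rw [mul_one]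
    _ = M.φ e' * (s * M.φ v * s) * s * w * b := by rw [← ss]; group
    _ = _ := by rw [k2, map_mul]; group

theorem not_S9 : M.n1 * M.φ (x1 T 1) * M.n1 ∉ M.φ.range := fun h => by
  obtain ⟨u, e⟩ : M.n1 ∈ M.φ.range := by
    rw [n1_eq M]
    exact mul_mem (mul_mem (inv_mem ⟨_, rfl⟩) h) (inv_mem ⟨_, rfl⟩)
  have := M.n1φ (x4 T 1) (by o8s)
  nth_rw 2 [← n1_inv] at this
  rw [← e, ← map_mul, ← map_inv, ← map_mul, cZ (x4 T 1) (by o8s), mul_inv_cancel_right] at this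
  have := congrArg U.a4 (M.inj this)
  o8s at this
  exact one_ne_zero this

theorem not_S0 {a : K} (ha : a ≠ 0) : M.n8 * M.φ (y8 T 0 * x8 T a) * M.n8 ∉ M.φ.range := fun h => by
  have := M.cf.mem_Q_of_conj (u := y8 T 0 * x8 T a) (mem_sup_left h)
  o8s at this
  exact ha this

end PF

section FF
variable (M : FF T G)

theorem rho_per {k j : ℤ} (h : (8 : ℤ) ∣ k - j) : rho M.toPF ^ k = rho M.toPF ^ j := by
  obtain ⟨m, e⟩ := h
  have : rho M.toPF ^ (8 : ℤ) = 1 := (zpow_natCast _ 8).trans M.braid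
  rw [show k = 8 * m + j by omega, zpow_add, zpow_mul, this, one_zpow, one_mul]

theorem rot_per {k j : ℤ} (h : (8 : ℤ) ∣ k - j) (g : G) : rot M.toPF k g = rot M.toPF j g := by
  rw [rot, rot, rho_per M h]

theorem pos1 {k : ℤ} (h : k % 8 ≤ 3) (t : K) : rot M.toPF k (M.φ (x1 T t)) ∈ M.φ.range := by
  have : 8 ∣ k - 0 ∨ 8 ∣ k - 1 ∨ 8 ∣ k - 2 ∨ 8 ∣ k - 3 := by omega
  rcases this with e | e | e | e <;> rw [rot_per M e]
  exacts [⟨_, (rot_zero _ _).symm⟩, ⟨_, (r1_1 _ t).symm⟩, ⟨_, (r1_2 _ t).symm⟩,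
    ⟨_, (r1_3 _ t).symm⟩]

theorem pos8 {k : ℤ} (h : (-k) % 8 ≤ 3) (b a : K) :
    rot M.toPF k (M.φ (y8 T b * x8 T a)) ∈ M.φ.range := by
  have : 8 ∣ k - 0 ∨ 8 ∣ k - -1 ∨ 8 ∣ k - -2 ∨ 8 ∣ k - -3 := by omega
  rcases this with e | e | e | e <;> rw [rot_per M e]
  exacts [⟨_, (rot_zero _ _).symm⟩, ⟨_, (r8_1 _ b a).symm⟩, ⟨_, (r8_2 _ b a).symm⟩,
    ⟨_, (r8_3 _ b a).symm⟩]

theorem rot_inv (M : PF T G) (k : ℤ) (g : G) : (rho M ^ k)⁻¹ * g * rho M ^ k = rot M (-k) g := by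
  rw [rot]; group

theorem swap_of {s : G} (ss : s * s = 1) (w g : G) :
    (s * w)⁻¹ * g * (s * w) = w⁻¹ * (s * g * s) * w ∧
      (s * w)⁻¹ * (s * g * s) * (s * w) = w⁻¹ * g * w := by
  have i : s⁻¹ = s := inv_eq_of_mul_eq_one_right ss
  refine ⟨by rw [mul_inv_rev, i]; group, ?_⟩
  calc _ = w⁻¹ * g * (s * s) * w := by group
    _ = _ := by rw [ss, mul_one]

theorem n1_cells {x : G} (hx : x ∈ Cells M.toPF) : M.n1 * x ∈ Cells M.toPF := by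
  have key : ∀ k : ℤ, (∀ v ∈ U1 T, (rho M.toPF ^ k)⁻¹ * M.φ v * rho M.toPF ^ k ∈ M.φ.range) ∨
      ∀ v ∈ U1 T, (rho M.toPF ^ k)⁻¹ * (M.n1 * M.φ v * M.n1) * rho M.toPF ^ k ∈ M.φ.range := by
    intro k
    by_cases h : (-k) % 8 ≤ 3
    · exact .inl fun v hv => by rw [rot_inv, eq_U1 hv]; exact pos1 M h _
    · exact .inr fun v hv => by
        rw [rot_inv, eq_U1 hv, ← r1_4, ← rot_add]; exact pos1 M (by omega) _
  refine step M.toPF (P := U1 T) (D := E T) M.n1n1 (fun u => ⟨u * (x1 T u.a1)⁻¹, ?_, x1 T u.a1,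
    by o8s, by group⟩) (fun e he => ⟨_, M.n1φ e he⟩) (fun v hv v1 => ?_) (fun w => IsN.n1) ?_ hx
  · o8s; o8ring T
  · have : v.a1 ≠ 0 := fun e => v1 (by rw [eq_U1 hv, e]; rfl)
    exact ⟨_, x1 T ((Units.mk0 _ this)⁻¹ : Kˣ), by o8s, _,
      (congrArg (fun y => M.n1 * M.φ y * M.n1) (eq_U1 hv)).trans (M.rk1 (Units.mk0 _ this))⟩
  · rintro _ ⟨k, rfl | rfl⟩
    · exact key k
    · simp only [(swap_of M.n1n1 _ _).2]
      simp only [(swap_of M.n1n1 _ _).1]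
      exact (key k).symm

theorem n8_cells {x : G} (hx : x ∈ Cells M.toPF) : M.n8 * x ∈ Cells M.toPF := by
  have key : ∀ k : ℤ, (∀ v ∈ U8 T, (rho M.toPF ^ k)⁻¹ * M.φ v * rho M.toPF ^ k ∈ M.φ.range) ∨
      ∀ v ∈ U8 T, (rho M.toPF ^ k)⁻¹ * (M.n8 * M.φ v * M.n8) * rho M.toPF ^ k ∈ M.φ.range := by
    intro k
    by_cases h : k % 8 ≤ 3
    · exact .inl fun v hv => by rw [rot_inv, eq_U8 hv]; exact pos8 M (by omega) _ _
    · exact .inr fun v hv => by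
        rw [rot_inv, eq_U8 hv, ← r8_4, ← rot_add]; exact pos8 M (by omega) _ _
  refine step M.toPF (P := U8 T) (D := Q T) M.n8n8 split8 (fun e he => ⟨_, M.n8φ e he⟩)
    (fun v hv v1 => ?_) (fun w => IsN.n8) ?_ hx
  · obtain ⟨a, -, b, hb, c, e⟩ := M.rk8 v hv v1
    exact ⟨a, b, hb, _, e⟩
  · rintro _ ⟨k, rfl | rfl⟩
    · exact key k
    · simp only [n1_mul_rho, (swap_of M.n8n8 _ _).2]
      simp only [(swap_of M.n8n8 _ _).1]
      exact (key (k - 1)).symm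

/-- The Bruhat decomposition. -/
theorem bruhat {g : G} (hg : g ∈ M.X) :
    ∃ u w, IsN M.toPF w ∧ ∃ b ∈ Bo M.toPF, g = M.φ u * w * b := by
  let L : Subgroup G :=
    { carrier := {g | ∀ x ∈ Cells M.toPF, g * x ∈ Cells M.toPF ∧ g⁻¹ * x ∈ Cells M.toPF}
      mul_mem' := fun ha hb x hx => ⟨by rw [mul_assoc]; exact (ha _ (hb x hx).1).1,
        by rw [mul_inv_rev, mul_assoc]; exact (hb _ (ha x hx).2).2⟩
      one_mem' := fun x hx => by simpa using hx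
      inv_mem' := fun ha x hx => ⟨(ha x hx).2, by rw [inv_inv]; exact (ha x hx).1⟩ }
  have k1 : ∀ u, ∀ x ∈ Cells M.toPF, M.φ u * x ∈ Cells M.toPF := by
    rintro u _ ⟨v, w, hw, b, hb, rfl⟩
    exact ⟨u * v, w, hw, b, hb, by rw [map_mul]; group⟩
  have k2 : ∀ c, ∀ x ∈ Cells M.toPF, M.h c * x ∈ Cells M.toPF := by
    rintro c _ ⟨v, w, hw, b, hb, rfl⟩
    convert cells_of M.toPF (u := tor T c v) (c := c) hw hb using 1
    rw [← M.hφ]; group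
  have : M.X ≤ L := X_le_of M.toPF (fun u x hx => ⟨k1 u x hx, map_inv M.φ u ▸ k1 _ x hx⟩)
    (fun c x hx => ⟨k2 c x hx, map_inv M.h c ▸ k2 _ x hx⟩)
    (fun x hx => ⟨n1_cells M hx, (n1_inv M.toPF).symm ▸ n1_cells M hx⟩)
    fun x hx => ⟨n8_cells M hx, (n8_inv M.toPF).symm ▸ n8_cells M hx⟩
  have := (this hg 1 ⟨1, 1, ⟨0, .inl (zpow_zero _).symm⟩, 1, one_mem _, by simp⟩).1
  rwa [mul_one] at this

theorem dvd_of_rho {k : ℤ} (h : rho M.toPF ^ k ∈ Bo M.toPF) : 8 ∣ k := by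
  by_contra hk
  obtain ⟨j, hj⟩ : ∃ j, 8 ∣ k * j - 4 := by
    have : 8 ∣ k * 1 - 4 ∨ 8 ∣ k * 2 - 4 ∨ 8 ∣ k * 4 - 4 := by omega
    rcases this with e | e | e <;> exact ⟨_, e⟩
  have := zpow_mem h j
  rw [← zpow_mul, rho_per M hj] at this
  exact not_S9 M.toPF (r1_4 M.toPF 1 ▸ conj_mem (Bo_norm M.toPF) this ⟨x1 T 1, rfl⟩)

theorem not_Bo (k : ℤ) : M.n1 * rho M.toPF ^ k ∉ Bo M.toPF := fun h => by
  have key : ∀ g, M.n1 * rot M.toPF k g * M.n1 ∈ M.φ.range → g ∈ M.φ.range := fun g hg => by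
    refine (mem_normalizer_iff.1 (Bo_norm M.toPF h) g).2 ?_
    rw [mul_inv_rev, n1_inv]
    simpa [rot, mul_assoc] using hg
  by_cases hk : (-k) % 8 ≤ 3
  · refine not_S9 M.toPF (key _ ?_)
    rw [← r1_4, ← rot_add, n1_rot, ← r1_4, ← rot_add]
    exact pos1 M (by omega) _
  · refine not_S0 M.toPF one_ne_zero (key _ ?_)
    rw [← r8_4, ← rot_add, n1_rot, M.n1φ _ (by o8s),
      show w1 (y8 T 0 * x8 T 1) = y2 T 0 * x2 T 1 by ext <;> o8s, ← r8_3, ← rot_add]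
    exact pos8 M (by omega) _ _

/-- The product of two frames. -/
def fprod (M : FF T G) (M' : FF T G') : FF T (G × G') where
  φ := M.φ.prod M'.φ
  inj _ _ h := M.inj (congrArg Prod.fst h)
  n1 := (M.n1, M'.n1)
  n8 := (M.n8, M'.n8)
  h := M.h.prod M'.h
  n1n1 := Prod.ext M.n1n1 M'.n1n1
  n8n8 := Prod.ext M.n8n8 M'.n8n8
  n1φ u hu := Prod.ext (M.n1φ u hu) (M'.n1φ u hu)
  n8φ u hu := Prod.ext (M.n8φ u hu) (M'.n8φ u hu)
  hφ c u := Prod.ext (M.hφ c u) (M'.hφ c u)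
  n1h a b := Prod.ext (M.n1h a b) (M'.n1h a b)
  n8h a b := Prod.ext (M.n8h a b) (M'.n8h a b)
  rk1 t := Prod.ext (M.rk1 t) (M'.rk1 t)
  rk8 := (cprod M.cf M'.cf).rk
  braid := Prod.ext M.braid M'.braid

theorem map_X_of (M' : FF T G') (f : G →* G') (h1 : f.comp M.φ = M'.φ) (h2 : f.comp M.h = M'.h)
    (h3 : f M.n1 = M'.n1) (h4 : f M.n8 = M'.n8) :
    (Bo M.toPF).map f = Bo M'.toPF ∧ M.X.map f = M'.X := by
  simp only [PF.X, Bo, Subgroup.map_sup, ← MonoidHom.range_comp, MonoidHom.map_zpowers, h1, h2,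
    h3, h4, and_self]

theorem inj_X_of (M' : FF T G') (f : G →* G') (h1 : f.comp M.φ = M'.φ) (h2 : f.comp M.h = M'.h)
    (h3 : f M.n1 = M'.n1) (h4 : f M.n8 = M'.n8) (g : G) (hg : g ∈ M.X) (e : f g = 1) : g = 1 := by
  have k1 : ∀ u, f (M.φ u) = M'.φ u := fun u => DFunLike.congr_fun h1 u
  have k2 : ∀ u, f (M.h u) = M'.h u := fun u => DFunLike.congr_fun h2 u
  have k3 : f (rho M.toPF) = rho M'.toPF := by rw [rho, rho, map_mul, h3, h4]
  obtain ⟨u, w, hw, b, hb, rfl⟩ := bruhat M hg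
  have hb' : f b ∈ Bo M'.toPF := (map_X_of M M' f h1 h2 h3 h4).1 ▸ mem_map_of_mem f hb
  have hw' : f w ∈ Bo M'.toPF := by
    have : f w = (f (M.φ u))⁻¹ * f (M.φ u * w * b) * (f b)⁻¹ := by
      rw [map_mul, map_mul]; group
    rw [this, e, mul_one, k1]
    exact mul_mem (inv_mem (φ_Bo _ u)) (inv_mem hb')
  obtain ⟨k, rfl | rfl⟩ := hw
  · rw [map_zpow, k3] at hw'
    rw [rho_per M (j := 0) (by simpa using dvd_of_rho M' hw'), zpow_zero, mul_one] at e ⊢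
    obtain ⟨v, c, k⟩ := (mem_Bo M.toPF).1 (mul_mem (φ_Bo _ u) hb)
    rw [k] at e ⊢
    rw [map_mul, k1, k2] at e
    obtain rfl : c = 1 := eq_one_of_h M'.toPF ⟨v⁻¹, by rw [map_inv, inv_eq_of_mul_eq_one_right e]⟩
    rw [map_one, mul_one] at e ⊢
    rw [M'.inj (e.trans (map_one _).symm), map_one]
  · rw [map_mul, map_zpow, k3, h3] at hw'
    exact absurd hw' (not_Bo M' k)

theorem uniq (M' : FF T G') : Nonempty (M.X ≃* M'.X) :=
  ⟨(graph_equiv (fprod M M').X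
    (map_X_of (fprod M M') M (MonoidHom.fst G G') rfl rfl rfl rfl).2
    (map_X_of (fprod M M') M' (MonoidHom.snd G G') rfl rfl rfl rfl).2
    (inj_X_of (fprod M M') M (MonoidHom.fst G G') rfl rfl rfl rfl)
    (inj_X_of (fprod M M') M' (MonoidHom.snd G G') rfl rfl rfl rfl)).choose⟩

theorem dvd_of_x4 {k : ℤ} {a b : K} (ha : a ≠ 0)
    (e : rot M.toPF k (M.φ (x4 T a)) = M.φ (x4 T b)) : 8 ∣ k := by
  have r : ∀ (j : ℤ) (t : K),
      rot M.toPF j (M.φ (x4 T t)) = rot M.toPF (j + -2) (M.φ (y8 T 0 * x8 T t)) := fun j t => by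
    rw [rot_add, r8_2]
    congr 2
    ext <;> o8s
  have s : ∀ i j : ℤ, 8 ∣ k - (i - j) → rot M.toPF i (M.φ (y8 T 0 * x8 T a)) =
      rot M.toPF j (M.φ (y8 T 0 * x8 T b)) := fun i j h => by
    have := congrArg (rot M.toPF (j + 2)) e
    rwa [← rot_add, r, r, rot_per M (j := i) (by omega), add_neg_cancel_right] at this
  by_contra hk
  have : 8 ∣ k - (0 - -1) ∨ 8 ∣ k - (0 - -2) ∨ 8 ∣ k - (0 - -3) ∨ 8 ∣ k - (-4 - 0) ∨
      8 ∣ k - (-3 - 0) ∨ 8 ∣ k - (-2 - 0) ∨ 8 ∣ k - (-1 - 0) := by omega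
  rcases this with h | h | h | h | h | h | h <;> have := s _ _ h <;>
    simp only [rot_zero, r8_1, r8_2, r8_3, r8_4] at this
  · have := congrArg U.a8 (M.inj this); o8s at this; exact ha this
  · have := congrArg U.a8 (M.inj this); o8s at this; exact ha this
  · have := congrArg U.a8 (M.inj this); o8s at this; exact ha this
  · exact not_S0 M.toPF ha ⟨_, this.symm⟩
  · have := congrArg U.a2 (M.inj this); o8s at this; exact ha this
  · have := congrArg U.a4 (M.inj this); o8s at this; exact ha this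
  · have := congrArg U.a6 (M.inj this); o8s at this; exact ha this

theorem cent {z : U T} (hz : z ∈ Z T) (z1 : z ≠ 1) :
    M.X ⊓ centralizer {M.φ z} = M.cf.C := by
  refine le_antisymm ?_ (le_inf (C_le_X _) fun g hg =>
    mem_centralizer_singleton_iff.2 (M.cf.cZ hg _ ⟨z, hz, rfl⟩).symm)
  rintro g ⟨hg, hc⟩
  obtain ⟨u, w, hw, b, hb, rfl⟩ := bruhat M hg
  obtain ⟨v, ⟨a, c⟩, rfl⟩ := (mem_Bo M.toPF).1 hb
  have z0 : z.a4 ≠ 0 := fun e => z1 (by rw [eq_x4 hz, e]; rfl)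
  have t : tor T (a, c) z = x4 T (a * T.θ a * z.a4) := by
    obtain ⟨h1, h2, h3, h4, h5, h6, h7, h8, h9, h10, h11⟩ := hz
    rw [tor_apply]
    ext <;> o8s <;> simp [*]
  have a0 : (a : K) * T.θ a * z.a4 ≠ 0 := mul_ne_zero (mt nrm_eq_zero a.ne_zero) z0
  have cz : ∀ (y : U T) (t : K), M.φ y * M.φ (x4 T t) * (M.φ y)⁻¹ = M.φ (x4 T t) := fun y t => by
    rw [← map_mul, cZ (x4 T t) (by o8s), map_mul, mul_inv_cancel_right]
  have e : w * M.φ (x4 T (a * T.θ a * z.a4)) * w⁻¹ = M.φ (x4 T z.a4) := by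
    have e1 := mul_inv_eq_iff_eq_mul.2 (mem_centralizer_singleton_iff.1 hc)
    rw [← cz v, ← t, ← M.hφ, ← cz u⁻¹, ← eq_x4 hz, map_inv]
    conv_rhs => rw [← e1]
    group
  have c8 : ∀ t, M.n8 * M.φ (x4 T t) * M.n8 = M.φ (x4 T t) := fun t => by
    rw [M.n8φ _ (by o8s), w8_Z_eq (by o8s)]
  have fin : ∀ k : ℤ, rot M.toPF k (M.φ (x4 T (a * T.θ a * z.a4))) = M.φ (x4 T z.a4) →
      rho M.toPF ^ k = 1 ∧ M.φ v * M.h (a, c) ∈ M.cf.C := fun k e => by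
    have e1 := rho_per M (j := 0) (by simpa using dvd_of_x4 M a0 e)
    rw [zpow_zero] at e1
    rw [rot, e1, one_mul, inv_one, mul_one] at e
    have := congrArg U.a4 (M.inj e)
    o8s at this
    obtain rfl : a = 1 := Units.ext (nrm_eq_one (mul_right_cancel₀ z0 (by rw [this, one_mul])))
    exact ⟨e1, mul_mem (M.cf.φ_mem v) (M.cf.d_mem c)⟩
  obtain ⟨k, rfl | rfl⟩ := hw
  · obtain ⟨e1, e2⟩ := fin k e
    rw [e1, mul_one]
    exact mul_mem (M.cf.φ_mem u) e2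
  · rw [n1_mul_rho] at e ⊢
    obtain ⟨e1, e2⟩ := fin (k - 1) (by
      rw [← c8 z.a4, ← e, rot, mul_inv_rev, n8_inv]
      calc _ = 1 * rho M.toPF ^ (k - 1) * M.φ (x4 T (a * T.θ a * z.a4)) *
          (rho M.toPF ^ (k - 1))⁻¹ * 1 := by group
        _ = _ := by rw [← M.n8n8]; group)
    rw [e1, mul_one]
    exact mul_mem (mul_mem (M.cf.φ_mem u) M.cf.n_mem) e2

end FF

end Cfsg.Agent.H36.O8T
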