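import Cfsg.Agent.H17.KnDefs
import Cfsg.Agent.H26.SLBasic
import Cfsg.Agent.H3.Cores

/-!
# The affine group of the sixteen points
-/

set_option autoImplicit false
set_option maxRecDepth 100000

namespace Cfsg.Agent.H36.KnAff

open Equiv Subgroup Cfsg.Agent.H11.A16 Cfsg.Agent.H63 Cfsg.Agent.H17.Kn
open Cfsg.Agent.H89.Rec (Syl)
open scoped Matrix

/-- The vector space. -/
abbrev V : Type := Fin 4 → ZMod 2

/-- The linear group. -/
abbrev L4 : Type := GL (Fin 4) (ZMod 2)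

/-- Coordinates. -/
def c : Ω ≃ V where
  toFun y := ![y.2, bit y.1 0, bit y.1 1, bit y.1 2]
  invFun v := ((if v 1 = 0 then 0 else 1) + (if v 2 = 0 then 0 else 2) + if v 3 = 0 then 0 else 4,
    v 0)
  left_inv := by intro y; revert y; decide +kernel
  right_inv := by intro v; revert v; decide +kernel

/-- The sum of two points. -/
def ad (y y' : Ω) : Ω := (y.1 ^^^ y'.1, y.2 + y'.2)

theorem c_ad (y y' : Ω) : c (ad y y') = c y + c y' := by revert y y'; decide +kernel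

theorem vv (v : V) : v + v = 0 := funext fun _ => CharTwo.add_self_eq_zero _

/-- A translation. -/
def tr (v : V) : Perm Ω := Function.Involutive.toPerm (fun y => c.symm (c y + v)) fun y => by
  simp only [Equiv.apply_symm_apply, add_assoc, vv, add_zero, Equiv.symm_apply_apply]

theorem c_tr (v : V) (y : Ω) : c (tr v y) = c y + v := c.apply_symm_apply _

/-- The linear maps. -/
def ln : L4 →* Perm Ω := MonoidHom.toHomPerm
  { toFun := fun g y => c.symm (g.1 *ᵥ c y)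
    map_one' := funext fun y => by
      rw [Units.val_one, Matrix.one_mulVec, Equiv.symm_apply_apply]; rfl
    map_mul' := fun g h => funext fun y => by
      rw [Units.val_mul, ← Matrix.mulVec_mulVec]
      exact congrArg (fun w => c.symm (g.1 *ᵥ w)) (c.apply_symm_apply _).symm }

theorem c_ln (g : L4) (y : Ω) : c (ln g y) = g.1 *ᵥ c y := c.apply_symm_apply _

theorem ext_c {m m' : Perm Ω} (h : ∀ y, c (m y) = c (m' y)) : m = m' :=
  Equiv.ext fun y => c.injective (h y)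

theorem tr_zero : tr 0 = 1 := ext_c fun y => by rw [c_tr, add_zero, Perm.one_apply]

theorem ln_tr (g : L4) (v : V) : ln g * tr v * (ln g)⁻¹ = tr (g.1 *ᵥ v) := by
  rw [mul_inv_eq_iff_eq_mul]
  refine ext_c fun y => ?_
  rw [Perm.mul_apply, Perm.mul_apply, c_ln, c_tr, c_tr, c_ln, Matrix.mulVec_add]

theorem ln_inj : Function.Injective ln := fun g h e => by
  refine Units.ext (Matrix.toLin'.injective (LinearMap.ext fun v => ?_))
  have h1 := c_ln g (c.symm v)
  rw [e, c_ln, Equiv.apply_symm_apply] at h1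
  exact h1.symm

theorem tr_ln_inj {v w : V} {g h : L4} (e : tr v * ln g = tr w * ln h) : v = w ∧ g = h := by
  have h1 := congrArg (fun m : Perm Ω => c (m (c.symm 0))) e
  simp only [Perm.mul_apply, c_tr, c_ln, Equiv.apply_symm_apply, Matrix.mulVec_zero,
    zero_add] at h1
  subst h1
  exact ⟨rfl, ln_inj (mul_left_cancel e)⟩

theorem mem_A {m : Perm Ω} : m ∈ AA.map pm2 ↔ ∃ v, m = tr v := by
  constructor
  · rintro ⟨u, hu, rfl⟩
    refine ⟨c (u.σ 0, u.f 0), ext_c fun ⟨p, e⟩ => ?_⟩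
    rw [c_tr, ← c_ad, pm2_apply, show u.σ p = p ^^^ u.σ 0 from hu.1 p, show u.f p = u.f 0 from hu.2 p]
    rfl
  · rintro ⟨v, rfl⟩
    obtain ⟨⟨q, a⟩, rfl⟩ := c.surjective v
    refine ⟨⟨x q, fun _ => a⟩, ⟨?_, fun _ => rfl⟩, ext_c fun ⟨p, e⟩ => ?_⟩
    · change x q ∈ TR
      revert q; decide
    · rw [c_tr, ← c_ad]; rfl

theorem tr_mem (v : V) : tr v ∈ Aff := le_normalizer (mem_A.2 ⟨v, rfl⟩)

theorem ln_mem (g : L4) : ln g ∈ Aff := mem_normalizer_fintype fun n hn => by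
  obtain ⟨v, rfl⟩ := mem_A.1 hn
  exact mem_A.2 ⟨_, ln_tr g v⟩

/-- The map preserves sums of three points. -/
def A3 (m : Perm Ω) : Prop := ∀ y y' y'', m (ad (ad y y') y'') = ad (ad (m y) (m y')) (m y'')

theorem a3_of_mem {m : Perm Ω} (h : m ∈ Aff) : A3 m := fun y y' y'' => by
  obtain ⟨w, hw⟩ := mem_A.1 ((mem_normalizer_iff.1 h _).1 (mem_A.2 ⟨c y' + c y'', rfl⟩))
  rw [mul_inv_eq_iff_eq_mul] at hw
  have k : ∀ a, c (m (tr (c y' + c y'') a)) = c (m a) + w := fun a => by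
    rw [← Perm.mul_apply, hw, Perm.mul_apply, c_tr]
  have h1 : tr (c y' + c y'') y = ad (ad y y') y'' := c.injective (by
    rw [c_tr, c_ad, c_ad, add_assoc])
  have h2 : tr (c y' + c y'') y'' = y' := c.injective (by
    rw [c_tr, add_left_comm, vv, add_zero])
  have h3 := k y''
  rw [h2] at h3
  apply c.injective
  rw [← h1, k, c_ad, c_ad, h3, add_assoc, add_right_comm, vv, zero_add]

theorem dec_of_a3 {m : Perm Ω} (h : A3 m) : ∃ v g, m = tr v * ln g := by
  let F : V → V := fun v => c (m (c.symm v))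
  have hF : ∀ a b, F (a + b) + F 0 = F a + F 0 + (F b + F 0) := fun a b => by
    have h1 := congrArg c (h (c.symm a) (c.symm b) (c.symm 0))
    rw [c_ad, c_ad, show ad (ad (c.symm a) (c.symm b)) (c.symm 0) = c.symm (a + b) from
      c.injective (by simp only [c_ad, Equiv.apply_symm_apply, add_zero])] at h1
    rw [show F (a + b) = F a + F b + F 0 from h1]
    abel
  let L : V →ₗ[ZMod 2] V := (AddMonoidHom.mk' (fun v => F v + F 0) hF).toZModLinearMap 2
  have hL : ∀ v, LinearMap.toMatrix' L *ᵥ v = F v + F 0 := fun v => by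
    rw [LinearMap.toMatrix'_mulVec]; rfl
  have hu : IsUnit (LinearMap.toMatrix' L) := Matrix.mulVec_injective_iff_isUnit.1 fun a b e => by
    rw [hL, hL] at e
    exact c.symm.injective (m.injective (c.injective (add_right_cancel e)))
  refine ⟨F 0, hu.unit, ext_c fun y => ?_⟩
  rw [Perm.mul_apply, c_tr, c_ln, IsUnit.unit_spec, hL, add_assoc, vv, add_zero]
  simp only [F, Equiv.symm_apply_apply]

theorem mem_Aff {m : Perm Ω} : m ∈ Aff ↔ ∃ v g, m = tr v * ln g :=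
  ⟨fun h => dec_of_a3 (a3_of_mem h), by
    rintro ⟨v, g, rfl⟩; exact mul_mem (tr_mem v) (ln_mem g)⟩

theorem mem_Aff' {m : Perm Ω} : m ∈ Aff ↔ A3 m :=
  ⟨a3_of_mem, fun h => mem_Aff.2 (dec_of_a3 h)⟩

theorem card_L4 : Nat.card L4 = 20160 := by
  rw [Matrix.card_GL_field]; simp [Fin.prod_univ_succ]

theorem simple_L4 : IsSimpleGroup L4 := by
  have := H26.psl_isSimpleGroup (ι := Fin 4) (F := ZMod 2) (Or.inl (by simp))
  have e : center (Matrix.SpecialLinearGroup (Fin 4) (ZMod 2)) = ⊥ := by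
    refine eq_bot_iff.2 fun A hA => ?_
    obtain ⟨r, hr, hA⟩ := Matrix.SpecialLinearGroup.mem_center_iff.1 hA
    have : r = 1 := (by decide : ∀ r : ZMod 2, r ^ 4 = 1 → r = 1) r hr
    exact Subtype.ext (by rw [← hA, this, map_one]; rfl)
  have := ((QuotientGroup.quotientMulEquivOfEq e).trans QuotientGroup.quotientBot).symm.isSimpleGroup
  exact (MulEquiv.ofBijective Matrix.SpecialLinearGroup.toGL
    ⟨Matrix.SpecialLinearGroup.toGL_injective, fun g =>
      ⟨⟨g.1, (by decide : ∀ r : ZMod 2, r ≠ 0 → r = 1) _ g.det_ne_zero⟩,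
        Units.ext rfl⟩⟩).symm.isSimpleGroup

theorem card_Aff : Nat.card Aff = 322560 := by
  rw [← Nat.card_eq_of_bijective (fun a : V × L4 =>
    (⟨tr a.1 * ln a.2, mul_mem (tr_mem _) (ln_mem _)⟩ : Aff)) ⟨fun a b e => ?_, fun m => ?_⟩,
    Nat.card_prod, card_L4, Nat.card_fun, Nat.card_zmod, Nat.card_fin]
  · norm_num
  · exact Prod.ext_iff.2 (tr_ln_inj (congrArg Subtype.val e))
  · obtain ⟨v, g, h⟩ := mem_Aff.1 m.2
    exact ⟨(v, g), Subtype.ext h.symm⟩

theorem qk (k : N2) (hk : k ∈ QK) : pm2 k ∈ Aff := mem_Aff'.2 fun ⟨p, a⟩ ⟨q, b⟩ ⟨r, e⟩ => by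
  simp only [ad, pm2_apply]
  rw [hk.1, hk.2]
  congr 1
  ring

theorem cz (m : Perm Ω) (hm : m ∈ Aff) (h : Commute m (pm2 z2)) : ∃ k ∈ QK, pm2 k = m := by
  have h1 : ∀ p e, m (p, e) = ((m (p, 0)).1, e + (m (p, 0)).2) := fun p e => by
    rcases (by decide : ∀ e : ZMod 2, e = 0 ∨ e = 1) e with rfl | rfl
    · rw [zero_add]
    · have h2 : m (pm2 z2 (p, 0)) = pm2 z2 (m (p, 0)) := congrArg (fun s : Perm Ω => s (p, 0)) h.eq
      rw [add_comm]
      exact h2
  have h2 : Function.Injective fun p => (m (p, 0)).1 := fun p q e => by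
    have h3 : m (p, (m (p, 0)).2) = m (q, (m (q, 0)).2) := by
      rw [h1 p (m (p, 0)).2, h1 q (m (q, 0)).2, CharTwo.add_self_eq_zero, CharTwo.add_self_eq_zero]
      exact Prod.ext e rfl
    exact congrArg Prod.fst (m.injective h3)
  have h3 := a3_of_mem hm
  refine ⟨⟨Equiv.ofBijective _ h2.bijective_of_finite, fun p => (m (p, 0)).2⟩,
    ⟨fun p q r => ?_, fun p q r => ?_⟩, Equiv.ext fun ⟨p, e⟩ => (h1 p e).symm⟩
  · exact congrArg Prod.fst (h3 (p, 0) (q, 0) (r, 0))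
  · exact congrArg Prod.snd (h3 (p, 0) (q, 0) (r, 0))

theorem cA (m : Perm Ω) (h : ∀ a ∈ AA, Commute m (pm2 a)) : ∃ a ∈ AA, pm2 a = m := by
  refine mem_A.2 ⟨c (m (c.symm 0)), ext_c fun y => ?_⟩
  obtain ⟨a, ha, e⟩ := mem_A.2 ⟨c y, rfl⟩
  have h1 := congrArg (fun s : Perm Ω => c (s (c.symm 0))) (h a ha).eq
  simp only [e, Perm.mul_apply, c_tr] at h1
  rw [show tr (c y) (c.symm 0) = y from c.injective (by
    rw [c_tr, Equiv.apply_symm_apply, zero_add])] at h1
  rw [h1, c_tr, add_comm]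

theorem z2_eq : pm2 z2 = tr ![1, 0, 0, 0] := ext_c fun y => by
  rw [c_tr]; revert y; decide +kernel

theorem trans (v : V) (hv : v ≠ 0) : ∃ g : L4, g.1 *ᵥ ![1, 0, 0, 0] = v := by
  obtain ⟨φ, h1, h2⟩ : ∃ φ : V, (1 + Matrix.vecMulVec (v + ![1, 0, 0, 0]) φ) *
      (1 + Matrix.vecMulVec (v + ![1, 0, 0, 0]) φ) = 1 ∧
      (1 + Matrix.vecMulVec (v + ![1, 0, 0, 0]) φ) *ᵥ ![1, 0, 0, 0] = v := by
    revert v; decide +kernel
  exact ⟨⟨_, _, h1, h1⟩, h2⟩

theorem af (m1 : Mod1) : Af where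
  card := card_Aff
  qk := qk
  cz := cz
  cA := cA
  syl := by
    have hle : T0.map pm2 ≤ Aff := by
      rintro _ ⟨t, ht, rfl⟩; exact qk t ht.1
    have hc : Nat.card (T0.map pm2) = 1024 := by rw [card_map_of_injective pm2_inj, m1.cT0]
    refine ⟨hle, IsPGroup.of_card (n := 10) hc, ?_⟩
    have h1 := H3.card_mul_relIndex hle
    rw [hc, card_Aff] at h1
    rw [show (T0.map pm2).relIndex Aff = 315 by omega]
    decide
  s := mem_Aff'.2 (by unfold A3; decide +kernel)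
  tr := fun a ha h1 => by
    obtain ⟨v, hv⟩ := mem_A.1 ⟨a, ha, rfl⟩
    obtain ⟨g, hg⟩ := trans v (by
      rintro rfl
      exact h1 (pm2_inj (by rw [hv, tr_zero, map_one])))
    exact ⟨ln g, ln_mem g, by rw [z2_eq, ln_tr, hg, hv]⟩
  cpl := by
    refine ⟨ln.range, by rintro _ ⟨g, rfl⟩; exact ln_mem g, eq_bot_iff.2 ?_,
      le_antisymm (sup_le le_normalizer (by rintro _ ⟨g, rfl⟩; exact ln_mem g)) fun m hm => ?_,
      ⟨(MonoidHom.ofInjective ln_inj).symm⟩⟩
    · rintro _ ⟨h1, g, rfl⟩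
      obtain ⟨v, hv⟩ := mem_A.1 h1
      have h2 := tr_ln_inj (v := 0) (w := v) (g := g) (h := 1) (by
        rw [tr_zero, one_mul, map_one, mul_one, hv])
      rw [h2.2, map_one]
      exact one_mem _
    · obtain ⟨v, g, rfl⟩ := mem_Aff.1 hm
      exact mul_mem_sup (mem_A.2 ⟨v, rfl⟩) ⟨g, rfl⟩
  nsub := fun H h1 h2 h3 => by
    have := simple_L4
    have hn : (H.comap ln).Normal := ⟨fun n hn g => by
      rw [mem_comap, map_mul, map_mul, map_inv]
      exact (mem_normalizer_iff.1 (h3 (ln_mem g)) _).1 hn⟩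
    rcases hn.eq_bot_or_eq_top with h | h
    · refine Or.inl (le_antisymm (fun m hm => ?_) h1)
      obtain ⟨v, g, rfl⟩ := mem_Aff.1 (h2 hm)
      have h4 : g ∈ H.comap ln := (mul_mem_cancel_left (h1 (mem_A.2 ⟨v, rfl⟩))).1 hm
      rw [h, mem_bot] at h4
      rw [h4, map_one, mul_one]
      exact mem_A.2 ⟨v, rfl⟩
    · refine Or.inr (le_antisymm h2 fun m hm => ?_)
      obtain ⟨v, g, rfl⟩ := mem_Aff.1 hm
      exact mul_mem (h1 (mem_A.2 ⟨v, rfl⟩)) (show g ∈ H.comap ln from h ▸ mem_top g)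

end Cfsg.Agent.H36.KnAff
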