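import Cfsg.Agent.H17.KnDef2

/-!
# The twist of the coordinates
-/

set_option autoImplicit false
set_option maxRecDepth 100000
set_option synthInstance.maxSize 2000

namespace Cfsg.Agent.H36.KnTx

open Equiv Subgroup Cfsg.Agent.H11.A16 Cfsg.Agent.H63 Cfsg.Agent.H17.Kn
open Cfsg.Agent.H89.Rec (Syl)

universe u

/-! ### Finite facts -/

/-- The action of a power of the three-cycle of block `i`. -/
def ac (i : Fin 4) (n : ℕ) (a k : Fin 4) : N2 := wb a (if a = i then ω^[n] k else k)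

/-- The involution over a sign change. -/
def dd (i j k : Fin 4) : N2 := dl (pa j) * wb i k

/-- `m` transports the blocks. -/
def Tr1 (m : N2) (n : ℕ) (i i' : Fin 4) : Prop := ∀ a c, ∃ a' c', m * wb a' c' * m⁻¹ = wb a c ∧
  m * ac i n a' c' * m⁻¹ = ac i' 1 a c

/-- `m` transports the involutions. -/
def Tr2 (m : N2) (i j k i' j' k' : Fin 4) : Prop := m * dd i j k * m⁻¹ ∈ S2 ∧
  (m * dd i j k * m⁻¹ = dd i' j' k' ∨ m * dd i j k * m⁻¹ * wb j' 0 = dd i' j' k')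

instance (m : N2) (n : ℕ) (i i' : Fin 4) : Decidable (Tr1 m n i i') := by
  unfold Tr1; infer_instance
instance (m : N2) (i j k i' j' k' : Fin 4) : Decidable (Tr2 m i j k i' j' k') := by
  unfold Tr2; infer_instance

theorem wb_mem : ∀ i k, wb i k ∈ FF ∧ wb i k ∈ JJ ∧ wb i k ∈ S2 := by decide +kernel
theorem dd_mem : ∀ i j k, dd i j k ∈ JJ ∧ dd i j k ∈ S2 := by decide +kernel
theorem dl_mem : ∀ j, dl (pa j) ∈ S2 := by decide +kernel
theorem th_wb : ∀ i a k, th i * pm2 (wb a k) * (th i)⁻¹ = pm2 (ac i 1 a k) := by decide +kernel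
theorem th_dl : ∀ i j, j ≠ i → th i * pm2 (dl (pa j)) * (th i)⁻¹ = pm2 (dl (pa j)) := by
  decide +kernel
theorem ff_dl : ∀ j a b c e, wb 0 a * wb 1 b * wb 2 c * wb 3 e * dl (pa j) *
    (wb 0 a * wb 1 b * wb 2 c * wb 3 e)⁻¹ = dl (pa j) ∨ wb 0 a * wb 1 b * wb 2 c * wb 3 e *
    dl (pa j) * (wb 0 a * wb 1 b * wb 2 c * wb 3 e)⁻¹ = dl (pa j) * wb j 0 := by decide +kernel
theorem un_fin : ∀ i j k k', j ≠ i → ∃ m, dd i j k * ac i 1 i m = dd i j k' ∧
    ∃ n, dd i j k * wb i m * wb i k' = dl (pa j) * wb i n ∧ dd i j k' * wb i k' = dl (pa j) ∧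
      (wb i n = 1 ∨ wb i n * wb j 0 = 1 → k = k') := by decide +kernel
theorem tr_fl : ∀ i, Tr1 (dl (pa i)) 2 i i ∧ ∀ j k, j ≠ i → Tr2 (dl (pa i)) i j k i j (fl k) := by
  decide +kernel

/-- The four generators. -/
def gn : Fin 4 → N2 := ![xe 2 4, xe 3 4, xe 2 3, xe 3 2]
/-- Their action on the blocks. -/
def gp : Fin 4 → Fin 4 → Fin 4 := ![![1, 0, 3, 2], ![2, 3, 0, 1], ![0, 1, 3, 2], ![0, 3, 2, 1]]

theorem tr_gn : ∀ l i, Tr1 (gn l) 1 i (gp l i) ∧ ∀ j k, j ≠ i → k = 0 ∨ k = 3 →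
    gp l j ≠ gp l i ∧ Tr2 (gn l) i j k (gp l i) (gp l j) k := by decide +kernel

/-- A power of an involution. -/
def pz (c : ZMod 2) (u : N2) : N2 := if c = 0 then 1 else u

theorem pp_dec : ∀ f : P → ZMod 2, (⟨1, f⟩ : N2) =
    pz (f 1) (wb 0 0) * pz (f 3) (wb 1 0) * pz (f 5) (wb 2 0) * pz (f 7) (wb 3 0) *
      (pz (f 1 + f 0) (dl (pa 0)) * pz (f 3 + f 2) (dl (pa 1)) * pz (f 5 + f 4) (dl (pa 2)) *
        pz (f 7 + f 6) (dl (pa 3))) := by decide +kernel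

theorem JI_le (m2 : Mod2) {i : Fin 4} {K : Subgroup N2} (h : ∀ a k, wb a k ∈ K)
    (h' : ∀ j, j ≠ i → dl (pa j) ∈ K) : JI i ≤ K := fun m hm => by
  obtain ⟨u, hu, e, he, rfl⟩ := m2.pJJ m hm.1
  have h1 : e ∈ JI i := (mul_mem_cancel_left (m2.le.2.2.2.2.2.2.2.2.2.2.2.2.2.2.2.2.2.2.2.2.2.2.2.2
    i hu)).1 hm
  refine mul_mem (m2.gFF K h hu) ?_
  obtain ⟨σ, f⟩ := e
  obtain rfl : σ = 1 := he
  have k : ∀ c a, pz c (wb a 0) ∈ K := fun c a => by
    unfold pz; split_ifs; exacts [one_mem _, h _ _]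
  have k' : ∀ j, pz (f (x 1 (pa j)) + f (pa j)) (dl (pa j)) ∈ K := fun j => by
    unfold pz; split_ifs with h2
    · exact one_mem _
    · refine h' j ?_
      rintro rfl
      exact h2 (by rw [show f (x 1 (pa j)) = f (pa j) from h1.2, z2add])
  rw [pp_dec f]
  exact mul_mem (mul_mem (mul_mem (mul_mem (k _ _) (k _ _)) (k _ _)) (k _ _))
    (mul_mem (mul_mem (mul_mem (k' 0) (k' 1)) (k' 2)) (k' 3))

theorem zp_comm (u : N2) (c : ZMod 2) : u * zp c = zp c * u :=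
  N2.ext ((mul_one _).trans (one_mul _).symm) (funext fun _ => add_comm _ _)

theorem zp_add (a b : ZMod 2) : zp (a + b) = zp a * zp b := by revert a b; decide +kernel

theorem par_zp (c : ZMod 2) : par (zp c) = 0 := by revert c; decide +kernel

/-- The twist. -/
def tw : N2 →* N2 := MonoidHom.mk' (fun u => u * zp (par u)) fun u v => by
  rw [par_mul, zp_add, mul_assoc u (zp _), ← mul_assoc (zp _) v, ← zp_comm v]
  simp only [mul_assoc]

theorem tw_apply (u : N2) : tw u = u * zp (par u) := rfl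

theorem tw_σ (u : N2) : (tw u).σ = u.σ := mul_one _

theorem tw_tw (u : N2) : tw (tw u) = u := by
  rw [tw_apply, tw_apply, par_mul, par_zp, add_zero, mul_assoc, ← zp_add, z2add]
  exact mul_one u

theorem tw_ev {u : N2} (h : u ∈ EV) : tw u = u := by
  rw [tw_apply, show par u = 0 from h]; exact mul_one u

theorem tw_conj (m u : N2) : tw (m * u * m⁻¹) = m * tw u * m⁻¹ := by
  rw [map_mul, map_mul, map_inv, tw_apply m, mul_assoc m, ← zp_comm]
  group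

theorem tw_dl : ∀ i j, j ≠ i → ∃ a b c, a ≠ i ∧ b ≠ i ∧ c ≠ i ∧
    tw (dl (pa j)) = dd i j 0 * wb a 0 * wb b 0 * wb c 0 := by decide +kernel

/-! ### The elements of order three -/

section Grp

variable {G : Type u} [Group G] {J : N2 → G} {φ : G → Perm Ω} {s : G}

theorem R_mul {X : Subgroup N2} (h : Em J X) {g : G} {u v u' v' : N2} (hu : u ∈ X) (hv : v ∈ X)
    (hu' : u' ∈ X) (hv' : v' ∈ X) (a : R J g u u') (b : R J g v v') : R J g (u * v) (u' * v') := by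
  unfold R at *
  rw [h.mul u hu v hv, h.mul u' hu' v' hv', ← a, ← b]; group

theorem R_of_comm {g : G} {u : N2} (h : Commute g (J u)) : R J g u u := by
  rw [R, h.eq, mul_inv_cancel_right]

/-- `θ` acts on the four-groups as a power of the three-cycle. -/
def Tf (J : N2 → G) (θ : G) (i : Fin 4) (n : ℕ) : Prop := ∀ a k, R J θ (wb a k) (ac i n a k)

theorem ac_mem (i : Fin 4) (n : ℕ) (a k : Fin 4) :
    ac i n a k ∈ FF ∧ ac i n a k ∈ JJ ∧ ac i n a k ∈ S2 := wb_mem _ _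

theorem Tf.fix {θ : G} {i j : Fin 4} {n : ℕ} (h : Tf J θ i n) (hj : j ≠ i) (k : Fin 4) :
    R J θ (wb j k) (wb j k) := by
  have := h j k
  rwa [ac, if_neg hj] at this

theorem Tf.two {θ : G} {i : Fin 4} (h : Tf J θ i 1) : Tf J (θ * θ) i 2 := fun a k => by
  have := (h a k).trans (h a _)
  unfold ac at *
  split_ifs at * <;> exact this

theorem tf_of_ey {θ : G} {i : Fin 4} (h : Ey J θ (th i) FF FF) : Tf J θ i 1 := fun a k =>
  h _ (wb_mem a k).1 _ (ac_mem i 1 a k).1 (th_wb i a k)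

theorem ey_of_tf (m2 : Mod2) (hE : Em J S2) {θ : G} {i : Fin 4} (h : Tf J θ i 1)
    (h' : ∀ j, j ≠ i → R J θ (dl (pa j)) (dl (pa j))) : Ey J θ (th i) (JI i) (JI i) := by
  let K : Subgroup N2 :=
    { carrier := {u | u ∈ S2 ∧ ∃ v ∈ S2, th i * pm2 u * (th i)⁻¹ = pm2 v ∧ R J θ u v}
      one_mem' := ⟨one_mem _, 1, one_mem _, by simp, by simp [R, hE.one]⟩
      mul_mem' := by
        rintro a b ⟨h1, v, h2, h3, h4⟩ ⟨h5, w, h6, h7, h8⟩
        refine ⟨mul_mem h1 h5, v * w, mul_mem h2 h6, ?_, R_mul hE h1 h5 h2 h6 h4 h8⟩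
        rw [map_mul, map_mul, ← h3, ← h7]; group
      inv_mem' := by
        rintro a ⟨h1, v, h2, h3, h4⟩
        refine ⟨inv_mem h1, v⁻¹, inv_mem h2, ?_, ?_⟩
        · rw [map_inv, map_inv, ← h3]; group
        · unfold R at *
          rw [hE.inv h1, hE.inv h2, ← h4]; group }
  have hK : JI i ≤ K := JI_le m2
    (fun a k => ⟨(wb_mem a k).2.2, _, (ac_mem i 1 a k).2.2, th_wb i a k, h a k⟩)
    fun j hj => ⟨dl_mem j, _, dl_mem j, th_dl i j hj, h' j hj⟩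
  intro u hu v _ e
  obtain ⟨-, w, -, h1, h2⟩ := hK hu
  rwa [pm2_inj (e.symm.trans h1)]

/-- An element of order three fixes the involution. -/
def Cm (J : N2 → G) (i j k : Fin 4) : Prop := ∃ θ, Tf J θ i 1 ∧ R J θ (dd i j k) (dd i j k)

theorem Cm.tr (hE : Em J S2) {g : G} {m : N2} (hg : Ex J g m JJ) {i j k i' j' k' : Fin 4} {n : ℕ}
    {θ : G} (h1 : Tf J θ i n) (h2 : R J θ (dd i j k) (dd i j k)) (t1 : Tr1 m n i i')
    (t2 : Tr2 m i j k i' j' k') (hj : j' ≠ i') : Cm J i' j' k' := by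
  have a1 : Tf J (g * (θ * g⁻¹)) i' 1 := fun a c => by
    obtain ⟨a', c', e1, e2⟩ := t1 a c
    rw [← e1, ← e2]
    exact ((hg _ (wb_mem a' c').2.1).symm.trans (h1 a' c')).trans (hg _ (ac_mem i n a' c').2.1)
  have a2 := ((hg _ (dd_mem i j k).1).symm.trans h2).trans (hg _ (dd_mem i j k).1)
  refine ⟨_, a1, ?_⟩
  rcases t2.2 with e | e <;> rw [← e]
  · exact a2
  · exact R_mul hE t2.1 (wb_mem _ _).2.2 t2.1 (wb_mem _ _).2.2 a2 (a1.fix hj 0)

variable [Finite G]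

theorem Cm.uniq (hB : Base.{u}) (h : S2a J φ s) {i j k k' : Fin 4} (hj : j ≠ i) (a : Cm J i j k)
    (b : Cm J i j k') : k = k' := by
  obtain ⟨θ, a1, a2⟩ := a
  obtain ⟨θ', b1, b2⟩ := b
  have hE := h.em2
  have hF : FF ≤ S2 := hB.m2.gFF _ fun i k => (wb_mem i k).2.2
  have hab : ∀ a ∈ im J FF, ∀ b ∈ C[im J FF], Commute a b := fun a ha b hb =>
    mem_centralizer_iff.1 hb a ha
  have hle : im J FF ≤ C[im J FF] := fun a ha => mem_centralizer_iff.2 fun b hb => by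
    obtain ⟨u, hu, rfl⟩ := (hE.mono hF).mem.1 ha
    obtain ⟨v, hv, rfl⟩ := (hE.mono hF).mem.1 hb
    rw [← hE.mul _ (hF hu) _ (hF hv), ← hE.mul _ (hF hv) _ (hF hu), (hB.m2.ab.2.1 u hu v hv).eq]
  have hS : Syl (im J FF) C[im J FF] := ⟨hle, h.sylF.grp, by
    have h1 := h.sylF.odd
    rw [← relIndex_mul_relIndex _ _ _ hle (centralizer_le (im_mono (X := U1) inf_le_right))] at h1
    exact (Nat.odd_mul.1 h1).1⟩
  obtain ⟨O, hO, hodd, -, hdec⟩ := hB.gen.dec _ _ hS hab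
  have c1 : ∀ a k, R J (θ⁻¹ * θ') (wb a k) (wb a k) := fun a k => (b1 a k).trans (a1 a k).symm
  have hc : θ⁻¹ * θ' ∈ C[im J FF] := by
    have : im J FF ≤ C1[θ⁻¹ * θ'] := im_le fun u hu => (hE.mem_iff (X := S2) le_rfl (hF hu)).2
      (hF hu) |> fun _ => by
        have := hB.m2.gFF ((C1[θ⁻¹ * θ'].comap hE.hom).map S2.subtype) (fun a k =>
          ⟨⟨_, (wb_mem a k).2.2⟩, mem_centralizer_singleton_iff.2
            (mul_inv_eq_iff_eq_mul.1 (c1 a k)).symm, rfl⟩) hu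
        obtain ⟨v, hv, rfl⟩ := this
        exact hv
    exact mem_centralizer_iff.2 fun b hb => mem_centralizer_singleton_iff.1 (this hb)
  obtain ⟨a, ha, o, ho, e⟩ := hdec _ hc
  obtain ⟨u, hu, rfl⟩ := (hE.mono hF).mem.1 ha
  obtain ⟨m, e1, n, e2, e3, e4⟩ := un_fin i j k k' hj
  have d1 : R J θ (dd i j k * wb i m) (dd i j k') := e1 ▸ R_mul hE (dd_mem _ _ _).2
    (wb_mem _ _).2.2 (dd_mem _ _ _).2 (ac_mem _ _ _ _).2.2 a2 (a1 i m)
  have d2 : R J (θ⁻¹ * θ') (dl (pa j)) (dl (pa j) * wb i n) := by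
    rw [← e2]
    conv => enter [3]; rw [← e3]
    exact R_mul hE (dd_mem _ _ _).2 (wb_mem _ _).2.2 (mul_mem (dd_mem _ _ _).2 (wb_mem _ _).2.2)
      (wb_mem _ _).2.2 (b2.trans d1.symm) (c1 i k')
  have hoC := hO ho
  have key : ∀ w ∈ FF, R J o (dl (pa j)) (dl (pa j) * w) → w = 1 := fun w hw h1 => by
    have h2 := hB.gen.odd1 o (J (dl (pa j))) (J w) 1 ((hodd o hoC).1 ho)
      (hab _ (mem_im hw) o hoC).symm (Eq.trans h1 (hE.mul _ (dl_mem j) _ (hF hw))) (by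
        rw [pow_one, sq, ← hE.mul _ (hF hw) _ (hF hw), hB.m2.ab.2.2.2.2.1 w hw, hE.one])
    exact hE.inj _ (hF hw) _ (one_mem _) (h2.trans hE.one.symm)
  have d3 := (hE.self (hF hu) (dl_mem j)).symm.trans d2
  rw [e, (hab _ ha o hoC).eq, mul_inv_cancel_right] at d3
  obtain ⟨a, b, c, e', rfl⟩ := hB.m1.nfF u hu
  refine e4 ?_
  rcases ff_dl j a b c e' with e5 | e5 <;> rw [e5] at d3
  · exact Or.inl (key _ (wb_mem _ _).1 d3)
  · refine Or.inr (key _ (mul_mem (wb_mem _ _).1 (wb_mem _ _).1) ?_)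
    have d4 : R J o (wb j 0) (wb j 0) := R_of_comm (hab _ (mem_im (wb_mem j 0).1) o hoC).symm
    have d5 := R_mul hE (mul_mem (dl_mem j) (wb_mem _ _).2.2) (wb_mem _ _).2.2
      (mul_mem (dl_mem j) (wb_mem _ _).2.2) (wb_mem _ _).2.2 d3 d4
    rwa [mul_assoc, hB.m2.ab.2.2.2.2.1 _ (wb_mem j 0).1, mul_one, mul_assoc] at d5

theorem exists_bit (hB : Base.{u}) (h1 : Tx1Stmt.{u}) (h : S2a J φ s)
    (hg : ∃ g, Ex J g (xe 3 2) JJ) : ∃ k, (k = 0 ∨ k = 3) ∧ ∀ i, ∃ θ, Tf J θ i 1 ∧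
      ∀ j, j ≠ i → R J θ (dd i j k) (dd i j k) := by
  have hE := h.em2
  have hJ : JJ ≤ S2 := hB.m2.le.2.2.2.2.2.2.2.2.2.2.2.1
  have ex : ∀ m ∈ S2, Ex J (J m) m JJ := fun m hm u hu => hE.self hm (hJ hu)
  obtain ⟨θ, k, a1, a2⟩ := h1 J φ s h 0
  have b1 := tf_of_ey a1
  have b2 : R J θ (dd 0 1 (k 1)) (dd 0 1 (k 1)) := R_of_comm (a2 1 (by decide))
  have hk : k 1 = 0 ∨ k 1 = 3 := (by decide : ∀ k : Fin 4, k = fl k → k = 0 ∨ k = 3) _
    (Cm.uniq hB h (by decide) ⟨θ, b1, b2⟩ (Cm.tr hE (ex _ (dl_mem 0)) b1.two (b2.trans b2)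
      (tr_fl 0).1 ((tr_fl 0).2 1 _ (by decide)) (by decide)))
  have eg : ∀ l, ∃ g, Ex J g (gn l) JJ := fun l => by
    fin_cases l
    exacts [⟨_, ex _ (by decide +kernel)⟩, ⟨_, ex _ (by decide +kernel)⟩,
      ⟨_, ex _ (by decide +kernel)⟩, hg]
  have st : ∀ l i j, j ≠ i → Cm J i j (k 1) → Cm J (gp l i) (gp l j) (k 1) :=
    fun l i j hj ⟨θ, c1, c2⟩ => by
      obtain ⟨g, hg⟩ := eg l
      exact Cm.tr hE hg c1 c2 (tr_gn l i).1 ((tr_gn l i).2 j _ hj hk).2 ((tr_gn l i).2 j _ hj hk).1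
  have p01 : Cm J 0 1 (k 1) := ⟨θ, b1, b2⟩
  have p03 : Cm J 0 3 (k 1) := st 3 0 1 (by decide) p01
  have p02 : Cm J 0 2 (k 1) := st 2 0 3 (by decide) p03
  have p10 : Cm J 1 0 (k 1) := st 0 0 1 (by decide) p01
  have p12 : Cm J 1 2 (k 1) := st 0 0 3 (by decide) p03
  have p13 : Cm J 1 3 (k 1) := st 0 0 2 (by decide) p02
  have all : ∀ i j, j ≠ i → Cm J i j (k 1) := fun i j hj => by
    fin_cases i <;> fin_cases j
    exacts [(hj rfl).elim, p01, p02, p03, p10, (hj rfl).elim, p12, p13,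
      st 1 0 2 (by decide) p02, st 1 0 3 (by decide) p03, (hj rfl).elim, st 1 0 1 (by decide) p01,
      st 1 1 2 (by decide) p12, st 1 1 3 (by decide) p13, st 1 1 0 (by decide) p10, (hj rfl).elim]
  refine ⟨k 1, hk, fun i => ?_⟩
  obtain ⟨θ', k', c1, c2⟩ := h1 J φ s h i
  refine ⟨θ', tf_of_ey c1, fun j hj => ?_⟩
  have c3 : R J θ' (dd i j (k' j)) (dd i j (k' j)) := R_of_comm (c2 j hj)
  rwa [Cm.uniq hB h hj ⟨θ', tf_of_ey c1, c3⟩ (all i j hj)] at c3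

omit [Finite G] in
theorem ex_tw {g : G} {m : N2} {X : Subgroup N2} (hX : ∀ u ∈ X, tw u ∈ X) (h : Ex J g m X) :
    Ex (fun u => J (tw u)) g m X := fun u hu => by
  have := h _ (hX u hu)
  rwa [← tw_conj] at this

omit [Finite G] in
theorem s2a_tw (m2 : Mod2) (h : S2a J φ s) : S2a (fun u => J (tw u)) φ s := by
  obtain ⟨-, l1, -, -, -, l2, l3, l4, l5, -, -, -, l6, -, -, -, -, -, -, -, -, -, l7, -⟩ := m2.le
  have v1 : T1 ≤ EV := l5.trans inf_le_right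
  have v0 : T0 ≤ EV := l4.trans v1
  have vQ : QQ ≤ EV := l1.trans v0
  have vA : AE ≤ EV := l3.trans v1
  have vE : EE ≤ EV := inf_le_right
  have vS : SE ≤ EV := inf_le_right
  have e : ∀ {X : Subgroup N2}, X ≤ EV → ∀ u ∈ X, J (tw u) = J u := fun hX u hu => by
    rw [tw_ev (hX hu)]
  have i : ∀ {X : Subgroup N2}, X ≤ EV → im (fun u => J (tw u)) X = im J X := fun hX =>
    im_congr (e hX)
  have ex : ∀ {X : Subgroup N2} {g : G} {m : N2}, X ≤ EV → Ex J g m X →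
      Ex (fun u => J (tw u)) g m X := fun hX a => ex_tw (fun u hu => by rwa [tw_ev (hX hu)]) a
  have nA : NA (fun u => J (tw u)) = NA J := by rw [NA, i (AA_le_T0.trans v0)]
  have tP : ∀ u ∈ PP, tw u ∈ PP := fun u hu => (tw_σ u).trans hu
  have tS : ∀ u ∈ S2, tw u ∈ S2 := fun u hu => by
    change (tw u).σ ∈ T'
    rw [tw_σ]; exact hu
  have cj : ∀ t a, a ∈ EV → t * a * t⁻¹ ∈ EV := fun t a ha => by
    change par (t * a * t⁻¹) = 0
    rw [par_mul, par_mul, show par a = 0 from ha, add_zero, ← par_mul, mul_inv_cancel]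
    exact EV.one_mem
  refine
    { toKi := h.toKi.congr (e v0)
      nq := fun g hg => ?_
      ee := fun a ha => (h.ee a ha).imp fun g => ex vQ
      emE := h.emE.congr (e vA)
      nE := fun t ht => ?_
      rk := fun k hk => ?_
      act := fun t ht a ha => ?_
      cm := fun u hu a ha => ?_
      em1 := h.em1.congr (e v1)
      exK := fun k hk => ?_
      emS := h.emS.congr (e vS)
      sN := nA ▸ h.sN
      sφ := h.sφ
      sY := fun u hu v hv a => ?_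
      sylF := ?_
      em2 := ⟨fun u hu v hv => ?_, fun u hu v hv a => ?_⟩
      sylP := ?_
      exP := fun k hk => ?_ }
  · rw [i vQ] at hg
    exact (h.nq g hg).imp fun m => And.imp_right (ex vQ)
  · rw [i vE, e v0 t ht]; exact h.nE t ht
  · rw [nA, i vE]; exact h.rk k hk
  · unfold R
    beta_reduce
    rw [e v0 t ht, e vE a ha, e le_rfl _ (cj t a (vE ha)),
      e le_rfl _ (mul_mem (cj t a (vE ha)) (show H17.Kn.z2 ∈ EV from par_zp 1))]
    exact h.act t ht a ha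
  · rw [e v0 u hu.1, e vE a ha.1]; exact h.cm u hu a ha
  · rw [nA]; exact (h.exK k hk).imp fun g => And.imp_right (And.imp_right (ex vA))
  · unfold R
    beta_reduce
    rw [e (l7.trans vS) u hu, e (l7.trans vS) v hv]
    exact h.sY u hu v hv a
  · rw [i (l6.trans vS), i (X := U1) (inf_le_left.trans v0)]; exact h.sylF
  · rw [map_mul, h.em2.mul _ (tS u hu) _ (tS v hv)]
  · rw [← tw_tw u, h.em2.inj _ (tS u hu) _ (tS v hv) a, tw_tw]
  · rw [i vE, show im (fun u => J (tw u)) PP = im J PP from le_antisymm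
      (im_le fun u hu => mem_im (tP u hu)) (im_le fun u hu => by
        rw [← tw_tw u]; exact mem_im (J := fun u => J (tw u)) (tP u hu))]
    exact h.sylP
  · rw [nA]; exact (h.exP k hk).imp fun g => And.imp_right (And.imp_right (ex_tw tP))

end Grp

theorem tx (hB : Base.{u}) (h1 : Tx1Stmt.{u}) : TxStmt.{u} := by
  intro G _ _ J φ s h hg
  obtain ⟨k, rfl | rfl, hk⟩ := exists_bit hB h1 h hg
  · have h' := s2a_tw hB.m2 h
    refine ⟨_, h', hg.imp fun g => ex_tw fun u hu => ?_, fun i => ?_⟩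
    · rw [mem_JJ, tw_σ]; exact hu
    · obtain ⟨θ, a1, a2⟩ := hk i
      have hF : FF ≤ EV := hB.m2.le.2.2.2.2.2.2.2.2.2.2.2.2.1.trans inf_le_right
      refine ⟨θ, trivial, ey_of_tf hB.m2 h'.em2 (fun a k => ?_) fun j hj => ?_⟩
      · unfold R
        beta_reduce
        rw [tw_ev (hF (wb_mem a k).1), tw_ev (hF (ac_mem i 1 a k).1)]
        exact a1 a k
      · obtain ⟨a, b, c, ha, hb, hc, e⟩ := tw_dl i j hj
        have m1 := mul_mem (dd_mem i j 0).2 (wb_mem a 0).2.2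
        have m2 := mul_mem m1 (wb_mem b 0).2.2
        change R J θ (tw (dl (pa j))) (tw (dl (pa j)))
        rw [e]
        exact R_mul h.em2 m2 (wb_mem _ _).2.2 m2 (wb_mem _ _).2.2
          (R_mul h.em2 m1 (wb_mem _ _).2.2 m1 (wb_mem _ _).2.2
            (R_mul h.em2 (dd_mem _ _ _).2 (wb_mem _ _).2.2 (dd_mem _ _ _).2 (wb_mem _ _).2.2
              (a2 j hj) (a1.fix ha 0)) (a1.fix hb 0)) (a1.fix hc 0)
  · refine ⟨J, h, hg, fun i => ?_⟩
    obtain ⟨θ, a1, a2⟩ := hk i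
    refine ⟨θ, trivial, ey_of_tf hB.m2 h.em2 a1 fun j hj => ?_⟩
    have := a2 j hj
    rwa [show dd i j 3 = dl (pa j) from mul_one _] at this

end Cfsg.Agent.H36.KnTx
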