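import Cfsg.Agent.H36.Disc3

/-! Non-degenerate classes of root involutions: the product graph is connected. -/

set_option autoImplicit false

namespace Cfsg.Agent.H36

open Cfsg

universe u

variable {G : Type u} [Group G] {D : Set G}

/-- the class of `x` in the subgroup generated by `S` -/
def Cl (S : Set G) (x : G) : Set G := {y | ∃ g ∈ Subgroup.closure S, y = g * x * g⁻¹}

theorem self_mem_Cl (S : Set G) (x : G) : x ∈ Cl S x := ⟨1, Subgroup.one_mem _, by simp⟩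

theorem Cl.conj {S : Set G} {x y g : G} (hy : y ∈ Cl S x) (hg : g ∈ Subgroup.closure S) :
    g * y * g⁻¹ ∈ Cl S x := by
  obtain ⟨h, hh, rfl⟩ := hy
  exact ⟨g * h, Subgroup.mul_mem _ hg hh, by group⟩

theorem Cl.mem_closure {S : Set G} {x y : G} (hx : x ∈ S) (hy : y ∈ Cl S x) :
    y ∈ Subgroup.closure S := by
  obtain ⟨h, hh, rfl⟩ := hy
  exact Subgroup.mul_mem _ (Subgroup.mul_mem _ hh (Subgroup.subset_closure hx)) (Subgroup.inv_mem _ hh)

theorem RI.Cl_subset (hD : RI D) {S : Set G} (hS : S ⊆ D) {x : G} (hx : x ∈ D) : Cl S x ⊆ D := by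
  rintro _ ⟨g, hg, rfl⟩
  exact hD.conj_mem (Subgroup.closure_mono hS hg) hx

theorem RI.mem_Cl_of_opp (hD : RI D) {S : Set G} {x a : G} (hx : x ∈ D) (ha : a ∈ D)
    (hxS : x ∈ Subgroup.closure S) (haS : a ∈ Subgroup.closure S) (h : Opp x a) : a ∈ Cl S x := by
  obtain ⟨k, hk⟩ := exists_conj_of_odd (hD.sq hx) (hD.sq ha) h.2
  exact ⟨_, Subgroup.pow_mem _ (Subgroup.mul_mem _ hxS haS) k, hk.symm⟩

theorem closure_Cl {S : Set G} {x : G} (hx : x ∈ S) (hS : S ⊆ Cl S x) :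
    Subgroup.closure (Cl S x) = Subgroup.closure S :=
  le_antisymm ((Subgroup.closure_le _).mpr fun _ hy => Cl.mem_closure hx hy)
    (Subgroup.closure_mono hS)

theorem oneClass_Cl {S : Set G} {x : G} (hx : x ∈ S) (hS : S ⊆ Cl S x) : OneClass (Cl S x) := by
  rintro _ ⟨g, hg, rfl⟩ _ ⟨h, hh, rfl⟩
  rw [closure_Cl hx hS]
  exact ⟨h * g⁻¹, Subgroup.mul_mem _ hh (Subgroup.inv_mem _ hg), by group⟩

theorem RI.ri_Cl (hD : RI D) {S : Set G} (hS : S ⊆ D) {x : G} (hx : x ∈ S)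
    (h4 : ∀ a ∈ Cl S x, ∀ b ∈ Cl S x, ¬ Opp a b → a * b ≠ b * a → (a * b) ^ 2 ∈ Cl S x) :
    RI (Cl S x) := by
  have hs := hD.Cl_subset hS (hS hx)
  refine ⟨fun d hd => hD.ord d (hs hd), fun d hd e he => ?_, fun a ha b hb => ?_⟩
  · have := Cl.conj hd (Cl.mem_closure hx he)
    rwa [hD.inv (hs he)] at this
  · refine (hD.pair a (hs ha) b (hs hb)).imp_right (Or.imp_right fun h => ⟨h.1, ?_⟩)
    obtain ⟨h1, h2⟩ := (hD.order_four_iff (hs ha) (hs hb)).mp h.1
    exact h4 a ha b hb h1 h2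

theorem comm_closure {S : Set G} {e g : G} (h : ∀ s ∈ S, e * s = s * e)
    (hg : g ∈ Subgroup.closure S) : e * g = g * e :=
  (Subgroup.mem_centralizer_iff.mp ((Subgroup.closure_le (Subgroup.centralizer {e})).mpr
    (fun s hs => Subgroup.mem_centralizer_iff.mpr (by rintro _ rfl; exact h s hs)) hg) e rfl)

theorem eq_of_mem_Cl_of_comm {S : Set G} {e x : G} (h : ∀ s ∈ S, e * s = s * e) (he : e ∈ Cl S x) :
    e = x := by
  obtain ⟨g, hg, e1⟩ := he
  have := comm_closure h hg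
  calc e = g⁻¹ * (e * g) := by rw [this]; group
    _ = x := by rw [e1]; group

/-- same component of the product graph -/
def Pl (D : Set G) (a b : G) : Prop := Relation.ReflTransGen (ProdAdj D) a b

theorem Pl.refl (a : G) : Pl D a a := Relation.ReflTransGen.refl

theorem Pl.symm {a b : G} (h : Pl D a b) : Pl D b a :=
  rtg_symm (fun _ _ e => ⟨e.2.1, e.1, e.2.2.1.symm, e.2.2.2.1.symm, e.2.2.2.1 ▸ e.2.2.2.2⟩) h

theorem Pl.trans {a b c : G} (h : Pl D a b) (h' : Pl D b c) : Pl D a c :=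
  Relation.ReflTransGen.trans h h'

theorem Pl.mem {a b : G} (h : Pl D a b) (ha : a ∈ D) : b ∈ D := by
  induction h with
  | refl => exact ha
  | tail _ e _ => exact e.2.1

theorem Pl.mono {D' : Set G} (hs : D' ⊆ D) {a b : G} (h : Pl D' a b) : Pl D a b := by
  induction h with
  | refl => exact Pl.refl _
  | tail _ e ih => exact ih.tail ⟨hs e.1, hs e.2.1, e.2.2.1, e.2.2.2.1, hs e.2.2.2.2⟩

namespace RI

variable (hD : RI D)
include hD

theorem Pl_of_prod {a b : G} (ha : a ∈ D) (hb : b ∈ D) (h : a * b = b * a) (hm : a * b ∈ D) :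
    Pl D a b :=
  Relation.ReflTransGen.single ⟨ha, hb, fun e => hD.ne_one hm (by rw [← e, hD.sq ha]), h, hm⟩

theorem Pl_conj {a b g : G} (hg : g ∈ Subgroup.closure D) (h : Pl D a b) :
    Pl D (g * a * g⁻¹) (g * b * g⁻¹) := by
  induction h with
  | refl => exact Pl.refl _
  | tail _ e ih =>
    exact ih.trans (hD.Pl_of_prod (hD.conj_mem hg e.1) (hD.conj_mem hg e.2.1) (comm_conj e.2.2.2.1 g)
      (by rw [conj_mul]; exact hD.conj_mem hg e.2.2.2.2))

theorem Pl_sq {a b : G} (ha : a ∈ D) (hb : b ∈ D) (h : ¬ Opp a b) (hc : a * b ≠ b * a) :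
    Pl D a ((a * b) ^ 2) ∧ Pl D a b := by
  obtain ⟨h1, h2, h3, -, -, h6, h7⟩ := hD.comm_facts ha hb h hc
  have := hD.Pl_of_prod ha h1 h2.symm h6
  exact ⟨this, this.trans (hD.Pl_of_prod hb h1 h3.symm h7).symm⟩

theorem Pl_of_opp {a d : G} (ha : a ∈ D) (hd : d ∈ D) (ho : Opp a d) (h : Pl D a (d * a * d⁻¹)) :
    Pl D a d := by
  obtain ⟨k, hk⟩ := exists_conj_of_odd (hD.sq ha) (hD.sq hd) ho.2
  rw [← hk]
  clear hk
  induction k with
  | zero => simpa using Pl.refl a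
  | succ k ih =>
    have := hD.Pl_conj (Subgroup.subset_closure ha) (h.trans (hD.Pl_conj (Subgroup.subset_closure hd) ih))
    rw [mul_inv_cancel_right] at this
    convert this using 1
    simp only [pow_succ', mul_inv_rev, mul_assoc]

theorem comm_of_not_Pl {a a' d : G} (ha : a ∈ D) (hd : d ∈ D) (h : d * a = a * d) (hn : ¬ Pl D a d)
    (h' : Pl D a a') : d * a' = a' * d := by
  have ha' := h'.mem ha
  by_contra hc
  refine hn (h'.trans ?_)
  by_cases ho : Opp a' d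
  · refine hD.Pl_of_opp ha' hd ho (h'.symm.trans ?_)
    have := hD.Pl_conj (Subgroup.subset_closure hd) h'
    rwa [conj_eq_of_comm h] at this
  · exact (hD.Pl_sq ha' hd ho (Ne.symm hc)).2

end RI

theorem rtg_exists_step {α : Type*} {r : α → α → Prop} {T : α → Prop} {a b : α}
    (h : Relation.ReflTransGen r a b) (ha : ¬ T a) (hb : T b) : ∃ c d, r c d ∧ ¬ T c ∧ T d := by
  induction h with
  | refl => exact absurd hb ha
  | @tail c d _ e ih =>
    by_cases hc : T c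
    · exact ih hc
    · exact ⟨c, d, e, hc, hb⟩

theorem prod_connected_aux [Finite G] (n : ℕ) : ∀ D : Set G, D.ncard = n → RI D → OneClass D →
    (∃ a ∈ D, ∃ b ∈ D, ¬ Opp a b ∧ a * b ≠ b * a) → ∀ a ∈ D, ∀ b ∈ D, Pl D a b := by
  induction n using Nat.strong_induction_on with
  | _ n ih =>
  intro D hn hD h1 h4
  by_contra hc
  obtain ⟨a₁, ha₁, b₁, hb₁, h41, h42⟩ := h4
  have hcon : IsConnectedSet (CommAdj D) D := by
    by_contra hn
    obtain ⟨c1, c2, -, -, -, c6, -⟩ := hD.comm_facts ha₁ hb₁ h41 h42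
    exact h41 ((hD.dcs ⟨_, ha₁, _, c1, c2.symm, c6⟩ hn).ce.opp hD ha₁ hb₁ h42)
  obtain ⟨a, ha, x, hx, hT⟩ : ∃ a ∈ D, ∃ x ∈ D, ¬ Pl D a x ∧ x * a ≠ a * x := by
    by_contra hn
    push Not at hn
    have key : ∀ g ∈ Subgroup.closure D, ∀ a ∈ D, Pl D a (g * a * g⁻¹) := by
      intro g hg
      induction hg using Subgroup.closure_induction'' with
      | one => intro a _; simpa using Pl.refl a
      | mem d hd =>
        intro a ha
        by_cases h : Pl D a d
        · have := hD.Pl_conj (Subgroup.subset_closure hd) h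
          rw [mul_inv_cancel_right] at this
          exact h.trans this.symm
        · rw [conj_eq_of_comm (hn a ha d hd h)]; exact Pl.refl a
      | inv_mem d hd =>
        intro a ha
        rw [hD.inv hd]
        by_cases h : Pl D a d
        · have := hD.Pl_conj (Subgroup.subset_closure hd) h
          rw [mul_inv_cancel_right] at this
          exact h.trans this.symm
        · rw [conj_eq_of_comm (hn a ha d hd h)]; exact Pl.refl a
      | mul g h hg _ ihg ihh =>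
        intro a ha
        have := (ihg a ha).trans (hD.Pl_conj hg (ihh a ha))
        simpa [mul_assoc] using this
    refine hc fun a ha b hb => ?_
    obtain ⟨g, hg, rfl⟩ := h1 a ha b hb
    exact key g hg a ha
  obtain ⟨e, y, ⟨he, hy, -, hey⟩, hTe, hTy⟩ := rtg_exists_step
    (T := fun y => ¬ Pl D a y ∧ y * a ≠ a * y) (hcon a ha x hx) (fun h => h.2 rfl) hT
  have hae : ¬ Pl D a e := fun h =>
    hTy.2 (hD.comm_of_not_Pl he hy hey.symm (fun h' => hTy.1 (h.trans h')) h.symm)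
  have hea : e * a = a * e := by by_contra h; exact hTe ⟨hae, h⟩
  let S : Set G := {b | Pl D a b} ∪ {y}
  have hSD : S ⊆ D := by
    rintro b (hb | rfl)
    · exact Pl.mem hb ha
    · exact hy
  have hyS : y ∈ S := Or.inr rfl
  have hS : S ⊆ Cl S y := by
    rintro b (hb | rfl)
    · have hb' := Pl.mem hb ha
      refine hD.mem_Cl_of_opp hy hb' (Subgroup.subset_closure hyS)
        (Subgroup.subset_closure (Or.inl hb)) ?_
      by_contra ho
      by_cases h : y * b = b * y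
      · exact hTy.2 (hD.comm_of_not_Pl hb' hy h (fun h' => hTy.1 (Pl.trans hb h')) (Pl.symm hb))
      · exact hTy.1 (Pl.trans hb (hD.Pl_sq hy hb' ho h).2.symm)
    · exact self_mem_Cl _ _
  have hsub := hD.Cl_subset hSD hy
  have ho := oneClass_Cl hyS hS
  have haS : a ∈ Cl S y := hS (Or.inl (Pl.refl a))
  have hcl : ∀ b ∈ Cl S y, ∀ c, Pl D b c → c ∈ Cl S y := by
    intro b hb c hbc
    obtain ⟨g, hg, e⟩ := ho b hb a haS
    rw [closure_Cl hyS hS] at hg
    have h2 := hD.Pl_conj (Subgroup.closure_mono hSD hg) hbc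
    rw [← e] at h2
    have := Cl.conj (hS (Or.inl h2)) (Subgroup.inv_mem _ hg)
    simpa [mul_assoc] using this
  have hR := hD.ri_Cl hSD hyS fun b hb c hc' h h' =>
    hcl b hb _ (hD.Pl_sq (hsub hb) (hsub hc') h h').1
  have heS : e ∉ Cl S y := fun h => hTe (by
    rw [eq_of_mem_Cl_of_comm (S := S) (by
      rintro b (hb | rfl)
      · exact hD.comm_of_not_Pl ha he hea hae hb
      · exact hey) h]
    exact hTy)
  obtain ⟨g, hg, e1⟩ := h1 a₁ ha₁ a ha
  refine hTy.1 (Pl.mono hsub (ih _ (hn ▸ Set.ncard_lt_ncard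
    ((Set.ssubset_iff_of_subset hsub).mpr ⟨e, he, heS⟩)) _ rfl hR ho
    ⟨a, haS, g * b₁ * g⁻¹, hcl a haS _ ?_, ?_, ?_⟩ a haS y (self_mem_Cl _ _)))
  · exact e1 ▸ hD.Pl_conj hg (hD.Pl_sq ha₁ hb₁ h41 h42).2
  · rw [e1, Opp.conj_iff]; exact h41
  · rw [e1]
    exact fun h => h42 (by simpa [mul_assoc] using comm_conj h g⁻¹)

theorem RI.prod_connected [Finite G] (hD : RI D) (h1 : OneClass D)
    (h4 : ∃ a ∈ D, ∃ b ∈ D, orderOf (a * b) = 4) : IsConnectedSet (ProdAdj D) D := by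
  obtain ⟨a, ha, b, hb, h⟩ := h4
  exact prod_connected_aux _ D rfl hD h1 ⟨a, ha, b, hb, (hD.order_four_iff ha hb).mp h⟩

/-- a subgroup containing `X_d` and an opposite of `d` contains `D` -/
theorem RI.subset_of_partners [Finite G] (hD : RI D) (h1 : OneClass D)
    (h4 : ∃ a ∈ D, ∃ b ∈ D, orderOf (a * b) = 4) {d x : G} (hd : d ∈ D) (hx : x ∈ D) (ho : Opp x d)
    {H : Subgroup G} (hH : H ≤ Subgroup.closure D) (hxH : x ∈ H)
    (hX : ∀ c ∈ D, d * c = c * d → d * c ∈ D → c ∈ H) :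
    ∀ e ∈ D, ∃ g ∈ H, e = g * d * g⁻¹ := by
  have hp : HasProd D := by
    obtain ⟨a, ha, b, hb, h⟩ := h4
    obtain ⟨h41, h42⟩ := (hD.order_four_iff ha hb).mp h
    obtain ⟨c1, c2, -, -, -, c6, -⟩ := hD.comm_facts ha hb h41 h42
    exact ⟨_, ha, _, c1, c2.symm, c6⟩
  have hX2 : ∀ c ∈ D, d * c = c * d → d * c ∈ D → d * c ∈ H := fun c hc h hm =>
    hX _ hm (by rw [mul_assoc, ← h]) (by rw [sq' (hD.sq hd)]; exact hc)
  have hdH : d ∈ H := by
    obtain ⟨c, hc, h, hm⟩ := hD.exists_prod h1 hp hd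
    simpa using H.mul_mem (hX2 c hc h hm) (H.inv_mem (hX c hc h hm))
  have k1 : ∀ c ∈ D, c ∈ H → Opp x c → ∃ g ∈ H, c = g * d * g⁻¹ := fun c hc hcH h => by
    obtain ⟨k, hk⟩ := exists_conj_of_odd (hD.sq hd) (hD.sq hx) ho.symm.2
    obtain ⟨j, hj⟩ := exists_conj_of_odd (hD.sq hx) (hD.sq hc) h.2
    exact ⟨(x * c) ^ j * (d * x) ^ k, H.mul_mem (H.pow_mem (H.mul_mem hxH hcH) _)
      (H.pow_mem (H.mul_mem hdH hxH) _), by
        rw [mul_inv_rev, ← mul_assoc, mul_assoc _ _ d, mul_assoc _ (_ * d), hk, hj]⟩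
  have k2 : ∀ c ∈ D, d * c = c * d → d * c ∈ D → ∃ g ∈ H, c = g * d * g⁻¹ := fun c hc h hm => by
    by_cases h2 : Opp x c
    · exact k1 c hc (hX c hc h hm) h2
    obtain ⟨g, hg, e⟩ := k1 _ hm (hX2 c hc h hm) ((hD.opp_or hd hc h hm hx ho).resolve_left h2)
    obtain ⟨z, hz, z1, z2⟩ := hD.exists_comm_of_not_E h1 hc hd h.symm (h ▸ hm)
      fun e => h2 (e.ge ⟨hx, ho⟩).2
    have z3 : c * z ≠ z * c := fun e =>
      hD.ne_one hd (by rw [← z2]; exact four_of_comm (hD.sq hc) (hD.sq hz) e)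
    obtain ⟨-, -, c3, c4, -, -, c7⟩ := hD.comm_facts hc hz z1 z3
    rw [z2] at c3 c4 c7
    have hzH := hX z hz c3 (c3 ▸ c7)
    refine ⟨z * g, H.mul_mem hzH hg, ?_⟩
    calc c = z * (d * c) * z⁻¹ := by rw [c4, hD.inv hz]; simp [mul_assoc, sq' (hD.sq hz), hD.sq hz]
      _ = _ := by rw [e]; group
  intro e he
  have := hD.prod_connected h1 h4 d hd e he
  induction this with
  | refl => exact ⟨1, H.one_mem, by simp⟩
  | @tail b c _ h ih =>
    obtain ⟨g, hg, rfl⟩ := ih h.1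
    have hg' := hH (H.inv_mem hg)
    have e1 := comm_conj h.2.2.2.1 g⁻¹
    have e2 := hD.conj_mem hg' h.2.2.2.2
    rw [← conj_mul] at e2
    rw [show g⁻¹ * (g * d * g⁻¹) * g⁻¹⁻¹ = d by group] at e1 e2
    obtain ⟨g', hg'', e⟩ := k2 _ (hD.conj_mem hg' h.2.1) e1 e2
    exact ⟨g * g', H.mul_mem hg hg'', by
      rw [show g * g' * d * (g * g')⁻¹ = g * (g' * d * g'⁻¹) * g⁻¹ by group, ← e]; group⟩

end Cfsg.Agent.H36
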