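import Cfsg.Agent.H46.SKit
import Cfsg.Agent.H23.Dbl2e
import Cfsg.Agent.S0205

/-!
# No standard subgroup of type `ON`, `He`, `Suz`: the centraliser has Sylow order two
-/

set_option autoImplicit false
set_option linter.unusedSectionVars false
open scoped Pointwise commutatorElement
open Subgroup

namespace Cfsg.Agent.H36.S95C
open Cfsg.Agent.H8 Cfsg.Agent.H23.D2 Cfsg.Agent.H10.Std Cfsg.Agent.H46.S95

universe u

local notation "C[" A "]" => Subgroup.centralizer (SetLike.coe A)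
local notation "N[" A "]" => Subgroup.normalizer (SetLike.coe A)

variable {Γ : Type} [Group Γ] {G : Type u} [Group G] [Finite G] {φ : Γ →* G} {F A : Subgroup G}

theorem as_cases (hF : AS F) (N : Subgroup G) [hN : N.Normal] : N = ⊥ ∨ F ≤ N := by
  have := hF.normal
  have := hF.simple
  rcases (hN.subgroupOf F).eq_bot_or_eq_top with e | e
  · refine .inl (eq_bot_iff.2 (hF.cent ▸ fun n hn => mem_C.2 fun f hf => ?_))
    exact (commute_of_normal_of_disjoint F N hF.normal hN (subgroupOf_eq_bot.1 e).symm f n hf hn).eq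
  · exact .inr (subgroupOf_eq_top.1 e)

theorem core_bot (hF : AS F) : oddCore G = ⊥ := by
  have : (pPrimeCore 2 G).Normal := inferInstance
  refine (as_cases hF (pPrimeCore 2 G)).resolve_right fun e => hF.nc ?_
  have := hF.simple
  have := S0205.result ((Nat.coprime_two_right.1
    (H52.coprime_card_pPrimeCore (p := 2) (G := G))).of_dvd_nat (card_dvd_of_le e))
  exact ⟨⟨IsSimpleGroup.comm_iff_isSolvable.2 this⟩⟩

theorem not_normal (hF : AS F) (hA : IsStandardSubgroup A) : ¬ A.Normal := fun hn => by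
  obtain ⟨s, hs, os⟩ := exists_invol hA
  rcases as_cases hF A with e | e
  · have := hA.1.2
    have : Nontrivial A := (QuotientGroup.mk'_surjective (center A)).nontrivial
    exact (bot_or_nontrivial A).elim (fun _ => not_nontrivial (⊥ : Subgroup G) (e ▸ this))
      fun _ => not_nontrivial (⊥ : Subgroup G) (e ▸ this)
  · exact ne_of_ord os (mem_bot.1 (hF.cent ▸ centralizer_le e hs))

theorem inner {c : G} (e : c ∈ A ⊔ C[A]) : Inner A c := by
  rw [← SetLike.mem_coe, coe_mul_of_right_le_normalizer_left _ _ (centralizer_le_normalizer _)] at e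
  obtain ⟨a, ha, k, hk, rfl⟩ := e
  exact ⟨a, ha, k, hk, rfl⟩

omit [Finite G] in
theorem mem_of_inn {h : G} {α : MulAut Γ} (e : ∀ a, φ (α a) = h * φ a * h⁻¹) (i : H46.S95.Inn α) :
    h ∈ φ.range ⊔ C[φ.range] := by
  obtain ⟨c, rfl⟩ := i
  simpa using mul_mem_sup (S := φ.range) ⟨c, rfl⟩ (cent_of_conj (a := c) fun x => (e x).symm)

theorem two (hb : Base Γ) (hi : Function.Injective φ) {c d : G} (hc : c ∈ N[φ.range])
    (hd : d ∈ N[φ.range]) : c ∈ φ.range ⊔ C[φ.range] ∨ d ∈ φ.range ⊔ C[φ.range] ∨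
      c * d ∈ φ.range ⊔ C[φ.range] := by
  obtain ⟨θ, hθ⟩ := exists_autHom hi
  exact (hb.out (θ ⟨c, hc⟩) (θ ⟨d, hd⟩)).imp (mem_of_inn (hθ ⟨c, hc⟩)) (Or.imp (mem_of_inn (hθ ⟨d, hd⟩))
    fun e => mem_of_inn (hθ (⟨c, hc⟩ * ⟨d, hd⟩)) (map_mul θ _ _ ▸ e))

theorem der (hb : Base Γ) (hi : Function.Injective φ) :
    ⁅N[φ.range], N[φ.range]⁆ ≤ φ.range ⊔ C[φ.range] := commutator_le.2 fun c hc d hd => by
  obtain ⟨θ, hθ⟩ := exists_autHom hi
  refine mem_of_inn (hθ (⟨c, hc⟩ * ⟨d, hd⟩ * ⟨c, hc⟩⁻¹ * ⟨d, hd⟩⁻¹)) ?_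
  simpa only [map_mul, map_inv] using hb.comm (θ ⟨c, hc⟩) (θ ⟨d, hd⟩)

theorem not_four (hb : Base Γ) (ho : OutF Γ) (hi : Function.Injective φ)
    (hA : IsStandardSubgroup φ.range) (hF : AS F)
    (h4 : ∀ g ∉ N[φ.range], ¬ 4 ∣ Nat.card (JJ φ g)) : ¬ 4 ∣ Nat.card C[φ.range] := by
  obtain ⟨g, hg, u, hu, ou⟩ := exists_even hA (core_bot hF) (not_normal hF hA)
  obtain ⟨α, hα⟩ := exists_aut hi hu.2
  by_cases hin : H46.S95.Inn α
  · exact red_two hA hg ou hu (h4 g hg) (inner (mem_of_inn hα hin))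
  have uu := sq_of_ord ou
  obtain ⟨E, hE, hc⟩ := ho α (MulEquiv.ext fun a => hi (by
    rw [MulAut.mul_apply, hα, hα, MulAut.one_apply, ← mul_assoc, ← mul_assoc, uu, mul_assoc,
      mul_assoc, ← mul_inv_rev, uu]; simp)) hin
  have hi' : Function.Injective ((MulAut.conj g).toMonoidHom.comp φ) :=
    (MulAut.conj g).injective.comp hi
  have t2 := @two _ _ _ _ _ _ hb hi'
  have d2 := der hb hi'
  rw [range_conj] at t2 d2
  set A := φ.range
  have uK : u ∈ C[(MulAut.conj g • A : Subgroup G)] := by rw [centralizer_conj_smul]; exact hu.1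
  have cN : ∀ x, x * u = u * x → x ∈ N[(MulAut.conj g • A : Subgroup G)] := fun x e =>
    cent_le_norm (std_conj hA g) ou uK (mem_cent1.2 e)
  have cu : ∀ x, α x = x → φ x * u = u * φ x := fun x e => by
    rw [mul_inv_eq_iff_eq_mul.1 (hα x).symm, e]
  obtain ⟨e, he, e1, zi⟩ : ∃ e ∈ E, e ≠ 1 ∧
      φ e ∈ MulAut.conj g • A ⊔ C[(MulAut.conj g • A : Subgroup G)] := by
    rcases hc with hc | ⟨hc, X, h1, h2⟩
    · have := hb.fin
      obtain ⟨a, b, a1, b1, ab⟩ : ∃ a b : E, a ≠ 1 ∧ b ≠ 1 ∧ a ≠ b := by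
        have := Fintype.ofFinite E
        obtain ⟨a, b, c, h1, h2, h3⟩ := Fintype.two_lt_card_iff.1
          (show 2 < Fintype.card E by rw [← Nat.card_eq_fintype_card]; omega)
        by_cases ha : a = 1
        · exact ⟨b, c, ha ▸ h1.symm, ha ▸ h2.symm, h3⟩
        by_cases hb : b = 1
        exacts [⟨a, c, ha, hb ▸ h3.symm, h2⟩, ⟨a, b, ha, hb, h1⟩]
      rcases t2 (cN _ (cu _ (hE a a.2).2.1)) (cN _ (cu _ (hE b b.2).2.1)) with h | h | h
      · exact ⟨a, a.2, by simpa using a1, h⟩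
      · exact ⟨b, b.2, by simpa using b1, h⟩
      · refine ⟨a * b, mul_mem a.2 b.2, fun e => ab (Subtype.ext ?_), map_mul φ _ _ ▸ h⟩
        exact mul_right_cancel (e.trans (hE b b.2).1.symm)
    · obtain ⟨⟨e, he⟩, e1⟩ := ne_bot_iff_exists_ne_one.1 hc
      refine ⟨e, he, by simpa using e1, d2 ?_⟩
      have h3 : X.map φ ≤ N[(MulAut.conj g • A : Subgroup G)] := by
        rintro _ ⟨x, hx, rfl⟩
        exact cN _ (cu x (h1 x hx))
      exact commutator_mono h3 h3 (map_commutator X X φ ▸ mem_map_of_mem φ (h2 he))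
  obtain ⟨-, h2, w, hw⟩ := hE e he
  have zu := cu e h2
  have ew : (φ w)⁻¹ * u * (φ w)⁻¹⁻¹ = u * φ e := by
    rw [hw, map_mul, map_inv, hα, ← inv_eq_of_mul_eq_one_right uu]
    simp only [inv_eq_of_mul_eq_one_right uu, mul_inv_rev, inv_inv, ← mul_assoc, uu, one_mul]
  have hz : φ e ∈ A := ⟨e, rfl⟩
  have z1 : φ e ≠ 1 := fun h => e1 (hi (h.trans (map_one φ).symm))
  generalize (φ w)⁻¹ = w at ew
  generalize φ e = z at ew hz z1 zu zi
  have ouz : orderOf (u * z) = 2 := by rw [← ew, ← ou]; exact (MulAut.conj w).orderOf_eq u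
  have wn : w ∉ N[(MulAut.conj g • A : Subgroup G)] := fun e => by
    have a : u * z ∈ MulAut.conj g • C[A] := by
      rw [← centralizer_conj_smul, ← ew]; exact C_conj e uK
    rcases two_K (h4 g hg) ou hu ⟨a, mul_mem hu.2 (le_normalizer hz)⟩
      ⟨1, by rw [pow_one, pow_two, sq_of_ord ouz]⟩ (by rw [mul_assoc, zu]) with b | b
    · exact ne_of_ord ouz b
    · exact z1 (mul_eq_left.1 b)
  have hg' : g⁻¹ * w * g ∉ N[A] := fun e => wn (by rw [normalizer_conj_smul, mem_conj]; exact e)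
  refine red_two hA hg' (u := g⁻¹ * (u * z) * g) ?_ ⟨?_, ?_⟩ (h4 _ hg') ?_
  · rw [← ouz]; simpa using (MulAut.conj g⁻¹).orderOf_eq (u * z)
  · refine mem_conj.2 ?_
    rw [← ew]
    simpa [mul_assoc] using mem_conj.1 hu.1
  · have := cN (u * z) (by rw [mul_assoc, zu])
    rwa [normalizer_conj_smul, mem_conj] at this
  · have := (inner (mul_mem (mem_sup_right uK) zi)).conj g⁻¹
    rwa [conj_inv_smul_conj_smul, inv_inv] at this

theorem exists_compl {D : Subgroup G} (h4 : ¬ 4 ∣ Nat.card D) {t : G} (ht : orderOf t = 2)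
    (hD : t ∈ D) (hc : ∀ d ∈ D, d * t = t * d) :
    ∃ O ≤ D, Odd (Nat.card O) ∧ ∀ d ∈ D, d ∈ O ∨ d * t ∈ O := by
  let t' : D := ⟨t, hD⟩
  have o' : orderOf t' = 2 := by rw [← ht, orderOf_mk]
  have : (zpowers t').Normal := ⟨fun n hn y => by
    rwa [← comm_of_zpowers hn (Subtype.ext (hc y y.2)).symm, mul_inv_cancel_right]⟩
  have h1 : Odd (zpowers t').index := Nat.not_even_iff_odd.1 fun e => h4 (by
    rw [← (zpowers t').card_mul_index, Nat.card_zpowers, o']
    exact Nat.mul_dvd_mul_left 2 (even_iff_two_dvd.1 e))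
  obtain ⟨H, hH⟩ := exists_right_complement'_of_coprime (N := zpowers t') (by
    rw [Nat.card_zpowers, o']; exact Nat.coprime_two_left.2 h1)
  refine ⟨H.map D.subtype, map_subtype_le H, ?_, fun d hd => ?_⟩
  · rwa [card_map_of_injective D.subtype_injective, ← hH.symm.index_eq_card]
  · obtain ⟨⟨⟨n, hn⟩, ⟨y, hy⟩⟩, e⟩ := hH.2 ⟨d, hd⟩
    have e' : (n : G) * y = d := congrArg Subtype.val e
    rcases mem_zp_two (sq_of_ord o') hn with rfl | rfl
    · exact .inl ⟨y, hy, by simpa using e'⟩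
    · refine .inr ⟨y, hy, ?_⟩
      rw [← e', ← hc y y.2, mul_assoc, sq_of_ord ht, mul_one]
      rfl

/-- **REDC** -/
theorem redC : RedCStmt.{u} := by
  intro Γ _ G _ _ φ F hb ho hi hA hF h4
  obtain ⟨t, hK, ht⟩ := exists_invol hA
  obtain ⟨O, h1, h2, h3⟩ := exists_compl (D := C[φ.range] ⊓ centralizer {t})
    (fun e => not_four hb ho hi hA hF h4 (e.trans (card_dvd_of_le inf_le_left))) ht
    ⟨hK, mem_centralizer_singleton_iff.2 rfl⟩ fun d hd => mem_centralizer_singleton_iff.1 hd.2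
  have hN : ∀ c, c * t = t * c → c ∈ N[φ.range] := fun c e => cent_le_norm hA ht hK (mem_cent1.2 e)
  refine ⟨t, O, hi, sq_of_ord ht, ne_of_ord ht, mem_C_range.1 hK, hN, fun c e hc =>
    h3 c ⟨hc, mem_centralizer_singleton_iff.2 e⟩, h2, h1.trans inf_le_left,
    fun o ho => mem_centralizer_singleton_iff.1 (h1 ho).2, fun c e => mem_N_of fun o ho => ?_⟩
  have h5 : Commute (c * o * c⁻¹) t := by
    have hc : Commute c t := e
    exact (hc.mul_left (mem_centralizer_singleton_iff.1 (h1 ho).2)).mul_left hc.inv_left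
  refine odd_mem_of_sq ?_ ?_
  · rw [show orderOf (c * o * c⁻¹) = orderOf o from (MulAut.conj c).orderOf_eq o]
    exact h2.of_dvd_nat (orderOf_dvd_natCard O ho)
  rcases h3 _ ⟨C_conj (hN c e) (h1 ho).1, mem_centralizer_singleton_iff.2 h5⟩ with h | h
  · exact mul_mem h h
  · have := mul_mem h h
    rwa [h5.symm.mul_mul_mul_comm, sq_of_ord ht, mul_one] at this

end Cfsg.Agent.H36.S95C
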