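import Cfsg.Agent.H36.LTS1

/-! The side analysis: translations. -/

set_option autoImplicit false

namespace Cfsg.Agent.H36.LTS

open Subgroup Cfsg.Agent.H85

variable {G : Type*} [Group G] {t z f a b r x t' z' a' : G} {R : Subgroup G}

theorem cvd (x g : G) : cv x g = g⁻¹ * x * g := rfl

theorem rk {u v c : G} (h : cv u v = c) :
    cv u v = c ∧ u * v = v * c ∧ ∀ w, u * (v * w) = v * (c * w) := ⟨h, rl h⟩

/-- the action of `x` on `E` -/
structure Ac (t z f a x t' z' a' : G) : Prop where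
  ht : cv t x = t'
  hz : cv z x = z'
  hf : cv f x = f
  ha : cv a x = a'

theorem Ac.rw (A : Ac t z f a x t' z' a') :
    (cv t x = t' ∧ t * x = x * t' ∧ ∀ w, t * (x * w) = x * (t' * w)) ∧
    (cv z x = z' ∧ z * x = x * z' ∧ ∀ w, z * (x * w) = x * (z' * w)) ∧
    (cv f x = f ∧ f * x = x * f ∧ ∀ w, f * (x * w) = x * (f * w)) ∧
    (cv a x = a' ∧ a * x = x * a' ∧ ∀ w, a * (x * w) = x * (a' * w)) :=
  ⟨rk A.ht, rk A.hz, rk A.hf, rk A.ha⟩

theorem Rr.rw (h : Rr t z f a r) : cv t r = t ∧ cv f r = f ∧ cv z r = a ∧ cv a r = z * a :=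
  ⟨h.tr, h.fr, h.zr, h.ar⟩

theorem Ac.cr (A : Ac t z f a x t' z' a') (B : B1 t z f a b) (h : Rr t z f a r) :
    Ac t z f a (cv x r) (cv t' r) (cv (z' * a') r) (cv z' r) := by
  refine ⟨h.tr ▸ cv_tr A.ht r, ?_, by simpa only [h.fr] using cv_tr A.hf r, h.zr ▸ cv_tr A.hz r⟩
  have : cv (z * a) r = z := by en B [h.rw]
  rw [← A.hz, ← A.ha, ← cv_mul, ← cv_conj, this]

theorem Ac.cb (A : Ac t z f a x t' z' a') (B : B1 t z f a b) :
    Ac t z f a (cv x b) (cv t' b) (cv z' b) (cv (z' * a') b) := by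
  refine ⟨cv_of B.tb ▸ cv_tr A.ht b, cv_of B.zb ▸ cv_tr A.hz b,
    by simpa only [cv_of B.fb] using cv_tr A.hf b, ?_⟩
  have : cv (z * a) b = a := by en B []
  rw [← A.hz, ← A.ha, ← cv_mul, ← cv_conj, this]

theorem Ac.W (A : Ac t z f a x t' z a) {w : G} (hw : w ∈ closure ({z, f, a} : Set G)) :
    cv w x = w :=
  (cv_eq_closure (k := 1) (by
    rintro _ (rfl | rfl | rfl) <;> simp only [cv_one', A.hz, A.hf, A.ha]) hw).trans (cv_one' w)

theorem WE {w : G} (hw : w ∈ closure ({z, f, a} : Set G)) : w ∈ closure ({t, z, f, a} : Set G) :=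
  closure_mono (Set.subset_insert _ _) hw

theorem PW {w : G} (hw : w ∈ closure ({z, f} : Set G)) : w ∈ closure ({z, f, a} : Set G) :=
  closure_mono (by rintro _ (rfl | rfl) <;> simp) hw

theorem B1.ee (B : B1 t z f a b) {e : G} (he : e ∈ closure ({t, z, f, a} : Set G)) : e * e = 1 := by
  obtain ⟨w, hw, e⟩ := B.memE he
  rcases B.memW hw with rfl | rfl | rfl | rfl | rfl | rfl | rfl | rfl <;>
    rcases e with rfl | rfl <;> en B []

theorem B1.eb (B : B1 t z f a b) {e : G} (he : e ∈ closure ({t, z, f, a} : Set G)) :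
    cv e b = e ∨ cv e b = z * e := by
  obtain ⟨w, hw, e⟩ := B.memE he
  rcases B.memW hw with rfl | rfl | rfl | rfl | rfl | rfl | rfl | rfl <;>
    rcases e with rfl | rfl <;> en B [true_or, or_true]

/-- an element of `E` as a letter -/
theorem B1.wr (B : B1 t z f a b) {e : G} (he : e ∈ closure ({t, z, f, a} : Set G)) :
    (e⁻¹ = e ∧ e * e = 1 ∧ ∀ w, e * (e * w) = w) ∧
    (cv e t = e ∧ e * t = t * e ∧ ∀ w, e * (t * w) = t * (e * w)) ∧
    (cv e z = e ∧ e * z = z * e ∧ ∀ w, e * (z * w) = z * (e * w)) ∧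
    (cv e f = e ∧ e * f = f * e ∧ ∀ w, e * (f * w) = f * (e * w)) ∧
    (cv e a = e ∧ e * a = a * e ∧ ∀ w, e * (a * w) = a * (e * w)) :=
  ⟨ri (B.ee he), rk (B.cE he m1), rk (B.cE he m2), rk (B.cE he m3), rk (B.cE he (by memc))⟩

theorem coreX (B : B0 t z f a b) (S : Sd t z f a b r R) (hx : x ∈ R)
    (A : Ac t z f a x (t * z) z a) {c p : G} (hc : c ∈ closure ({z, f} : Set G))
    (xb : cv x b = x * c) (hp : p ∈ closure ({z, f} : Set G)) (xx : x * x = p) :
    p = c ∨ p = z * c := by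
  have B' := B.toB1
  have A0 := A.cr B' S.toRr
  have R0 := S.nr x hx
  have q0 : cv x r * cv x r = cv p r := by rw [← cv_mul, xx]
  generalize cv x r = m at A0 R0 q0
  en B' [S.toRr.rw] at A0
  have A1 := A0.cb B'
  have R1 := S.nb m R0
  have q1 : cv m b * cv m b = cv (cv p r) b := by rw [← cv_mul, q0]
  have k0 : cv (m * cv m b) b = cv m b * m := by rw [cv_mul, cv_sq B.bb]
  generalize cv m b = n at A1 R1 q1 k0
  en B' [] at A1
  obtain ⟨e, he, k⟩ := S.ker x hx _ (mul_mem R0 R1) (by en B' [A.rw, A0.rw, A1.rw])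
  have cW := PW (a := a) hc
  have k1 : n * m = m * (n * c) ∨ n * m = m * (n * (z * c)) := by
    rw [← k0, ← mul_assoc m, ← mul_assoc m, k, cv_mul, xb]
    refine (B'.eb he).imp (fun h => ?_) fun h => ?_ <;> rw [h] <;>
      en B' [B'.wr he, B'.wr (WE cW), rc (cm_of (B'.cE he (WE cW)))]
  have k2 : x * e * (x * e) = p ∨ x * e * (x * e) = z * p := by
    obtain ⟨w, hw, rfl | rfl⟩ := B'.memE he <;>
      en B' [A.rw, rk (A.W hw), B'.wr (WE hw), rs xx, B'.wr (WE (PW hp)), true_or, or_true]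
  have k3 : m * (m * (n * n)) = 1 ∨ m * (m * (n * n)) = z := by
    rw [← mul_assoc, q0, q1]
    rcases B'.memP hp with rfl | rfl | rfl | rfl <;> en B' [S.toRr.rw, true_or, or_true]
  have k4 : ∀ d ∈ closure ({z, f, a} : Set G), n * m = m * (n * d) →
      x * e * (x * e) = m * (m * (n * n)) * d := fun d hd h => by
    rw [← k, mul_assoc, ← mul_assoc n, h]
    simp only [mul_assoc, rk (A1.W hd)]
  rcases k1 with h | h <;> rw [k4 _ (by memc) h] at k2 <;> rcases k3 with h | h <;>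
    rw [h] at k2 <;> rcases k2 with rfl | h
  all_goals first | en B' [true_or, or_true] | skip
  all_goals
    rw [← inv_mul_eq_iff_eq_mul] at h
    rw [← h]
    en B' [true_or, or_true]

/-- The involution `x` and its conjugates `m`, `l` under `r`. -/
structure SN (t z f a b r x m l : G) : Prop extends Rr t z f a r where
  xx : x * x = 1
  A : Ac t z f a x (t * z) z a
  bx : cv b x = b
  xr : cv x r = m
  mr : cv m r = l
  lr : cv l r = x
  mb : cv m b = l

variable {m l : G}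

theorem SN.mm (N : SN t z f a b r x m l) : m * m = 1 := by rw [← N.xr, ← cv_mul, N.xx, cv_one]
theorem SN.ll (N : SN t z f a b r x m l) : l * l = 1 := by rw [← N.mr, ← cv_mul, N.mm, cv_one]
theorem SN.Am (N : SN t z f a b r x m l) (B : B1 t z f a b) : Ac t z f a m (t * a) z a := by
  have := N.A.cr B N.toRr
  en B [N.toRr.rw, N.xr] at this
  exact this
theorem SN.Al (N : SN t z f a b r x m l) (B : B1 t z f a b) :
    Ac t z f a l (t * (z * a)) z a := by
  have := (N.Am B).cr B N.toRr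
  en B [N.toRr.rw, N.mr] at this
  exact this

theorem SN.cj (N : SN t z f a b r x m l) (g : G) : SN (cv t g) (cv z g) (cv f g) (cv a g) (cv b g)
    (cv r g) (cv x g) (cv m g) (cv l g) where
  tr := cv_tr N.tr g
  fr := cv_tr N.fr g
  zr := cv_tr N.zr g
  ar := cv_mul z a g ▸ cv_tr N.ar g
  od := by rw [orderOf_cv]; exact N.od
  xx := by rw [← cv_mul, N.xx, cv_one]
  A := ⟨cv_mul t z g ▸ cv_tr N.A.ht g, cv_tr N.A.hz g, cv_tr N.A.hf g, cv_tr N.A.ha g⟩
  bx := cv_tr N.bx g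
  xr := cv_tr N.xr g
  mr := cv_tr N.mr g
  lr := cv_tr N.lr g
  mb := cv_tr N.mb g

theorem SN.tf (N : SN (t * f) z f a b r x m l) (B : B1 t z f a b) : SN t z f a b r x m l :=
  { N with
    tr := by simpa only [cv_mul, N.fr, mul_left_inj] using N.tr
    A := ⟨by
      have := N.A.ht
      rw [cv_mul, N.A.hf, mul_assoc, B.fz.eq, ← mul_assoc, mul_left_inj] at this
      exact this, N.A.hz, N.A.hf, N.A.ha⟩ }

theorem SN.mf (N : SN t z f a b r x m l) (B : B1 t z f a b) :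
    SN t z f a b r (x * f) (m * f) (l * f) :=
  { N.toRr with
    xx := by en B [N.A.rw, ri N.xx]
    A := by constructor <;> en B [N.A.rw]
    bx := by en B [N.bx, cv_of' B.fb]
    xr := by en B [N.xr, N.fr]
    mr := by en B [N.mr, N.fr]
    lr := by en B [N.lr, N.fr]
    mb := by en B [N.mb] }

theorem coreN (B : B0 t z f a b) (S : Sd t z f a b r R) (hx : x ∈ R) (xx : x * x = 1)
    (A : Ac t z f a x (t * z) z a) (bx : cv b x = b) :
    ∃ c m l, (c = 1 ∨ c = f) ∧ SN t z f a b r (x * c) m l ∧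
      (m * l = x * c ∨ m * l = x * c * (t * a)) := by
  have B' := B.toB1
  have xb : cv x b = x := cv_of' (cm_of bx)
  obtain ⟨m, xr⟩ : ∃ m, cv x r = m := ⟨_, rfl⟩
  obtain ⟨l, mr⟩ : ∃ l, cv m r = l := ⟨_, rfl⟩
  have lr : cv l r = x := by rw [← mr, ← xr, S.r3 x hx]
  have mR : m ∈ R := xr ▸ S.nr x hx
  have lR : l ∈ R := mr ▸ S.nr m mR
  have Am := A.cr B' S.toRr
  en B' [S.toRr.rw, xr] at Am
  have Al := Am.cr B' S.toRr
  en B' [S.toRr.rw, mr] at Al
  have N : SN t z f a b r x m l := ⟨S.toRr, xx, A, bx, xr, mr, lr, by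
    obtain ⟨e, he, k⟩ := S.br
    have k1 := k x hx
    have k2 := k m mR
    have k3 := congrArg (cv · r) (k l lR)
    simp only [lr, xb, S.r3 _ (cv_mem (S.nb l lR) (S.ER he)), xr, mr] at k1 k2 k3
    obtain ⟨w, hw, rfl | rfl⟩ := B'.memE he
    · rw [k1, cv_of' (cm_of (A.W hw)), xr, mr]
    · have e1 : cv x (t * w) = x * z := by rw [cvd]; en B' [A.rw, rk (A.W hw), B'.wr (WE hw)]
      have e2 : cv (l * (z * a)) (t * w) = l := by
        rw [cvd]; en B' [Al.rw, rk (Al.W hw), B'.wr (WE hw)]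
      have e3 : cv m (t * w) = m * a := by rw [cvd]; en B' [Am.rw, rk (Am.W hw), B'.wr (WE hw)]
      rw [e1] at k1
      en B' [xr, mr, S.toRr.rw] at k1
      rw [k1, e2, lr, xr] at k2
      rw [k2, e3] at k3
      eno B [] k3⟩
  obtain ⟨e, he, k⟩ := S.ker x hx _ (mul_mem mR lR) (by en B' [A.rw, Am.rw, Al.rw])
  have k1 : cv e r = cv e x := by
    have := congrArg (cv · r) k
    simp only [cv_mul, mr, lr, xr] at this
    rw [← mul_right_inj m, ← this, ← mul_right_inj m, ← mul_assoc, k, cvd]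
    en B' [ri N.mm, ri xx]
  have k2 : e = 1 ∨ e = f ∨ e = t * a ∨ e = t * (f * a) := by
    obtain ⟨w, hw, h⟩ := B'.memE he
    rcases B'.memW hw with rfl | rfl | rfl | rfl | rfl | rfl | rfl | rfl <;>
      rcases h with rfl | rfl <;> en B' [S.toRr.rw, A.rw, true_or, or_true] at k1 ⊢ <;> eno B [] k1
  rcases k2 with rfl | rfl | rfl | rfl
  · exact ⟨1, m, l, .inl rfl, by rwa [mul_one], .inl k⟩
  · exact ⟨_, _, _, .inr rfl, N.mf B', .inl (by en B' [Al.rw, rs N.ll, k])⟩
  · exact ⟨1, m, l, .inl rfl, by rwa [mul_one], .inr (by rwa [mul_one])⟩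
  · exact ⟨_, _, _, .inr rfl, N.mf B', .inr (by en B' [Al.rw, rs N.ll, k])⟩

theorem SN.cE (N : SN t z f a b r x m l) (B : B1 t z f a b) (E : m * l = x) :
    l = m * x ∧ cv x m = x ∧ cv b m = b * x := by
  have e : l = m * x := by rw [← E, ← mul_assoc, N.mm, one_mul]
  have e1 : cv x m = x := by
    rw [cvd, ← mul_left_inj x, N.xx, ← N.ll, e]; en B [ri N.mm]
  refine ⟨e, e1, ?_⟩
  have := N.mb
  rw [e, cvd, mul_assoc, inv_mul_eq_iff_eq_mul] at this
  rw [cvd, (ri N.mm).1, this]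
  en B [rk e1, ri N.mm]

theorem SN.cH (N : SN t z f a b r x m l) (B : B1 t z f a b) (H : m * l = x * (t * a)) :
    l = m * (x * (t * a)) ∧ cv x m = x * (z * a) ∧ cv b m = b * (x * (t * (z * a))) := by
  have e : l = m * (x * (t * a)) := by rw [← H, ← mul_assoc, N.mm, one_mul]
  have e1 : cv x m = x * (z * a) := by
    have := N.ll
    rw [e] at this
    en B [N.A.rw, (N.Am B).rw] at this
    rw [← mul_assoc, ← mul_assoc, ← eq_inv_iff_mul_eq_one] at this
    rw [cvd, (ri N.mm).1, this]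
    en B [N.A.rw, ri N.xx]
  refine ⟨e, e1, ?_⟩
  have := N.mb
  rw [e, cvd, mul_assoc, inv_mul_eq_iff_eq_mul] at this
  rw [cvd, (ri N.mm).1, this]
  en B [rk e1, ri N.mm, N.A.rw, (N.Am B).rw]

theorem B1.toP (B : B1 t z f a b) (h : Rr t z f a r) {u : G}
    (hu : u ∈ closure ({z, f, a} : Set G)) (c : IsConj t u) :
    ∃ v ∈ closure ({z, f} : Set G), IsConj t v := by
  have c1 := c.trans (isConj_cv u r)
  have c2 := c1.trans (isConj_cv _ r)
  rcases B.memW hu with rfl | rfl | rfl | rfl | rfl | rfl | rfl | rfl <;> en B [h.rw] at c1 c2 <;>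
    first
    | (refine ⟨_, ?_, c⟩; memc; done)
    | (refine ⟨_, ?_, c1⟩; memc; done)
    | (refine ⟨_, ?_, c2⟩; memc; done)

theorem mixed {s w n k : G} (B : B1 t z f a b) (N : SN t z f a b r x m l) (E : m * l = x)
    (N' : SN t z (f * z) b a s w n k) (H : n * k = w * (t * b))
    (hw : x⁻¹ * w ∈ closure ({z, f} : Set G)) : ∃ v ∈ closure ({z, f} : Set G), IsConj t v := by
  obtain ⟨-, -, bm⟩ := N.cE B E
  obtain ⟨-, wn, an⟩ := N'.cH B.mir H
  have An := N'.Am B.mir
  have fn : cv f n = f := by simpa only [cv_mul, An.hz, mul_left_inj] using An.hf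
  obtain ⟨p, hp, rfl⟩ : ∃ p ∈ closure ({z, f} : Set G), w = x * p := ⟨_, hw, by simp⟩
  have xt : cv x t = x * z := by rw [cvd]; en B [N.A.rw]
  have c := ((isConj_cv t (n * t)).trans (isConj_cv _ m)).trans (isConj_cv _ (n * t))
  have pn : cv p n = p := (cv_eq_closure (k := 1) (by
    rintro _ (rfl | rfl) <;> simp only [cv_one', An.hz, fn]) hp).trans (cv_one' p)
  have xn : cv x n = x * (p * (z * (b * p))) := by
    rw [cv_mul, pn, ← eq_mul_inv_iff_mul_eq] at wn
    rw [wn]; en B [B.wr (WE (PW hp))]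
  refine B.toP N.toRr ?_ c
  rcases B.memP hp with rfl | rfl | rfl | rfl <;>
    en B [An.ht, An.hz, An.ha, fn, an, xn, bm, xt, N.A.rw, rk N.bx, (N.Am B).ht, ri N.xx] <;> memc

theorem Gd.mul_r (B : B1 t z f a b) (h : Rr t z f a r) {k : G} (g : Gd t z f a k) :
    Gd t z f a (k * r) := by
  have W : ∀ w ∈ closure ({z, f, a} : Set G), cv w r ∈ closure ({z, f, a} : Set G) := fun w =>
    cv_closure (by rintro _ (rfl | rfl | rfl) <;> en B [h.rw] <;> memc)
  refine ⟨by rw [cv_cv, g.1, h.fr], cv_cv z k r ▸ W _ g.2.1, cv_cv a k r ▸ W _ g.2.2.1, ?_⟩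
  rw [cv_cv]
  exact cv_closure (by rintro _ (rfl | rfl | rfl | rfl) <;> en B [h.rw] <;> memc) g.2.2.2

theorem hA_of [Finite G] (B : B1 t z f a b) (h : Rr t z f a r)
    (H : ∀ n ∈ normalizer ((closure ({t, z, f, a} : Set G) : Subgroup G) : Set G),
      cv t n ∈ closure ({t, z, f} : Set G) → ∃ k, Gd t z f a k ∧ cv t k = cv t n) :
    ∀ n ∈ normalizer ((closure ({t, z, f, a} : Set G) : Subgroup G) : Set G),
      ∃ k, Gd t z f a k ∧ cv t k = cv t n := fun n hn => by
  have rN : r ∈ normalizer ((closure ({t, z, f, a} : Set G) : Subgroup G) : Set G) :=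
    nrm_of fun x => cv_closure (by rintro _ (rfl | rfl | rfl | rfl) <;> en B [h.rw] <;> memc)
  have H1 := H _ (mul_mem hn rN)
  have H2 := H _ (mul_mem (mul_mem hn rN) rN)
  have H0 := H n hn
  have hu : cv t n ∈ _ := cv_nrm m1 hn
  simp only [cv_cv] at H1 H2
  generalize cv t n = u at hu H0 H1 H2
  have r3 : cv (cv (cv u r) r) r = u := by
    rw [← cv_cv, ← cv_cv, cv_eq_closure (k := 1) (by
      rintro _ (rfl | rfl | rfl | rfl) <;> en B [h.rw]) hu, cv_one']
  have : u ∈ closure ({t, z, f} : Set G) ∨ cv u r ∈ closure ({t, z, f} : Set G) ∨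
      cv (cv u r) r ∈ closure ({t, z, f} : Set G) := by
    obtain ⟨w, hw, e⟩ := B.memE hu
    rcases B.memW hw with rfl | rfl | rfl | rfl | rfl | rfl | rfl | rfl <;>
      rcases e with rfl | rfl <;> en B [h.rw] <;>
      first
      | (left; memc; done)
      | (right; left; memc; done)
      | (right; right; memc; done)
  rcases this with e | e | e
  · exact H0 e
  · obtain ⟨k, g, e⟩ := H1 e
    exact ⟨_, (g.mul_r B h).mul_r B h, by rw [cv_cv, cv_cv, e, r3]⟩
  · obtain ⟨k, g, e⟩ := H2 e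
    exact ⟨_, g.mul_r B h, by rw [cv_cv, e, r3]⟩

end Cfsg.Agent.H36.LTS
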