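import Cfsg.Agent.H96.VbDefs
import Cfsg.Agent.H36.O8T2

/-! Extensions of the large Ree groups by field automorphisms. -/

set_option autoImplicit false

namespace Cfsg.Agent.H36.VbR

open Cfsg.Agent.H39 Cfsg.Agent.H15.O8 Cfsg.Agent.H96.VB Cfsg.Agent.H36.O8T Subgroup

universe u

variable {K : Type u} [Field K] {T : Tits K} {X : Type u} [Group X]

/-- A field automorphism on units. -/
def um (φ : RingAut K) : Kˣ →* Kˣ := Units.map (φ : K →* K)

theorem um_val (φ : RingAut K) (a : Kˣ) : (um φ a : K) = φ a := rfl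

/-- A field automorphism on the torus. -/
def um2 (φ : RingAut K) : Kˣ × Kˣ →* Kˣ × Kˣ := (um φ).prodMap (um φ)

theorem um2_mul (φ ψ : RingAut K) (c : Kˣ × Kˣ) : um2 (φ * ψ) c = um2 φ (um2 ψ c) := rfl

theorem um2_one (c : Kˣ × Kˣ) : um2 (1 : RingAut K) c = c := rfl

/-- The normaliser of the Sylow subgroup is the Borel subgroup. -/
theorem mem_Bo_of_norm (M : FF T X) {g : X} (hg : g ∈ M.X)
    (hn : g ∈ normalizer (M.φ.range : Set X)) : g ∈ Bo M.toPF := by
  obtain ⟨u, w, hw, b, hb, rfl⟩ := bruhat M hg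
  have h : w ∈ normalizer (M.φ.range : Set X) := by
    have : w = (M.φ u)⁻¹ * (M.φ u * w * b) * b⁻¹ := by group
    rw [this]
    exact mul_mem (mul_mem (inv_mem (Bo_norm _ (φ_Bo _ u))) hn) (inv_mem (Bo_norm _ hb))
  obtain ⟨k, rfl | rfl⟩ := hw
  · have hk : 8 ∣ k := by
      by_contra hk
      obtain ⟨j, hj⟩ : ∃ j, 8 ∣ k * j - 4 := by
        have : 8 ∣ k * 1 - 4 ∨ 8 ∣ k * 2 - 4 ∨ 8 ∣ k * 4 - 4 := by omega
        rcases this with e | e | e <;> exact ⟨_, e⟩
      have := zpow_mem h j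
      rw [← zpow_mul, rho_per M hj] at this
      exact not_S9 M.toPF (r1_4 M.toPF 1 ▸ (mem_normalizer_iff.1 this _).1 ⟨x1 T 1, rfl⟩)
    rw [rho_per M (j := 0) (by simpa using hk), zpow_zero, mul_one]
    exact mul_mem (φ_Bo _ u) hb
  · exfalso
    have key : ∀ g, M.n1 * rot M.toPF k g * M.n1 ∈ M.φ.range → g ∈ M.φ.range := fun g hg => by
      refine (mem_normalizer_iff.1 h g).2 ?_
      rw [mul_inv_rev, n1_inv]
      simpa [rot, mul_assoc] using hg
    by_cases hk : (-k) % 8 ≤ 3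
    · refine not_S9 M.toPF (key _ ?_)
      rw [← r1_4, ← rot_add, n1_rot, ← r1_4, ← rot_add]
      exact pos1 M (by omega) _
    · refine not_S0 M.toPF one_ne_zero (key _ ?_)
      rw [← r8_4, ← rot_add, n1_rot, M.n1φ _ (by o8s),
        show w1 (y8 T 0 * x8 T 1) = y2 T 0 * x2 T 1 by ext <;> o8s, ← r8_3, ← rot_add]
      exact pos8 M (by omega) _ _

theorem ext_X (M : FF T X) (hX : M.X = ⊤) {a b : MulAut X} (h1 : ∀ u, a (M.φ u) = b (M.φ u))
    (h2 : ∀ c, a (M.h c) = b (M.h c)) (h3 : a M.n1 = b M.n1) (h4 : a M.n8 = b M.n8) : a = b :=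
  MulEquiv.ext fun g => X_le_of M.toPF (H := a.toMonoidHom.eqLocus b.toMonoidHom) h1 h2 h3 h4
    (hX ▸ mem_top g)

variable [Finite K]

theorem um_θ (φ : RingAut K) (a : Kˣ) : um φ (θu T a) = θu T (um φ a) :=
  Units.ext (aut_θ T φ a)

theorem fld_w1 (φ : RingAut K) (u : U T) : fld T φ (w1 u) = w1 (fld T φ u) := by
  ext <;> simp only [fld_apply, fmap, w1, map_add, map_mul, map_pow, map_zero, aut_θ]

theorem fld_w8 (φ : RingAut K) (u : U T) : fld T φ (w8 u) = w8 (fld T φ u) := by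
  ext <;> simp only [fld_apply, fmap, w8, map_add, map_mul, map_zero, aut_θ]

theorem fld_tor (φ : RingAut K) (c : Kˣ × Kˣ) (u : U T) :
    fld T φ (tor T c u) = tor T (um2 φ c) (fld T φ u) := by
  ext <;> simp only [fld_apply, tor_apply, fmap, sc, map_mul, map_pow, map_inv₀, aut_θ] <;> rfl

theorem fld_x1 (φ : RingAut K) (t : K) : fld T φ (x1 T t) = x1 T (φ t) := by
  ext <;> simp only [fld_apply, fmap, x1, map_zero]

theorem fld_E (φ : RingAut K) {u : U T} (h : u ∈ E T) : fld T φ u ∈ E T := by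
  rw [mem_E] at h ⊢
  simp only [fld_apply, fmap, h, map_zero]

theorem fld_Q (φ : RingAut K) {u : U T} (h : u ∈ Q T) : fld T φ u ∈ Q T := by
  rw [mem_Q] at h ⊢
  simp only [fld_apply, fmap, h, map_zero, and_self]

theorem fld_U8 (φ : RingAut K) {u : U T} (h : u ∈ U8 T) : fld T φ u ∈ U8 T := by
  rw [mem_U8] at h ⊢
  simp only [fld_apply, fmap, h, map_zero, and_self]

theorem fld_inv (φ : RingAut K) (u : U T) : fld T φ (fld T φ⁻¹ u) = u := by
  rw [← MulAut.mul_apply, ← map_mul, mul_inv_cancel, map_one, MulAut.one_apply]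

/-- The frame twisted by a field automorphism. -/
def tw (M : FF T X) (φ : RingAut K) : FF T X where
  φ := M.φ.comp (fld T φ).toMonoidHom
  inj := M.inj.comp (fld T φ).injective
  n1 := M.n1
  n8 := M.n8
  h := M.h.comp (um2 φ)
  n1n1 := M.n1n1
  n8n8 := M.n8n8
  n1φ u hu := (M.n1φ _ (fld_E φ hu)).trans (congrArg M.φ (fld_w1 φ u).symm)
  n8φ u hu := (M.n8φ _ (fld_Q φ hu)).trans (congrArg M.φ (fld_w8 φ u).symm)
  hφ c u := (M.hφ _ _).trans (congrArg M.φ (fld_tor φ c u).symm)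
  n1h a b := M.n1h _ _
  n8h a b := (M.n8h (um φ a) (um φ b)).trans (congrArg M.h (by
    rw [← um_θ, ← map_div]; rfl))
  rk1 t := by
    show M.n1 * M.φ (fld T φ (x1 T t)) * M.n1 = M.φ (fld T φ (x1 T (t⁻¹ : Kˣ))) *
      M.h (um φ (t / θu T t), um φ (θu T t / t)) * M.n1 * M.φ (fld T φ (x1 T (t⁻¹ : Kˣ)))
    rw [fld_x1, fld_x1, map_div, map_div, um_θ, ← um_val, ← um_val, map_inv]
    exact M.rk1 _
  rk8 u hu h := by
    obtain ⟨a, ha, b, hb, c, e⟩ := M.rk8 _ (fld_U8 φ hu) (by simpa using h)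
    refine ⟨fld T φ⁻¹ a, fld_U8 _ ha, fld T φ⁻¹ b, fld_U8 _ hb, um φ⁻¹ c, ?_⟩
    show M.n8 * M.φ (fld T φ u) * M.n8 = M.φ (fld T φ (fld T φ⁻¹ a)) *
      M.h (um φ 1, um φ (um φ⁻¹ c)) * M.n8 * M.φ (fld T φ (fld T φ⁻¹ b))
    rw [fld_inv, fld_inv, map_one,
      show um φ (um φ⁻¹ c) = c from Units.ext (φ.apply_symm_apply (c : K))]
    exact e
  braid := M.braid

theorem tw_X (M : FF T X) (hX : M.X = ⊤) (φ : RingAut K) : (tw M φ).X = ⊤ := by
  refine top_le_iff.1 (hX ▸ X_le_of M.toPF (fun u => ?_) (fun c => ?_) (mem_X_n1 (tw M φ).toPF)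
    (mem_X_n8 (tw M φ).toPF))
  · rw [← fld_inv φ u]; exact mem_X_φ (tw M φ).toPF _
  · rw [← um2_one c, ← mul_inv_cancel φ, um2_mul]; exact mem_X_h (tw M φ).toPF _

theorem exists_aut (M : FF T X) (hX : M.X = ⊤) (φ : RingAut K) : ∃ a : MulAut X,
    (∀ u, a (M.φ u) = M.φ (fld T φ u)) ∧ (∀ c, a (M.h c) = M.h (um2 φ c)) ∧ a M.n1 = M.n1 ∧
      a M.n8 = M.n8 := by
  obtain ⟨e, he⟩ := graph_equiv (fprod M (tw M φ)).X
    ((map_X_of (fprod M (tw M φ)) M (MonoidHom.fst X X) rfl rfl rfl rfl).2.trans hX)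
    ((map_X_of (fprod M (tw M φ)) (tw M φ) (MonoidHom.snd X X) rfl rfl rfl rfl).2.trans
      (tw_X M hX φ))
    (inj_X_of (fprod M (tw M φ)) M (MonoidHom.fst X X) rfl rfl rfl rfl)
    (inj_X_of (fprod M (tw M φ)) (tw M φ) (MonoidHom.snd X X) rfl rfl rfl rfl)
  exact ⟨topEquiv.symm.trans (e.trans topEquiv),
    fun u => he _ (mem_X_φ (fprod M (tw M φ)).toPF u) (mem_top _),
    fun c => he _ (mem_X_h (fprod M (tw M φ)).toPF c) (mem_top _),
    he _ (mem_X_n1 (fprod M (tw M φ)).toPF) (mem_top _),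
    he _ (mem_X_n8 (fprod M (tw M φ)).toPF) (mem_top _)⟩

theorem exists_hom (M : FF T X) (hX : M.X = ⊤) : ∃ a : RingAut K →* MulAut X,
    ∀ φ u, a φ (M.φ u) = M.φ (fld T φ u) := by
  choose a h1 h2 h3 h4 using exists_aut M hX
  refine ⟨MonoidHom.mk' a fun φ ψ => ext_X M hX (fun u => ?_) (fun c => ?_) ?_ ?_, h1⟩
  · rw [MulAut.mul_apply, h1, h1, h1, map_mul, MulAut.mul_apply]
  · rw [MulAut.mul_apply, h2, h2, h2, um2_mul]
  · rw [MulAut.mul_apply, h3, h3, h3]
  · rw [MulAut.mul_apply, h4, h4, h4]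

variable (T) in
theorem real : RealStmt T := by
  intro X _ _ M hX hodd Φ hΦ
  obtain ⟨a, ha⟩ := exists_hom M hX
  have : Finite Φ := Nat.finite_of_card_ne_zero fun h => by simp [h] at hΦ
  let G := X ⋊[a.comp Φ.subtype] Φ
  let ι : U T →* G := SemidirectProduct.inl.comp M.φ
  have key : ∀ (x : X) (ψ : Φ) (u : U T), (SemidirectProduct.inl x * SemidirectProduct.inr ψ : G) *
      ι u * (SemidirectProduct.inl x * SemidirectProduct.inr ψ)⁻¹ =
      SemidirectProduct.inl (x * M.φ (fld T ψ u) * x⁻¹) := fun x ψ u => by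
    rw [← ha, map_mul, map_mul, map_inv]
    have := SemidirectProduct.inl_aut (φ := a.comp Φ.subtype) ψ (M.φ u)
    rw [map_inv] at this
    refine Eq.trans ?_ (congrArg (fun y : G => SemidirectProduct.inl x * y *
      (SemidirectProduct.inl x)⁻¹) this.symm)
    simp only [ι, MonoidHom.comp_apply, mul_inv_rev, mul_assoc]
  have hB : ∀ (s : U T) (c : Kˣ × Kˣ) (ψ : Φ) (u : U T),
      (SemidirectProduct.inl (M.φ s * M.h c) * SemidirectProduct.inr ψ : G) * ι u *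
        (SemidirectProduct.inl (M.φ s * M.h c) * SemidirectProduct.inr ψ)⁻¹ =
      ι (s * tor T c (fld T ψ u) * s⁻¹) := fun s c ψ u => by
    rw [key]
    refine congrArg SemidirectProduct.inl ?_
    rw [map_mul, map_mul, map_inv, ← M.hφ]; group
  refine ⟨G, inferInstance, Finite.of_equiv _ SemidirectProduct.equivProd.symm, ι,
    SemidirectProduct.inl_injective.comp M.inj, ?_, fun g hg => ?_, fun c φ hφ => ?_, ?_, ?_⟩
  · rw [MonoidHom.range_comp, index_map_of_injective _ SemidirectProduct.inl_injective,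
      SemidirectProduct.range_inl_eq_ker_rightHom, index_ker,
      MonoidHom.range_eq_top.2 SemidirectProduct.rightHom_surjective, card_top]
    exact hodd.mul hΦ
  · rw [← SemidirectProduct.inl_left_mul_inr_right g] at hg ⊢
    have hn : g.left ∈ normalizer (M.φ.range : Set X) := by
      refine mem_normalizer_fintype ?_
      rintro _ ⟨u, rfl⟩
      obtain ⟨v, e⟩ := (mem_normalizer_iff.1 hg _).1 ⟨fld T (g.right : RingAut K)⁻¹ u, rfl⟩
      rw [key, fld_inv] at e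
      exact ⟨v, SemidirectProduct.inl_injective e⟩
    obtain ⟨s, c, e⟩ := (mem_Bo M.toPF).1 (mem_Bo_of_norm M (hX ▸ mem_top _) hn)
    exact ⟨s, c, g.right, g.right.2, fun u => by rw [e, hB]⟩
  · exact ⟨_, fun u => by simpa using hB 1 c ⟨φ, hφ⟩ u⟩
  · refine ⟨SemidirectProduct.inl M.n8, fun u hu => ?_⟩
    rw [← map_inv, n8_inv]
    exact (by simp [ι] : _ = SemidirectProduct.inl (M.n8 * M.φ u * M.n8)).trans
      (congrArg _ (M.n8φ u hu))
  · refine ⟨SemidirectProduct.inl M.n1, fun u hu => ?_⟩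
    rw [← map_inv, n1_inv]
    exact (by simp [ι] : _ = SemidirectProduct.inl (M.n1 * M.φ u * M.n1)).trans
      (congrArg _ (M.n1φ u hu))

end Cfsg.Agent.H36.VbR
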