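import Cfsg.Agent.H36.L3F2a

/-! Standard subgroups of type `L₃(q)`: the conjugates of the involution in the Sylow subgroup. -/

set_option autoImplicit false

namespace Cfsg.Agent.H36.L3F

open Cfsg Cfsg.Agent.H63 Cfsg.Agent.H63.SL Cfsg.Agent.H35.L3 Subgroup
open Cfsg.Agent.H8 (IsSylowIn)
open scoped commutatorElement

universe u v

section general

variable {G : Type u} [Group G]

theorem tsup_sq {t : G} {V : Subgroup G} (tt : t * t = 1) (hc : t ∈ C[V]) (h : ∀ v ∈ V, v * v = 1) :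
    ∀ v ∈ zpowers t ⊔ V, v * v = 1 := fun v hv => by
  rcases (mem_tsup tt (centralizer_le_normalizer _ hc)).1 hv with hv | hv
  · exact h v hv
  · have h1 := h _ hv
    have h2 : v * t = t * v := by
      have := hc _ hv
      rwa [mul_assoc, mul_right_inj] at this
    rwa [mul_assoc, ← mul_assoc v, h2, ← mul_assoc, ← mul_assoc, tt, one_mul] at h1

theorem two_of_sq {V : Subgroup G} (h : ∀ v ∈ V, v * v = 1) : IsPGroup 2 V := fun v =>
  ⟨1, Subtype.ext (by simpa [pow_two] using h v v.2)⟩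

theorem cj_sq {V : Subgroup G} (h : ∀ v ∈ V, v * v = 1) (g : G) : ∀ v ∈ cj g V, v * v = 1 := by
  rintro _ ⟨v, hv, rfl⟩
  rw [← map_mul, h v hv, map_one]

theorem act_cent {B : Type v} [Field B] {z : Fin 3 → Fin 3 → B → G} (s : St3 z) (p : Pin3 z)
    {g : G} {ε : Bool} (h : Act z g ε 1) (gg : g * g = 1) : g ∈ C[X3 z 0 2] := by
  obtain ⟨c1, c2, -, -, h3⟩ := h
  replace h3 : ∀ a, g * z 0 2 a * g⁻¹ = z 0 2 (c1 * c2 * a) := h3
  have k : (c1 * c2 : B) * (c1 * c2 * 1) = 1 := by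
    have : g * (g * z 0 2 1 * g⁻¹) * g⁻¹ = z 0 2 1 := by
      rw [show g * (g * z 0 2 1 * g⁻¹) * g⁻¹ = g * g * z 0 2 1 * (g * g)⁻¹ by group, gg]; group
    rw [h3, h3, nf_c s, nf_c s] at this
    exact (nf_inj p this).2.2
  have k1 : (c1 * c2 : B) = 1 := by
    have : ((c1 * c2 : B) - 1) ^ 2 = 0 := by linear_combination k + (1 - c1 * c2 : B) * s.two
    exact sub_eq_zero.1 (pow_eq_zero_iff two_ne_zero |>.1 this)
  intro c hc
  obtain ⟨a, rfl⟩ := (p.memX 0 2 (by decide) _).1 hc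
  have := h3 a
  rw [k1, one_mul, mul_inv_eq_iff_eq_mul] at this
  exact this.symm

end general

section main

variable {F : Type v} [Field F] [Finite F] {G : Type u} [Group G] [Finite G] {L : Subgroup G}
  {x : Fin 3 → Fin 3 → F → G} {t : G}

omit [Finite G] in
theorem Tc_sq (T : Tc L t) : t * t = 1 := by rw [← pow_two, ← T.t2, pow_orderOf_eq_one]

omit [Finite F] [Finite G] in
theorem toJ (m : M3 L x) (a : KA L x) (T : Tc L t) (r : R2 L t) {g : G}
    (hg : g ∈ N[L] ⊓ N[U3 x] ⊓ C1[t]) (h2 : Is2 g) (ty : Typ3 x L g false 1) :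
    g ∈ U3 x ∨ t * g ∈ U3 x := by
  obtain ⟨u, hu, k, hk, rfl⟩ := a.inn g (a.typ_one g ty h2) hg.1.2 h2
  have hL := m.syl.le hu
  have c1 : Commute u k := hk u hL
  have c2 : Commute u t := T.tc u hL
  have c3 : Commute (u * k) t := (mem_centralizer_singleton_iff.1 hg.2)
  have c4 : Commute k t := by simpa using c2.inv_left.mul_left c3
  obtain ⟨n, hn⟩ := h2
  obtain ⟨j, hj⟩ := is2_of_mem m.syl.isPGroup hu
  have : k ^ 2 ^ (n + j) = 1 := by
    have e : (u * k) ^ 2 ^ (n + j) = 1 := by rw [pow_add, pow_mul, hn, one_pow]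
    rwa [c1.mul_pow, add_comm, pow_add, pow_mul, hj, one_pow, one_mul, ← pow_add, add_comm] at e
  rcases r k hk c4 ⟨_, this⟩ with rfl | rfl
  · exact Or.inl (by rwa [mul_one])
  · exact Or.inr (by rwa [c2.eq, ← mul_assoc, Tc_sq T, one_mul])

omit [Finite F] [Finite G] in
theorem typ_div (a : KA L x) {g g' : G} {ε : Bool} {φ : F ≃+* F} (h : Typ3 x L g ε φ)
    (h' : Typ3 x L g' ε φ) : Typ3 x L (g⁻¹ * g') false 1 := by
  obtain ⟨ε', φ', k⟩ := a.typ_ex g⁻¹ (inv_mem (a.typ_N g ε φ h))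
  have k1 := a.typ_mul _ _ _ _ _ _ k h
  rw [inv_mul_cancel] at k1
  obtain ⟨e1, e2⟩ := a.typ_uniq _ _ _ _ _ k1 (a.typ_inn 1 (one_mem _))
  exact e1 ▸ e2 ▸ a.typ_mul _ _ _ _ _ _ k h'

/-- No unitary group of order `q³` lies in the centralizer of `t`. -/
theorem uni (m : M3 L x) (a : KA L x) (p : Pin3 x) (T : Tc L t) (r : R2 L t)
    (hD : ∀ u ∈ U3 x, u * u = 1 → t * u ∈ Dt t) (P Z : Subgroup G)
    (hP : P ≤ N[L] ⊓ N[U3 x] ⊓ C1[t]) (P2 : IsPGroup 2 P) (cP : Nat.card F ^ 3 ≤ Nat.card P)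
    (cZ : Nat.card Z = Nat.card F) (ZP : Z ≤ ⁅P, P⁆) (sq : ∀ g ∈ P, g * g = 1 → g ∈ Z)
    (cen : ∀ z ∈ Z, ∀ g ∈ P, z * g = g * z) (ZD : ∀ z ∈ Z, z * z = 1 ∧ z ∉ Dt t) : False := by
  have s := m.st
  have tt := Tc_sq T
  have t2 : ∀ g, t * (t * g) = g := fun g => by rw [← mul_assoc, tt, one_mul]
  have tU : t ∈ C[U3 x] := fun u hu => T.tc u (m.syl.le hu)
  have ZP' : Z ≤ P := ZP.trans (commutator_le.2 fun a ha b hb =>
    mul_mem (mul_mem (mul_mem ha hb) (inv_mem ha)) (inv_mem hb))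
  have PN : P ≤ N[L] := fun g hg => (hP hg).1.1
  have J : ∀ g ∈ P, Typ3 x L g false 1 → g ∈ U3 x ∨ t * g ∈ U3 x := fun g hg =>
    toJ m a T r (hP hg) (is2_of_mem P2 hg)
  have ZU : Z ≤ U3 x := fun z hz => by
    refine (J z (ZP' hz) (a.ab z (commutator_mono PN PN (ZP hz)))).resolve_right fun h => ?_
    refine (ZD z hz).2 (t2 z ▸ hD _ h ?_)
    have : z * t = t * z := mem_centralizer_singleton_iff.1 (hP (ZP' hz)).2
    rw [mul_assoc, ← mul_assoc z, this, mul_assoc, t2, (ZD z hz).1]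
  have h4 := m.four
  have fin : ¬ Nat.card P ≤ 2 * Nat.card F * Nat.card F := fun h => by
    have : Nat.card F * (Nat.card F * Nat.card F) ≤ 2 * (Nat.card F * Nat.card F) := by
      rw [← mul_assoc 2]; exact le_trans (le_of_eq (by ring)) (cP.trans h)
    have := Nat.le_of_mul_le_mul_right this (by positivity)
    omega
  by_cases hZ : Z ≤ X3 x 0 2
  · have e : Z = X3 x 0 2 := eq_of_le_of_card_ge hZ (by rw [cZ, p.cardX 0 2 (by decide)])
    have k1 := card_le_of_fib P (P ⊓ (zpowers t ⊔ U3 x)) (fun g ε => Typ3 x L g ε 1)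
      (fun g hg => by
        obtain ⟨u, hu, ε, φ, d, hd⟩ := m.nU g (PN hg) (hP hg).1.2
        have hφ : φ = 1 := by
          have k : ∀ c, (d 0 * ↑(d 2)⁻¹ : F) * φ c = c := fun c => by
            have h1 := hd 0 2 (by decide) c
            have h0 : x 0 2 c ∈ X3 x 0 2 := (p.memX 0 2 (by decide) _).2 ⟨c, rfl⟩
            rw [show fl x ε 0 2 = x 0 2 by cases ε <;> rfl, mul_assoc u, ← cen _ (e ▸ h0) g hg,
              ← mul_assoc, ← Z_comm s p h0 hu, mul_assoc _ u, mul_inv_cancel_right, nf_c s,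
              nf_c s] at h1
            exact (nf_inj p h1).2.2.symm
          have k1 := k 1
          rw [map_one, mul_one] at k1
          exact RingEquiv.ext fun c => show φ c = c by simpa only [k1, one_mul] using k c
        exact ⟨ε, u, m.syl.le hu, d, hφ ▸ hd⟩)
      fun g hg g' hg' ε h h' => ⟨P.mul_mem (P.inv_mem hg) hg',
        (mem_tsup tt (centralizer_le_normalizer _ tU)).2
          (J _ (mul_mem (inv_mem hg) hg') (typ_div a h h'))⟩
    have tR : t ∈ C[Row x 0] := centralizer_le R_le tU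
    have k2 := card_le_of_fib (P ⊓ (zpowers t ⊔ U3 x)) Z
      (fun g b => (nf x 0 b 0)⁻¹ * g ∈ zpowers t ⊔ Row x 0)
      (fun g hg => by
        have k : ∀ a b c, (nf x 0 b 0)⁻¹ * nf x a b c ∈ Row x 0 := fun a b c =>
          (mem_R s p).2 ⟨a, c + a * b, by
            rw [inv_mul_eq_iff_eq_mul, nf_mul p, zero_add, zero_add, add_zero, add_assoc,
              add_self s, add_zero]⟩
        rcases (mem_tsup tt (centralizer_le_normalizer _ tU)).1 hg.2 with h | h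
        · obtain ⟨a, b, c, rfl⟩ := (mem_U p).1 h
          exact ⟨b, mem_sup_right (k a b c)⟩
        · obtain ⟨a, b, c, e⟩ := (mem_U p).1 h
          refine ⟨b, (mem_tsup tt (centralizer_le_normalizer _ tR)).2 (Or.inr ?_)⟩
          rw [← mul_assoc, ← tU _ (inv_mem (nf_mem p 0 b 0)), mul_assoc, e]
          exact k a b c)
      fun g hg g' hg' b h h' => sq _ (mul_mem (inv_mem hg.1) hg'.1)
        (tsup_sq tt tR (R_sq s p) _ (by simpa [mul_assoc] using mul_mem (inv_mem h) h'))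
    rw [cZ] at k2
    rw [Nat.card_eq_fintype_card (α := Bool), Fintype.card_bool] at k1
    exact fin (k1.trans (by rw [mul_assoc]; exact Nat.mul_le_mul_left _ k2))
  · obtain ⟨z, hz, hz'⟩ := SetLike.not_le_iff_exists.1 hZ
    obtain ⟨a0, b0, c0, rfl⟩ := (mem_U p).1 (ZU hz)
    have k0 : ∀ u ∈ U3 x, nf x a0 b0 c0 * u = u * nf x a0 b0 c0 → u * u = 1 := fun u hu h => by
      obtain ⟨a, b, c, rfl⟩ := (mem_U p).1 hu
      rw [nf_comm p] at h
      have : a * b = 0 := by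
        rcases sq_one s p (ZD _ hz).1 with rfl | rfl
        · have : b0 ≠ 0 := fun e => hz' ((mem_Z s p).2 ⟨c0, by rw [e]⟩)
          rw [zero_mul, mul_eq_zero] at h
          rw [h.resolve_right this, zero_mul]
        · have : a0 ≠ 0 := fun e => hz' ((mem_Z s p).2 ⟨c0, by rw [e]⟩)
          rw [mul_zero, eq_comm, mul_eq_zero] at h
          rw [h.resolve_left this, mul_zero]
      rw [nf_sq s p, this, nf_0 s]
    have : Finite (F ≃+* F) := Finite.of_injective _ (DFunLike.coe_injective (F := F ≃+* F))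
    have k1 := card_le_of_fib P Z (fun g (y : Bool × (F ≃+* F)) => Typ3 x L g y.1 y.2)
      (fun g hg => by
        obtain ⟨ε, φ, h⟩ := a.typ_ex g (PN hg)
        exact ⟨(ε, φ), h⟩)
      fun g hg g' hg' y h h' => by
        have hm := mul_mem (inv_mem hg) hg'
        have hc := cen _ hz _ hm
        refine sq _ hm ?_
        have ty := typ_div a h h'
        generalize g⁻¹ * g' = w at hm hc ty
        rcases J w hm ty with k | k
        · exact k0 w k hc
        · have h1 := k0 _ k (by rw [← mul_assoc, tU _ (nf_mem p _ _ _), mul_assoc, hc, mul_assoc])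
          have h2 : w * t = t * w := mem_centralizer_singleton_iff.1 (hP hm).2
          rwa [mul_assoc, ← mul_assoc w, h2, mul_assoc, t2] at h1
    rw [cZ, Nat.card_prod, Nat.card_eq_fintype_card (α := Bool), Fintype.card_bool] at k1
    exact fin (k1.trans (Nat.mul_le_mul_right _ (Nat.mul_le_mul_left _ card_aut)))

theorem uni' (m : M3 L x) (a : KA L x) (b : KB L x) (p : Pin3 x) (T : Tc L t) (r : R2 L t)
    (hD : ∀ u ∈ U3 x, u * u = 1 → t * u ∈ Dt t) {d : G} (hd : d ∈ Dt t) (P Z : Subgroup G)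
    (hP : P ≤ C1[d]) (P2 : IsPGroup 2 P) (cP : Nat.card F ^ 3 ≤ Nat.card P)
    (cZ : Nat.card Z = Nat.card F) (ZP : Z ≤ ⁅P, P⁆) (sq : ∀ g ∈ P, g * g = 1 → g ∈ Z)
    (cen : ∀ z ∈ Z, ∀ g ∈ P, z * g = g * z) (ZD : ∀ z ∈ Z, z * z = 1 ∧ z ∉ Dt t) : False := by
  obtain ⟨g, rfl⟩ := hd
  obtain ⟨l, -, h⟩ := b.side t T g P hP P2
  generalize l * g⁻¹ = k at h
  refine uni m a p T r hD _ (cj k Z) h (P2.map _) (by rwa [card_cj]) (by rwa [card_cj])
    (by rw [cj, cj, ← map_commutator]; exact map_mono ZP) ?_ ?_ ?_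
  · rintro _ ⟨w, hw, rfl⟩ e
    rw [← map_mul] at e
    exact ⟨w, sq w hw ((MulAut.conj k).injective (e.trans (map_one _).symm)), rfl⟩
  · rintro _ ⟨z, hz, rfl⟩ _ ⟨w, hw, rfl⟩
    rw [← map_mul, ← map_mul, cen z hz w hw]
  · rintro _ ⟨z, hz, rfl⟩
    refine ⟨by rw [← map_mul, (ZD z hz).1, map_one], fun e => (ZD z hz).2 ?_⟩
    have := Dt_conj e k⁻¹
    simpa [mul_assoc] using this

variable {A : Type u} [Field A] {i : F →+* A} {σ : A ≃+* A} {y : Fin 3 → Fin 3 → A → G}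

omit [Finite F] [Finite G] in
theorem nf_i (D : Dbl3 x t i σ y) (a b c : F) : nf x a b c = nf y (i a) (i b) (i c) := by
  rw [nf, nf, D.res 0 1 (by decide), D.res 1 2 (by decide), D.res 0 2 (by decide)]

omit [Finite F] [Finite G] in
theorem t_nf (D : Dbl3 x t i σ y) (a b c : A) :
    t * nf y a b c * t⁻¹ = nf y (σ a) (σ b) (σ c) := by
  rw [nf, nf, ← conj_mul, ← conj_mul, D.conj 0 1 (by decide), D.conj 1 2 (by decide),
    D.conj 0 2 (by decide)]

omit [Finite F] [Finite G] in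
theorem σ_i (D : Dbl3 x t i σ y) (a : F) : σ (i a) = i a := (D.fix _).2 ⟨a, rfl⟩

omit [Finite F] [Finite G] in
theorem tD (m : M3 L x) (p : Pin3 x) (T : Tc L t) (D : Dbl3 x t i σ y) (q : Pin3 y) :
    ∀ u ∈ U3 x, u * u = 1 → t * u ∈ Dt t := fun u hu h => by
  obtain ⟨a, b, c, rfl⟩ := (mem_U p).1 hu
  obtain ⟨ω, hω⟩ := D.tr
  have h0 : i a * i b = 0 := by rw [← map_mul, mul_eq_zero.2 (sq_one m.st p h), map_zero]
  have e : t * nf y (ω * i a) (ω * i b) (ω * i c) * t⁻¹ =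
      nf x a b c * nf y (ω * i a) (ω * i b) (ω * i c) := by
    rw [t_nf D, nf_i D, nf_mul q, map_mul, map_mul, map_mul, σ_i D, σ_i D, σ_i D, hω, mul_assoc,
      h0]
    congr 1 <;> ring
  have ti : t⁻¹ = t := inv_eq_of_mul_eq_one_right (Tc_sq T)
  refine ⟨nf y (ω * i a) (ω * i b) (ω * i c), ?_⟩
  rw [eq_mul_inv_iff_mul_eq, mul_assoc, ← e, ti, ← mul_assoc, ← mul_assoc, Tc_sq T, one_mul]

omit [Finite F] [Finite G] in
theorem notD (m : M3 L x) (b : KB L x) (T : Tc L t) (D : Dbl3 x t i σ y) (q : Pin3 y) :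
    ∀ w ∈ U3 y, w ∉ Dt t := fun w hw hd => by
  have k : ∀ V : Subgroup G, (∀ v ∈ V, v * v = 1) → Nat.card V = Nat.card A ^ 2 → w ∉ V :=
    fun V hV hc h => by
      have := b.rk t T w hd V (fun v hv => mem_centralizer_singleton_iff.2 (comm_of_sq hV hv h)) hV
      rw [hc, D.card, pow_two (_ ^ 2)] at this
      have h4 := m.four
      have := Nat.le_of_mul_le_mul_right this (by positivity)
      nlinarith
  obtain ⟨a, b, c, rfl⟩ := (mem_U q).1 hw
  rcases sq_one D.st q (Dt_sq (Tc_sq T) hd) with rfl | rfl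
  · exact k _ (C_sq D.st q) (q.cardC 2) ((mem_C D.st q).2 ⟨_, _, rfl⟩)
  · exact k _ (R_sq D.st q) (q.cardR 0) ((mem_R D.st q).2 ⟨_, _, rfl⟩)

/-- A conjugate of `t` does not induce a graph automorphism. -/
theorem graph (m : M3 L x) (b : KB L x) (p : Pin3 x) (T : Tc L t) (D : Dbl3 x t i σ y) (q : Pin3 y)
    {S : Subgroup G} (sy : Syl3 (U3 x) (U3 y) S t) (j3 : J3 y S)
    (h0 : ∀ s ∈ S, Act y s false 1 → s ∈ U3 y) (act : ∀ s ∈ S, ∃ ε φ, Act y s ε φ) {d : G}
    (hd : d ∈ Dt t) (hc : d ∈ C[X3 y 0 2]) : False := by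
  have tt := Tc_sq T
  have dd := Dt_sq tt hd
  have ZW : X3 y 0 2 ≤ U3 y := (Z_le_R D.st q).trans R_le
  have nD := notD m b T D q
  have Psq := tsup_sq dd hc fun v hv => R_sq D.st q v (Z_le_R D.st q hv)
  have cZ : Nat.card (X3 y 0 2) = Nat.card F ^ 2 := (q.cardX 0 2 (by decide)).trans D.card
  obtain ⟨g, e⟩ := id hd
  obtain ⟨l, -, h⟩ := b.side t T g (zpowers d ⊔ X3 y 0 2) (fun v hv => e ▸
    mem_centralizer_singleton_iff.2 (comm_of_sq Psq hv (mem_sup_left (mem_zpowers d))))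
    (two_of_sq Psq)
  generalize l * g⁻¹ = k at h
  have key : ∀ V W : Subgroup G, cj k (zpowers d ⊔ X3 y 0 2) = zpowers t ⊔ V → V ≤ U3 x →
      (∀ v ∈ V, v * v = 1) → Nat.card V = Nat.card F ^ 2 → V ≤ W → W ≤ U3 y →
      (∀ v ∈ W, v * v = 1) → Nat.card W = Nat.card A ^ 2 → t ∈ N[W] → False := by
    intro V W e VU Vsq cV VW WU Wsq cW tW
    have tV : t ∈ C[V] := fun u hu => T.tc u (m.syl.le (VU hu))
    have e1 : cj k (X3 y 0 2) = V := by
      refine eq_of_le_of_card_ge (fun z hz => ?_) (by rw [card_cj, cV, cZ])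
      refine ((mem_tsup tt (centralizer_le_normalizer _ tV)).1
        (e ▸ map_mono le_sup_right hz)).resolve_right fun h => ?_
      have := tD m p T D q _ (VU h) (Vsq _ h)
      rw [← mul_assoc, tt, one_mul] at this
      exact nD _ (ZW (mem_cj.1 hz)) (by simpa using Dt_conj this k⁻¹)
    have ES : zpowers t ⊔ W ≤ S := sup_le (zpowers_le.2 sy.tS) (WU.trans sy.WS)
    have EC : cj k⁻¹ (zpowers t ⊔ W) ≤ C[X3 y 0 2] := fun w hw z hz => by
      have h1 : k * z * k⁻¹ ∈ V := e1 ▸ cj_mem.2 hz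
      have h2 : zpowers t ⊔ W ≤ C[V] := sup_le (zpowers_le.2 tV) fun w hw v hv =>
        comm_of_sq Wsq (VW hv) hw
      have := h2 (mem_cj.1 hw) _ h1
      rw [inv_inv, conj_mul, conj_mul] at this
      simpa using this
    have SN : S ≤ N[X3 y 0 2] := fun s hs => by
      obtain ⟨ε, φ, h⟩ := act s hs
      exact act_NZ q h
    have sy2 := (show IsSylowIn 2 (S ⊓ N[X3 y 0 2]) N[X3 y 0 2] by
      rw [inf_of_le_left SN]; exact sy.syl.mono SN le_top).inf_centralizer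
    obtain ⟨n, -, hn⟩ := sy2.exists_conj_le ((sy.syl.isPGroup.to_le ES).map _) EC
    replace hn : cj (n * k⁻¹) (zpowers t ⊔ W) ≤ S ⊓ C[X3 y 0 2] :=
      (H8.conj_smul_conj_smul _ n k⁻¹).symm.le.trans hn
    generalize n * k⁻¹ = c at hn
    have h1 := hn (cj_mem.2 (mem_sup_left (mem_zpowers t)))
    obtain ⟨ε, φ, ha⟩ := act _ h1.1
    obtain rfl := act_Z D.st q ha h1.2
    cases ε
    · exact nD _ (h0 _ h1.1 ha) ⟨c, rfl⟩
    · have h2 : c * t * c⁻¹ ∈ N[cj c W] := (H8.normalizer_conj_smul W c).ge (cj_mem.2 tW)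
      rcases j3 (cj c W) ((map_mono le_sup_right).trans (hn.trans inf_le_left)) (cj_sq Wsq c)
        (by rw [card_cj, cW]) with e | e
      · exact act_V D.st q ha (Or.inl (e ▸ h2))
      · exact act_V D.st q ha (Or.inr (e ▸ h2))
  rcases b.at2 t T _ h (cj_sq Psq k) (by
    rw [card_cj, ← cZ]; exact card_tsup fun h => nD d (ZW h) hd) with e | e
  · refine key _ (Row y 0) e R_le (R_sq m.st p) (p.cardR 0) (fun v hv => ?_) R_le (R_sq D.st q)
      (q.cardR 0) (mem_normalizer_fintype fun v hv => ?_)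
    · obtain ⟨a, c, rfl⟩ := (mem_R m.st p).1 hv
      exact (mem_R D.st q).2 ⟨_, _, by rw [nf_i D, map_zero]⟩
    · obtain ⟨a, c, rfl⟩ := (mem_R D.st q).1 hv
      exact (mem_R D.st q).2 ⟨_, _, by rw [t_nf D, map_zero]⟩
  · refine key _ (Col y 2) e C_le (C_sq m.st p) (p.cardC 2) (fun v hv => ?_) C_le (C_sq D.st q)
      (q.cardC 2) (mem_normalizer_fintype fun v hv => ?_)
    · obtain ⟨a, c, rfl⟩ := (mem_C m.st p).1 hv
      exact (mem_C D.st q).2 ⟨_, _, by rw [nf_i D, map_zero]⟩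
    · obtain ⟨a, c, rfl⟩ := (mem_C D.st q).1 hv
      exact (mem_C D.st q).2 ⟨_, _, by rw [t_nf D, map_zero]⟩

/-- A conjugate of `t` does not induce a graph-field automorphism. -/
theorem graphField (m : M3 L x) (a : KA L x) (b : KB L x) (p : Pin3 x) (T : Tc L t) (r : R2 L t)
    (D : Dbl3 x t i σ y) (q : Pin3 y) {d : G} (hd : d ∈ Dt t) (h : Act y d true σ) : False := by
  have s := D.st
  have dd := Dt_sq (Tc_sq T) hd
  have d2 : ∀ w, d * (d * w * d⁻¹) * d⁻¹ = w := fun w => by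
    rw [show d * (d * w * d⁻¹) * d⁻¹ = d * d * w * (d * d)⁻¹ by group, dd]; group
  obtain ⟨c1, c2, e1, e2, h⟩ := act_true s q h
  obtain ⟨ω, hω⟩ := D.tr
  have hc : (c2 : A) * σ c1 = 1 := by
    have := d2 (nf y 1 0 0)
    rw [h, h] at this
    simpa using (nf_inj q this).1
  have he : e1 0 + e2 0 = 0 := by
    have := h 0 0 0
    rw [nf_0 s, mul_one, mul_inv_cancel, ← nf_0 s] at this
    simpa using (nf_inj q this).2.2.symm
  have hZ : ∀ c, d * nf y 0 0 c * d⁻¹ = nf y 0 0 (c1 * c2 * σ c) := fun c => by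
    rw [h, he]; simp
  have mc : ∀ w, w ∈ C1[d] ↔ d * w * d⁻¹ = w := fun w => by
    rw [mem_centralizer_singleton_iff, mul_inv_eq_iff_eq_mul, eq_comm]
  have fz : ∀ f : F, nf y 0 0 (c1 * i f) ∈ X3 y 0 2 ⊓ C1[d] := fun f =>
    ⟨(mem_Z s q).2 ⟨_, rfl⟩, (mc _).2 (by
      rw [hZ, map_mul, σ_i D]; congr 1; linear_combination (c1 * i f : A) * hc)⟩
  have fz' : ∀ z ∈ X3 y 0 2 ⊓ C1[d], ∃ f : F, z = nf y 0 0 (c1 * i f) := by
    rintro z ⟨h1, h2⟩
    obtain ⟨c, rfl⟩ := (mem_Z s q).1 h1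
    have h3 := (nf_inj q ((hZ c).symm.trans ((mc _).1 h2))).2.2
    obtain ⟨f, hf⟩ := (D.fix (c2 * σ c)).1 (by
      have := congrArg σ h3
      rw [map_mul, map_mul, D.sq] at this
      rw [map_mul, D.sq]
      linear_combination (c2 : A) * this - σ c2 * c * hc)
    exact ⟨f, by rw [← hf, ← mul_assoc, h3]⟩
  have ex : ∀ α, ∃ c, nf y α (c1 * σ α) c ∈ C1[d] := fun α => by
    obtain ⟨e, he⟩ : ∃ e, d * nf y α 0 0 * d⁻¹ = nf y 0 (c1 * σ α) e :=
      ⟨_, by rw [h, map_zero, mul_zero]⟩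
    refine ⟨e + c1 * σ α * α * ω, (mc _).2 ?_⟩
    have : nf y α (c1 * σ α) (e + c1 * σ α * α * ω) =
        nf y α 0 0 * (d * nf y α 0 0 * d⁻¹) * nf y 0 0 (c1 * σ α * α * ω) := by
      rw [he, nf_mul q, nf_mul q]; simp
    conv_lhs => rw [this, ← conj_mul, ← conj_mul, d2, he, hZ, nf_mul q, nf_mul q]
    simp only [map_mul, D.sq, hω, zero_add, add_zero, zero_mul]
    congr 1
    linear_combination (c1 * σ α * α * (ω + 1)) * hc + (c1 * σ α * α) * s.two
  choose cc hcc using ex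
  have shape : ∀ w ∈ U3 y ⊓ C1[d], ∃ α c, w = nf y α (c1 * σ α) c := by
    rintro w ⟨h1, h2⟩
    obtain ⟨α, β, c, rfl⟩ := (mem_U q).1 h1
    exact ⟨α, c, by rw [(nf_inj q ((h α β c).symm.trans ((mc _).1 h2))).2.1]⟩
  have fi : ∀ {c : A} {f f' : F}, c + c1 * i f = c + c1 * i f' → f = f' := fun e =>
    i.injective (mul_left_cancel₀ c1.ne_zero (add_left_cancel e))
  refine uni' m a b p T r (tD m p T D q) hd (U3 y ⊓ C1[d]) (X3 y 0 2 ⊓ C1[d]) inf_le_right
    ((q.two 0 2 (by decide)).to_inf_left) ?_ ?_ ?_ ?_ ?_ ?_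
  · rw [pow_succ, ← D.card, ← Nat.card_prod]
    refine Nat.card_le_card_of_injective (fun z : A × F => (⟨nf y z.1 (c1 * σ z.1) (cc z.1) *
      nf y 0 0 (c1 * i z.2), mul_mem (nf_mem q _ _ _) (nf_mem q _ _ _),
        mul_mem (hcc _) (fz _).2⟩ : ↥(U3 y ⊓ C1[d]))) ?_
    rintro ⟨α, f⟩ ⟨α', f'⟩ e
    have e' := congrArg Subtype.val e
    simp only [nf_mul q, add_zero, zero_mul] at e'
    obtain ⟨rfl, -, e3⟩ := nf_inj q e'
    rw [fi e3]
  · refine (Nat.card_eq_of_bijective (fun f : F => (⟨_, fz f⟩ : ↥(X3 y 0 2 ⊓ C1[d])))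
      ⟨fun f f' e => fi (c := 0) ?_, fun z => ?_⟩).symm
    · rw [(nf_inj q (congrArg Subtype.val e)).2.2]
    · obtain ⟨f, hf⟩ := fz' z z.2
      exact ⟨f, Subtype.ext hf.symm⟩
  · intro z hz
    obtain ⟨f, rfl⟩ := fz' z hz
    have := commutator_mem_commutator (H₁ := U3 y ⊓ C1[d]) (H₂ := U3 y ⊓ C1[d])
      ⟨nf_mem q _ _ _, hcc 1⟩ ⟨nf_mem q _ _ _, hcc (ω * i f)⟩
    rw [nf_commutator s q, map_mul, map_one, σ_i D, hω] at this
    convert this using 2
    linear_combination (-(c1 * ω * i f : A)) * s.two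
  · intro w hw h
    obtain ⟨α, c, rfl⟩ := shape w hw
    have : α = 0 := (sq_one s q h).elim id fun e => by simpa using e
    subst this
    exact ⟨(mem_Z s q).2 ⟨c, by rw [map_zero, mul_zero]⟩, hw.2⟩
  · exact fun z hz w hw => Z_comm s q hz.1 hw.1
  · exact fun z hz => ⟨R_sq s q z (Z_le_R s q hz.1), notD m b T D q z (R_le (Z_le_R s q hz.1))⟩

end main

theorem f2 (hP : PinStmt3.{u, v}) (hP' : PinStmt3.{u, u}) (hA : ActStmt.{u, u}) (hKA : KAStmt.{u, v})
    (hKB : KBStmt.{u, v}) : F2Stmt.{u, v} := by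
  intro F _ _ G _ _ L x m t A _ i σ y T r D S sy j3 h0 d hd hS
  have : Finite A := Nat.finite_of_card_ne_zero (by
    rw [D.card]; exact pow_ne_zero _ Nat.card_pos.ne')
  have p := hP x m.st
  have q := hP' y D.st
  have act : ∀ s ∈ S, ∃ ε φ, Act y s ε φ := fun s hs => hA y D.st s (sy.SN hs)
  have dd := Dt_sq (Tc_sq T) hd
  obtain ⟨ε, φ, h⟩ := act d hS
  have hσ : σ ≠ 1 := fun e => by
    obtain ⟨ω, hω⟩ := D.tr
    rw [e] at hω
    exact one_ne_zero (left_eq_add.1 hω)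
  rcases aut_eq (act_sq D.st q h dd) D.sq hσ with rfl | rfl
  · cases ε
    · exact absurd hd (notD m (hKB L x m) T D q d (h0 d hS h))
    · exact (graph m (hKB L x m) p T D q sy j3 h0 act hd (act_cent D.st q h dd)).elim
  · cases ε
    · refine h0 _ (mul_mem sy.tS hS) ?_
      obtain ⟨c1, c2, h1, h2, h3⟩ := h
      have k : ∀ w, t * d * w * (t * d)⁻¹ = t * (d * w * d⁻¹) * t⁻¹ := fun w => by group
      refine ⟨Units.map (φ : A →* A) c1, Units.map (φ : A →* A) c2, fun a => ?_, fun a => ?_,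
        fun a => ?_⟩
      · obtain ⟨e, he⟩ := h1 a
        refine ⟨φ e, ?_⟩
        rw [k, he, ← conj_mul, D.conj 0 2 (by decide)]
        exact congrArg (· * _) ((D.conj 0 1 (by decide) _).trans (by rw [map_mul, D.sq]; rfl))
      · obtain ⟨e, he⟩ := h2 a
        refine ⟨φ e, ?_⟩
        rw [k, he, ← conj_mul, D.conj 0 2 (by decide)]
        exact congrArg (· * _) ((D.conj 1 2 (by decide) _).trans (by rw [map_mul, D.sq]; rfl))
      · rw [k, h3, D.conj 0 2 (by decide), map_mul, map_mul, D.sq]; rfl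
    · exact (graphField m (hKA L x m) (hKB L x m) p T r D q hd h).elim

end Cfsg.Agent.H36.L3F
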