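import Mathlib
import Cfsg.Agent.H36.AltQ

set_option autoImplicit false

namespace Cfsg.Agent.H36.AltQ

open Subgroup Equiv
open scoped Pointwise commutatorElement

variable {G : Type*} [Group G]

theorem cent_of_inf_bot {A B : Subgroup G} (h1 : A ≤ normalizer (B : Set G))
    (h2 : B ≤ normalizer (A : Set G)) (h : A ⊓ B = ⊥) : A ≤ centralizer (B : Set G) := by
  intro a ha
  rw [mem_centralizer_iff]
  intro b hb
  have : b * a * b⁻¹ * a⁻¹ ∈ A ⊓ B := by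
    refine ⟨A.mul_mem ((mem_normalizer_iff.mp (h2 hb) a).mp ha) (A.inv_mem ha), ?_⟩
    have := B.mul_mem hb ((mem_normalizer_iff.mp (h1 ha) b⁻¹).mp (B.inv_mem hb))
    simpa [mul_assoc] using this
  rw [h, mem_bot] at this
  calc b * a = b * a * b⁻¹ * a⁻¹ * (a * b) := by group
    _ = a * b := by rw [this, one_mul]

theorem norm_inf {M A B : Subgroup G} (h1 : M ≤ normalizer (A : Set G)) (h2 : M ≤ normalizer (B : Set G)) :
    M ≤ normalizer ((A ⊓ B : Subgroup G) : Set G) := (le_inf h1 h2).trans inf_normalizer_le_normalizer_inf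

theorem norm_cent {M A : Subgroup G} (h1 : M ≤ normalizer (A : Set G)) :
    M ≤ normalizer ((centralizer (A : Set G) : Subgroup G) : Set G) :=
  h1.trans (H8.normalizer_le_normalizer_centralizer A)

structure Am (d : ℕ) (M₁ M₂ B K₁ K₂ : Subgroup G) (σ : G) : Prop where
  hd : 6 ≤ d
  hσ : M₂ = MulAut.conj σ • M₁
  gen : ∀ N : Subgroup G, N ≤ B → M₁ ≤ normalizer (N : Set G) → M₂ ≤ normalizer (N : Set G) → N = ⊥
  l1 : ∃ f x, Loc d M₁ B K₁ f x
  l2 : ∃ f x, Loc d M₂ B K₂ f x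
  ne : K₁ ≠ ⊥

namespace Am

variable {d : ℕ} {M₁ M₂ B K₁ K₂ : Subgroup G} {σ : G} (h : Am d M₁ M₂ B K₁ K₂ σ)
include h

theorem h5 : 5 ≤ d - 1 := by have := h.hd; omega
theorem h5' : 5 ≤ d := by have := h.hd; omega
theorem a1 : AQ d M₁ K₁ := by obtain ⟨f, x, hl⟩ := h.l1; exact hl.aq
theorem a2 : AQ d M₂ K₂ := by obtain ⟨f, x, hl⟩ := h.l2; exact hl.aq
theorem b1 : AQ (d - 1) B K₁ := by obtain ⟨f, x, hl⟩ := h.l1; exact hl.aqB
theorem b2 : AQ (d - 1) B K₂ := by obtain ⟨f, x, hl⟩ := h.l2; exact hl.aqB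
theorem B1 : B ≤ M₁ := by obtain ⟨f, x, hl⟩ := h.l1; exact hl.leB
theorem B2 : B ≤ M₂ := by obtain ⟨f, x, hl⟩ := h.l2; exact hl.leB

theorem neq : K₁ ≠ K₂ := fun he => h.ne (h.gen K₁ h.b1.1 h.a1.norm (he ▸ h.a2.norm))

theorem nle12 [Finite G] : ¬ K₁ ≤ K₂ := fun hle =>
  h.neq (le_antisymm hle (h.b1.ge_of_le h.h5 h.h5 h.b2 hle))

theorem nle21 [Finite G] : ¬ K₂ ≤ K₁ := fun hle =>
  h.neq (le_antisymm (h.b2.ge_of_le h.h5 h.h5 h.b1 hle) hle)

theorem symm [Finite G] : Am d M₂ M₁ B K₂ K₁ σ⁻¹ :=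
  ⟨h.hd, by rw [h.hσ, H8.conj_inv_smul_conj_smul], fun N h1 h2 h3 => h.gen N h1 h3 h2, h.l2, h.l1,
    fun h0 => h.nle21 (h0 ▸ bot_le)⟩

theorem aq1 [Finite G] : AQ (d - 1) K₁ (K₁ ⊓ K₂) := h.b2.restrict h.h5 h.b1.1 h.b1.norm h.nle12

theorem fam [Finite G] {m : G} (hm : m ∈ M₁) : AQ (d - 1) K₁ (MulAut.conj m • (K₁ ⊓ K₂)) := by
  have := h.aq1.conj m
  rwa [conj_eq_self h.a1.norm hm] at this

theorem KK [Finite G] (hc : ∀ y : G, (∀ m ∈ M₁, y ∈ MulAut.conj m • (K₁ ⊓ K₂)) → y = 1) :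
    K₂ = MulAut.conj σ • K₁ := by
  have ha : AQ d M₁ (MulAut.conj σ⁻¹ • K₂) := by
    have := h.a2.conj σ⁻¹
    rwa [h.hσ, H8.conj_inv_smul_conj_smul] at this
  have hle : K₁ ≤ MulAut.conj σ⁻¹ • K₂ := by
    by_contra hn
    have hr := ha.restrict h.h5' h.a1.1 h.a1.norm hn
    obtain ⟨N₀, -, -, h3, h4⟩ := hr.exists_least h.h5'
    apply h3
    intro y hy
    rw [hc y fun m hm => h4 _ (h.fam hm).1 (h.fam hm).norm (fun hle => ?_) hy]
    · exact one_mem _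
    · have e1 := (hr.relIndex h.h5').1
      have e2 := ((h.fam hm).relIndex h.h5).2
      have e3 := Nat.le_of_dvd (Nat.pos_of_ne_zero index_ne_zero_of_finite)
        (relIndex_dvd_of_le_left K₁ hle)
      have e4 := Nat.mul_factorial_pred (n := d) (by have := h.hd; omega)
      have e5 := Nat.factorial_pos (d - 1)
      have e6 := h.hd
      have e7 : (K₁ ⊓ MulAut.conj σ⁻¹ • K₂).relIndex K₁ ≤ (d - 1).factorial := e3.trans e2
      nlinarith
  have := le_antisymm hle (h.a1.ge_of_le h.h5' h.h5' ha hle)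
  rw [this, H8.conj_smul_conj_inv_smul]

theorem E1 [Finite G] (hc : ∀ y : G, (∀ m ∈ M₁, y ∈ MulAut.conj m • (K₁ ⊓ K₂)) → y = 1) :
    K₁ ⊓ K₂ = ⊥ := by
  have hBE : B ≤ normalizer ((K₁ ⊓ K₂ : Subgroup G) : Set G) := norm_inf h.b1.norm h.b2.norm
  by_cases hC : centralizer (K₁ : Set G) ⊓ M₁ ≤ K₁
  · exfalso
    have hKK := h.KK hc
    have hF : ∀ m ∈ M₁, AQ (d - 1) K₂ (MulAut.conj σ • MulAut.conj m • (K₁ ⊓ K₂)) := by
      intro m hm
      have := (h.fam hm).conj σ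
      rwa [← hKK] at this
    have hc' : ∀ y : G, (∀ m ∈ M₁, y ∈ MulAut.conj σ • MulAut.conj m • (K₁ ⊓ K₂)) → y = 1 := by
      intro y hy
      have := hc (σ⁻¹ * y * σ) fun m hm => H8.mem_conj_smul.mp (hy m hm)
      calc y = σ * (σ⁻¹ * y * σ) * σ⁻¹ := by group
        _ = 1 := by rw [this]; group
    have ha : AQ (d - 1) K₂ (K₁ ⊓ K₂) := by rw [inf_comm]; exact h.symm.aq1
    obtain ⟨N₀, h1, h2, h3, h4⟩ := ha.exists_least h.h5
    have hN₀ : N₀ ⊓ (K₁ ⊓ K₂) = ⊥ := by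
      rw [eq_bot_iff]
      intro y hy
      rw [mem_bot]
      refine hc' y fun m hm => ?_
      by_cases hle : MulAut.conj σ • MulAut.conj m • (K₁ ⊓ K₂) ≤ K₁ ⊓ K₂
      · exact (hF m hm).ge_of_le h.h5 h.h5 ha hle hy.2
      · exact h4 _ (hF m hm).1 (hF m hm).norm hle hy.1
    let L : Subgroup G := centralizer ((K₁ ⊓ K₂ : Subgroup G) : Set G) ⊓ K₂
    have hNL : N₀ ≤ L := le_inf (cent_of_inf_bot (h1.trans ha.norm) (inf_le_right.trans h2) hN₀) h1
    have hBL : B ≤ normalizer (L : Set G) := norm_inf (norm_cent hBE) h.b2.norm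
    have hLE : L ⊓ (K₁ ⊓ K₂) = ⊥ := by
      rw [eq_bot_iff]
      intro y hy
      rw [mem_bot]
      refine hc' y fun m hm => ?_
      by_contra hy'
      have hn : K₂ ≤ normalizer ((L ⊓ (K₁ ⊓ K₂) : Subgroup G) : Set G) := h.b2.1.trans (norm_inf hBL hBE)
      have hle : L ⊓ (K₁ ⊓ K₂) ≤ K₂ := inf_le_right.trans inf_le_right
      have hnl : ¬ L ⊓ (K₁ ⊓ K₂) ≤ MulAut.conj σ • MulAut.conj m • (K₁ ⊓ K₂) := fun h0 => hy' (h0 hy)
      exact (hF m hm).not_cent h.h5 hle hn hnl hle hn hnl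
        ((inf_le_left.trans inf_le_left).trans (centralizer_le (SetLike.coe_subset_coe.mpr inf_le_right)))
    have hLB : L ≤ B := inf_le_right.trans h.b2.1
    have hLC : L ≤ centralizer (K₁ : Set G) := cent_of_inf_bot (hLB.trans h.b1.norm) (h.b1.1.trans hBL) (by
      rw [eq_bot_iff, ← hLE]
      exact le_inf inf_le_left (le_inf inf_le_right (inf_le_left.trans inf_le_right)))
    exact h3 (le_inf (hNL.trans ((le_inf hLC (hLB.trans h.B1)).trans hC)) h1)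
  · rw [eq_bot_iff]
    intro y hy
    rw [mem_bot]
    refine hc y fun m hm => ?_
    obtain ⟨f, x, hl⟩ := h.l1
    obtain ⟨c, hc1, hc2⟩ := hl.trans h.h5' inf_le_right (norm_inf (norm_cent h.a1.norm) le_normalizer) hC hm
    rw [H8.mem_conj_smul]
    have e : m⁻¹ * y * m = (c⁻¹ * m)⁻¹ * y * (c⁻¹ * m)⁻¹⁻¹ := by
      have := hc1.1 y hy.1
      calc m⁻¹ * y * m = m⁻¹ * (y * c) * c⁻¹ * m := by group
        _ = _ := by rw [this]; group
    rw [e]
    exact (mem_normalizer_iff.mp (hBE (B.inv_mem hc2)) y).mp hy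

theorem pc_le [Finite G] {p : ℕ} (hp : p.Prime) :
    (pCore p K₁).map K₁.subtype ≤ (pCore p K₂).map K₂.subtype := by
  have hn : B ≤ normalizer (((pCore p K₁).map K₁.subtype : Subgroup G) : Set G) :=
    h.b1.norm.trans (H3.normalizer_le_normalizer_map_pCore K₁)
  have h1 := h.b2.le_of_isPGroup h.h5 ((map_subtype_le _).trans h.b1.1) hn hp (H3.map_pCore_isPGroup K₁)
  exact H3.le_map_pCore (H3.map_pCore_isPGroup K₁) h1 (h.b2.1.trans hn)

theorem no_p [Finite G] {p : ℕ} (hp : p.Prime) {A : Subgroup G} (hA : IsPGroup p A) (hAK : A ≤ K₁)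
    (hn : M₁ ≤ normalizer (A : Set G)) : A = ⊥ := by
  have he := le_antisymm (h.pc_le hp) (h.symm.pc_le hp)
  have h0 := h.gen _ ((map_subtype_le (pCore p K₁)).trans h.b1.1)
    (h.a1.norm.trans (H3.normalizer_le_normalizer_map_pCore K₁))
    (he ▸ h.a2.norm.trans (H3.normalizer_le_normalizer_map_pCore K₂))
  rw [eq_bot_iff, ← h0]
  exact H3.le_map_pCore hA hAK (h.a1.1.trans hn)

theorem theta [Finite G] (hE : K₁ ⊓ K₂ = ⊥) {f : M₁ →* Perm (Fin d)} {x : Fin d} (hl : Loc d M₁ B K₁ f x) :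
    ∃ θ : M₁ →* Perm (Fin (d - 1)), (∀ m, f m = 1 → θ m = 1 → m = 1) ∧
      (∀ τ ∈ alternatingGroup (Fin d), ∃ m, f m = τ ∧ θ m = 1) ∧
      (∀ τ ∈ alternatingGroup (Fin (d - 1)), ∃ m, f m = 1 ∧ θ m = τ) ∧
      (f.range.index = 2 → θ.range ≤ alternatingGroup (Fin (d - 1))) := by
  let C : Subgroup G := centralizer (K₁ : Set G) ⊓ M₁
  have hCn : M₁ ≤ normalizer (C : Set G) := norm_inf (norm_cent h.a1.norm) le_normalizer
  have hK2C : K₂ ≤ C := le_inf (cent_of_inf_bot (h.b2.1.trans h.b1.norm) (h.b1.1.trans h.b2.norm)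
    (by rw [inf_comm, hE])) (h.b2.1.trans h.B1)
  have hCK : ¬ C ≤ K₁ := fun h0 => h.nle21 (hK2C.trans h0)
  have hCB : C ⊓ B ≤ K₂ := by
    by_contra h0
    exact h.b2.not_cent h.h5 h.b1.1 h.b1.norm h.nle12 inf_le_right
      (norm_inf (h.B1.trans hCn) le_normalizer) h0 (inf_le_left.trans inf_le_left)
  obtain ⟨-, ψ, hψ, hψk⟩ := h.b2
  haveI : (C.subgroupOf M₁).Normal := normal_subgroupOf_of_le_normalizer hCn
  let π : B →* M₁ ⧸ C.subgroupOf M₁ := (QuotientGroup.mk' _).comp (inclusion h.B1)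
  have hπ : Function.Surjective π := by
    intro q
    obtain ⟨m, rfl⟩ := QuotientGroup.mk_surjective q
    obtain ⟨c, hc1, hc2⟩ := hl.trans h.h5' inf_le_right hCn hCK m.2
    refine ⟨⟨_, hc2⟩, ?_⟩
    show ((inclusion h.B1 ⟨_, hc2⟩ : M₁) : M₁ ⧸ C.subgroupOf M₁) = m
    rw [QuotientGroup.eq]
    show (c⁻¹ * m)⁻¹ * m ∈ C
    have := (mem_normalizer_iff.mp (hCn (M₁.inv_mem m.2)) c).mp hc1
    simpa [mul_assoc] using this
  have hπk : ∀ b : B, π b = 1 ↔ (b : G) ∈ C := fun b => QuotientGroup.eq_one_iff _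
  let θ' := π.liftOfSurjective hπ ⟨ψ, fun b hb => (hψk b).mpr (hCB ⟨(hπk b).mp hb, b.2⟩)⟩
  have hθ' : ∀ b, θ' (π b) = ψ b := fun b => π.liftOfRightInverse_comp_apply _ _ _ b
  let θ : M₁ →* Perm (Fin (d - 1)) := θ'.comp (QuotientGroup.mk' _)
  have hθB : ∀ b : B, θ (inclusion h.B1 b) = ψ b := hθ'
  have hθC : ∀ m : M₁, (m : G) ∈ C → θ m = 1 := by
    intro m hm
    have : QuotientGroup.mk' (C.subgroupOf M₁) m = 1 := (QuotientGroup.eq_one_iff _).mpr hm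
    show θ' (QuotientGroup.mk' _ m) = 1
    rw [this, map_one]
  refine ⟨θ, fun m h1 h2 => ?_, fun τ hτ => ?_, fun τ hτ => ?_, fun hi => ?_⟩
  · have hm1 := (hl.ker m).mp h1
    have hm2 := (hψk ⟨m, h.b1.1 hm1⟩).mp ((hθB ⟨m, h.b1.1 hm1⟩).symm.trans h2)
    have : (m : G) ∈ K₁ ⊓ K₂ := ⟨hm1, hm2⟩
    rw [hE] at this
    exact Subtype.ext this
  · obtain ⟨m, hm, rfl⟩ := img h.h5' f hl.alt hl.ker inf_le_right hCn hCK τ hτ
    exact ⟨m, rfl, hθC m hm⟩
  · obtain ⟨b, hb, rfl⟩ := img h.h5 ψ hψ hψk h.b1.1 h.b1.norm h.nle12 τ hτ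
    exact ⟨inclusion h.B1 b, (hl.ker _).mpr hb, hθB b⟩
  · have hr : θ.range ≤ ψ.range := by
      rintro _ ⟨m, rfl⟩
      obtain ⟨b, hb⟩ := hπ (QuotientGroup.mk' _ m)
      exact ⟨b, by rw [← hθ', hb]; rfl⟩
    refine hr.trans (Perm.eq_alternatingGroup_of_index_eq_two ?_).le
    have hKK := h.KK (fun y hy => by
      have := hy 1 (one_mem _)
      rw [hE, smul_bot] at this
      exact this)
    have e1 : K₁.relIndex M₁ = Nat.card f.range := by
      rw [← index_ker, Subgroup.relIndex]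
      congr 1
      ext m; rw [mem_subgroupOf, MonoidHom.mem_ker, hl.ker]
    have e2 : K₂.relIndex B = Nat.card ψ.range := by
      rw [← index_ker, Subgroup.relIndex]
      congr 1
      ext m; rw [mem_subgroupOf, MonoidHom.mem_ker, hψk]
    have e3 := relIndex_mul_relIndex K₁ B M₁ h.b1.1 h.B1
    rw [hl.relIndex_B h.h5', e1] at e3
    have e4 : K₁.relIndex B = K₂.relIndex B := by
      have a1 := H3.card_mul_relIndex h.b1.1
      have a2 := H3.card_mul_relIndex h.symm.b1.1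
      have a3 : Nat.card K₂ = Nat.card K₁ := by rw [hKK, H8.card_conj_smul]
      rw [a3, ← a1] at a2
      exact (Nat.eq_of_mul_eq_mul_left Nat.card_pos a2).symm
    have e5 := f.range.card_mul_index
    have e6 := ψ.range.card_mul_index
    rw [Nat.card_eq_fintype_card (α := Perm _), Fintype.card_perm, Fintype.card_fin] at e5 e6
    have e7 := Nat.mul_factorial_pred (n := d) (by have := h.hd; omega)
    rw [hi, ← e3, e4, e2, ← e7, ← e6] at e5
    have e8 : 0 < d * Nat.card ψ.range := Nat.mul_pos (by have := h.hd; omega) Nat.card_pos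
    apply Nat.eq_of_mul_eq_mul_left e8
    rw [mul_assoc, ← e5]; ring

end Am

end Cfsg.Agent.H36.AltQ
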