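import Cfsg.Agent.H74.CksDefs
import Cfsg.Agent.S1059
import Cfsg.Agent.S1062
import Cfsg.Agent.S1067
import Cfsg.Agent.S1068
import Cfsg.Agent.S2141
import Cfsg.Agent.S2150
import Cfsg.Agent.S0822
import Cfsg.Agent.S0245
import Cfsg.Agent.S0246

/-!
# Project CKS: numerical endgames
-/

set_option autoImplicit false

namespace Cfsg.Agent.H36.CkN

open Subgroup Cfsg.Agent.H74.Cks Cfsg.Agent.Lead.T3

variable {G : Type} [Group G] [Finite G] {p : ℕ} [hp : Fact p.Prime]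

theorem not_dvd {e m : ℕ} (he : 0 < e) (hm : m ∣ (p ^ e - 1) ^ 2) : ¬ p ∣ m := fun h => by
  have h1 := hp.out.dvd_of_dvd_pow (h.trans hm)
  have h2 : p ∣ p ^ e := dvd_pow_self p he.ne'
  have h3 : 1 ≤ p ^ e := Nat.one_le_pow _ _ hp.out.pos
  have := (Nat.dvd_sub_iff_right h3 h2).1 h1
  exact hp.out.one_lt.ne' (Nat.dvd_one.1 this)

theorem pp_eq {g e m : ℕ} (hg : ¬ p ∣ g) (hm : ¬ p ∣ m) (h : g * Nat.card G = p ^ e * m) :
    pp p G = p ^ e := by
  have g0 : g ≠ 0 := fun e => hg (e ▸ dvd_zero p)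
  have m0 : m ≠ 0 := fun e => hm (e ▸ dvd_zero p)
  have h1 := congrArg (fun n => n.factorization p) h
  simp only [Nat.factorization_mul g0 Nat.card_pos.ne',
    Nat.factorization_mul (pow_pos hp.out.pos e).ne' m0, hp.out.factorization_pow,
    Finsupp.add_apply, Nat.factorization_eq_zero_of_not_dvd hg,
    Nat.factorization_eq_zero_of_not_dvd hm, Finsupp.single_eq_same] at h1
  rw [pp, show (Nat.card G).factorization p = e by omega]

omit hp in
theorem two_le {H : Subgroup G} (h : Two H) : 2 ≤ H.index := by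
  have h0 : H.index ≠ 0 := index_ne_zero_of_finite
  have h1 : H.index ≠ 1 := fun e => h.max.1 (index_eq_one.1 e)
  omega

theorem cop {H : Subgroup G} (h : Two H) (hd : p ∣ H.index) (e : ℕ) :
    (H.index - 1).Coprime (p ^ e) := by
  refine Nat.Coprime.pow_right e ((Nat.Prime.coprime_iff_not_dvd hp.out).2 fun h1 => ?_).symm
  have := (Nat.dvd_sub_iff_right (by have := two_le h; omega) hd).1 h1
  exact hp.out.one_lt.ne' (Nat.dvd_one.1 this)

theorem key {g e m b : ℕ} (he : 0 < e) (hg : ¬ p ∣ g) (hm : m ∣ (p ^ e - 1) ^ 2)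
    (h : g * Nat.card G = p ^ e * m) {H : Subgroup G} (h2 : Two H) (hd : p ∣ H.index)
    (hf : FTI p H b) (hne : H.index ≠ pp p G) (U : Sylow p G) :
    ∃ k, 0 < k ∧ k ≤ b ∧ ¬ p ∣ k ∧ H.index * Nat.card ↥((U : Subgroup G) ⊓ H) = k * p ^ e ∧
      (H.index : ℤ) - 1 ≤ ((Nat.card ↥((U : Subgroup G) ⊓ H) : ℤ) - k) ^ 2 := by
  obtain ⟨-, k, k0, kb, pk, hk⟩ := hf
  have hpp := pp_eq hg (not_dvd he hm) h
  have hU : Nat.card (U : Subgroup G) = p ^ e := U.card_eq_multiplicity.trans hpp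
  have h3 := hk U
  rw [hU] at h3
  refine ⟨k, k0, kb, pk, h3, ?_⟩
  obtain ⟨j, hj⟩ := (U.isPGroup'.to_le (inf_le_left (b := H))).exists_card_eq
  generalize Nat.card ↥((U : Subgroup G) ⊓ H) = v at h3 hj ⊢
  have hvk : v ≠ k := by
    rintro rfl
    rcases Nat.eq_zero_or_pos j with rfl | j0
    · rw [pow_zero] at hj
      rw [hj, mul_one, one_mul] at h3
      exact hne (h3.trans hpp.symm)
    · exact pk (hj ▸ dvd_pow_self p j0.ne')
  have h4 : H.index - 1 ∣ (p ^ e - 1) ^ 2 := by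
    refine (cop h2 hd e).dvd_of_dvd_mul_left ?_
    exact (((dvd_mul_left _ _).trans h2.dvd).trans (h ▸ dvd_mul_left _ _)).trans
      (Nat.mul_dvd_mul_left _ hm)
  have h5 := two_le h2
  have h6 : 1 ≤ p ^ e := Nat.one_le_pow _ _ hp.out.pos
  have h7 : (H.index : ℤ) - 1 ∣ ((p ^ e : ℕ) - 1) ^ 2 := by
    have := Int.natCast_dvd_natCast.2 h4
    rwa [Nat.cast_pow, Nat.cast_sub h6, Nat.cast_sub (by omega : 1 ≤ H.index)] at this
  have h8 : (H.index : ℤ) * v = k * (p ^ e : ℕ) := by exact_mod_cast h3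
  generalize ((p ^ e : ℕ) : ℤ) = u at h7 h8
  refine Int.le_of_dvd (sq_pos_of_ne_zero (by omega)) ?_
  have e1 : ((v : ℤ) - k) ^ 2 = k ^ 2 * (u - 1) ^ 2 +
      (H.index - 1) * (v * ((H.index - 1) * v - 2 * (k * u - k))) := by
    have : (v : ℤ) - k = k * u - k - (H.index - 1) * v := by rw [← h8]; ring
    rw [this]; ring
  rw [e1]
  exact dvd_add (h7.mul_left _) (dvd_mul_right _ _)

theorem fin2 {e m B b : ℕ} (he : 0 < e) (hm : m ∣ (p ^ e - 1) ^ 2)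
    (h : Nat.card G = p ^ e * m) (hB : p ^ e = B ^ 3) (h4 : 4 ≤ B) (hb : b ≤ 4)
    (hV : Vle G p B) : Fin2 G p b := fun H h2 hd hf hne => by
  obtain ⟨U, hU⟩ := hV H h2.max.1 hf.1
  obtain ⟨k, k0, kb, -, h5, h6⟩ := key (g := 1) he (fun h => hp.out.one_lt.ne' (Nat.dvd_one.1 h))
    hm (by rw [one_mul, h]) h2 hd hf hne U
  have v0 : 0 < Nat.card ↥((U : Subgroup G) ⊓ H) := Nat.card_pos
  generalize Nat.card ↥((U : Subgroup G) ⊓ H) = v at hU h5 h6 v0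
  have h7 : B ^ 2 ≤ H.index := by
    refine Nat.le_of_mul_le_mul_right (c := B) ?_ (by omega)
    calc B ^ 2 * B = 1 * B ^ 3 := by ring
      _ ≤ k * B ^ 3 := Nat.mul_le_mul_right _ k0
      _ = H.index * v := by rw [h5, hB]
      _ ≤ H.index * B := Nat.mul_le_mul_left _ hU
  have h8 : ((v : ℤ) - k) ^ 2 ≤ ((B : ℤ) - 1) ^ 2 := by
    refine sq_le_sq' ?_ ?_ <;> omega
  have h9 : (B : ℤ) ^ 2 ≤ H.index := by exact_mod_cast h7
  nlinarith

omit hp in
theorem card_pow (F : Type) [Field F] [Fintype F] [CharP F p] :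
    ∃ f, 0 < f ∧ Fintype.card F = p ^ f := by
  obtain ⟨n, -, h⟩ := FiniteField.card F p
  exact ⟨n, n.2, h⟩

theorem sub_dvd (q : ℕ) {a b : ℕ} (h : a ∣ b) : q ^ a - 1 ∣ q ^ b - 1 := by
  obtain ⟨c, rfl⟩ := h
  rw [pow_mul]
  exact Nat.sub_one_dvd_pow_sub_one _ _

theorem sq_sub (x : ℕ) : x ^ 2 - 1 = (x - 1) * (x + 1) := by
  rcases x with _ | x
  · rfl
  · rw [show (x + 1) ^ 2 = x * (x + 1 + 1) + 1 by ring]; simp

theorem cube_sub (x : ℕ) : x ^ 3 - 1 = (x - 1) * (x ^ 2 + x + 1) := by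
  rcases x with _ | x
  · rfl
  · rw [show (x + 1) ^ 3 = x * ((x + 1) ^ 2 + (x + 1) + 1) + 1 by ring]; simp

theorem g23 : ∀ D < 2100, (D + 1) * D ∣ 4245696 → 3 ∣ D + 1 →
    D + 1 = 3 ^ 1 ∨ D + 1 = 3 ^ 2 ∨ D + 1 = 3 ^ 3 ∨ D + 1 = 3 ^ 6 := by decide +kernel

theorem xn : XnStmt := by
  refine ⟨fun F _ _ p hp _ h3 => ⟨fun hV => ?_, fun hF H h2 hd => ?_⟩,
    fun F _ _ p hp _ r hr hF hV => ?_, fun F _ _ m hm hF hV => ?_⟩
  · obtain ⟨f, f0, hf⟩ := card_pow (p := p) F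
    have hc := S1059.result (F := F) rfl
    have e : p ^ (f * 6) = Fintype.card F ^ 6 := by rw [pow_mul, ← hf]
    refine fin2 (e := f * 6) (m := (Fintype.card F ^ 2 - 1) * (Fintype.card F ^ 6 - 1)) (by omega)
      ?_ (by rw [hc, e, mul_assoc]) (by rw [e]; ring) (by nlinarith) le_rfl hV
    rw [e, sq (_ - 1)]
    exact Nat.mul_dvd_mul_right (sub_dvd _ (by norm_num)) _
  · obtain ⟨f, f0, hf⟩ := card_pow (p := p) F
    obtain rfl : p = 3 := (Nat.prime_dvd_prime_iff_eq hp.out Nat.prime_three).1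
      (by rw [← hF, hf]; exact dvd_pow_self p f0.ne')
    have hc := S1059.result (F := F) hF
    have h4 := h2.dvd
    have h5 := two_le h2
    obtain ⟨D, hD⟩ : ∃ D, H.index = D + 1 := ⟨H.index - 1, by omega⟩
    rw [hc, hD, Nat.add_sub_cancel] at h4
    have h6 := Nat.le_of_dvd (by norm_num) h4
    rw [hD] at hd ⊢
    norm_num at h6
    rcases g23 D (by nlinarith) h4 hd with e | e | e | e <;> exact ⟨_, e⟩
  · obtain ⟨f, f0, hf⟩ := card_pow (p := p) F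
    have hc := S1067.result (K := F) hr hF
    have e : p ^ (f * 4) = r ^ 12 := by rw [pow_mul, ← hf, hF]; ring
    have r2 := hr.two_le
    refine fin2 (e := f * 4) (m := (r ^ 2 - 1) * (r ^ 8 + r ^ 4 + 1) * (r ^ 6 - 1)) (by omega)
      ?_ (by rw [hc, e]; ring) (by rw [e]; ring)
      (le_trans (by norm_num) (Nat.pow_le_pow_left r2 4)) le_rfl hV
    rw [e, sq (_ - 1)]
    refine Nat.mul_dvd_mul ?_ (sub_dvd _ (by norm_num))
    rw [show r ^ 12 = (r ^ 4) ^ 3 by ring, cube_sub, show (r ^ 4) ^ 2 = r ^ 8 by ring]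
    exact Nat.mul_dvd_mul_right (sub_dvd _ (by norm_num)) _
  · haveI : Fact (Nat.Prime 2) := ⟨Nat.prime_two⟩
    have hc := S1068.result (K := F) hF
    rw [← hF] at hc
    have e : 2 ^ ((2 * m + 1) * 12) = Fintype.card F ^ 12 := by rw [pow_mul, ← hF]
    have r2 : 2 ≤ Fintype.card F := Fintype.one_lt_card
    generalize Fintype.card F = q at hc e r2 hV
    refine fin2 (e := (2 * m + 1) * 12) (m := (q - 1) * (q ^ 3 + 1) * (q ^ 6 + 1) * (q ^ 4 - 1))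
      (by omega) ?_ (by rw [hc, e]; ring) (by rw [e]; ring)
      (le_trans (by norm_num) (Nat.pow_le_pow_left r2 4)) (by norm_num) hV
    rw [e, sq (_ - 1)]
    refine Nat.mul_dvd_mul ?_ (sub_dvd _ (by norm_num))
    rw [show q ^ 12 = (q ^ 6) ^ 2 by ring, sq_sub]
    refine Nat.mul_dvd_mul_right ?_ _
    rw [show q ^ 6 = (q ^ 3) ^ 2 by ring, sq_sub]
    exact Nat.mul_dvd_mul_right (Nat.sub_one_dvd_pow_sub_one _ _) _

set_option synthInstance.maxSize 1000 in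
theorem f42 : ∀ a < 7, ∀ b < 3, ∀ c < 3, ∀ d < 2, ∀ e < 2,
    (3 ^ a * 5 ^ b * 7 ^ c * 13 ^ d * 17 ^ e + 1) * (3 ^ a * 5 ^ b * 7 ^ c * 13 ^ d * 17 ^ e) ∣
      3311126603366400 → 3 ^ a * 5 ^ b * 7 ^ c * 13 ^ d * 17 ^ e + 1 ≤ 442 ∨
      3 ^ a * 5 ^ b * 7 ^ c * 13 ^ d * 17 ^ e + 1 = 4096 := by decide +kernel

theorem f42n : F42nStmt := fun F _ _ hF H h2 hd => by
  haveI : Fact (Nat.Prime 2) := ⟨Nat.prime_two⟩
  have hc := S1062.result (F := F) hF
  have h3 := cop h2 hd 24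
  have h4 := h2.dvd
  have h5 := two_le h2
  obtain ⟨D, hD⟩ : ∃ D, H.index = D + 1 := ⟨H.index - 1, by omega⟩
  rw [hc, hD, Nat.add_sub_cancel] at h4
  rw [hD, Nat.add_sub_cancel] at h3
  have h6 : D ∣ 3 ^ 6 * 5 ^ 2 * 7 ^ 2 * 13 ^ 1 * 17 ^ 1 :=
    h3.dvd_of_dvd_mul_left (((dvd_mul_left _ _).trans h4).trans (by norm_num))
  obtain ⟨x4, y5, h7, k5, rfl⟩ := Nat.dvd_mul.1 h6
  obtain ⟨x3, y4, h8, k4, rfl⟩ := Nat.dvd_mul.1 h7
  obtain ⟨x2, y3, h9, k3, rfl⟩ := Nat.dvd_mul.1 h8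
  obtain ⟨y1, y2, k1, k2, rfl⟩ := Nat.dvd_mul.1 h9
  obtain ⟨a, ha, rfl⟩ := (Nat.dvd_prime_pow (by norm_num)).1 k1
  obtain ⟨b, hb, rfl⟩ := (Nat.dvd_prime_pow (by norm_num)).1 k2
  obtain ⟨c, hc', rfl⟩ := (Nat.dvd_prime_pow (by norm_num)).1 k3
  obtain ⟨d, hd', rfl⟩ := (Nat.dvd_prime_pow (by norm_num)).1 k4
  obtain ⟨e, he, rfl⟩ := (Nat.dvd_prime_pow (by norm_num)).1 k5
  rw [hD]
  exact f42 a (by omega) b (by omega) c (by omega) d (by omega) e (by omega) h4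

theorem fs_num {q N v k : ℕ} (h4 : 4 ≤ q) (k0 : 0 < k) (k3 : k ≤ 3) (v0 : 0 < v)
    (hN : q ^ 3 + q ^ 2 + q + 1 ≤ N) (h : N * v = k * q ^ 4)
    (h' : (N : ℤ) - 1 ≤ ((v : ℤ) - k) ^ 2) : False := by
  have h1 : v < 3 * q := by
    by_contra h1
    have h2 : (q ^ 3 + q ^ 2 + q + 1) * (3 * q) ≤ N * v := Nat.mul_le_mul hN (by omega)
    have h3 : k * q ^ 4 ≤ 3 * q ^ 4 := Nat.mul_le_mul_right _ k3
    nlinarith
  have h2 : ((v : ℤ) - k) ^ 2 ≤ (3 * (q : ℤ)) ^ 2 := by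
    refine sq_le_sq' ?_ ?_ <;> omega
  have h3 : (q : ℤ) ^ 3 + q ^ 2 + q + 1 ≤ N := by exact_mod_cast hN
  have h5 : q ≤ 8 := by
    by_contra h5
    have h6 : (9 : ℤ) ≤ q := by omega
    nlinarith
  interval_cases q <;> interval_cases k <;> interval_cases v <;> omega

theorem fs4 : Fs4Stmt := fun F _ _ p hp _ h3 H h2 hd hf hne => by
  obtain ⟨f, f0, hq⟩ := card_pow (p := p) F
  have hc : Nat.gcd 2 (Fintype.card F - 1) * Nat.card (PSp 2 F) =
      Fintype.card F ^ 4 * ((Fintype.card F ^ 2 - 1) * (Fintype.card F ^ 4 - 1)) := by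
    have h1 := S0245.result (F := F) rfl 2
    have h3 := S0246.result (F := F) rfl 2 (by norm_num)
    rw [← h3, mul_comm, ← Subgroup.card_eq_card_quotient_mul_card_subgroup, h1]
    simp [Finset.prod_range_succ]
  have e : p ^ (f * 4) = Fintype.card F ^ 4 := by rw [pow_mul, ← hq]
  obtain ⟨U⟩ : Nonempty (Sylow p (PSp 2 F)) := inferInstance
  obtain ⟨k, k0, kb, pk, h5, h6⟩ := key (e := f * 4) (g := Nat.gcd 2 (Fintype.card F - 1))
    (m := (Fintype.card F ^ 2 - 1) * (Fintype.card F ^ 4 - 1)) (by omega)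
    (not_dvd (p := p) f0 (by
      rw [← hq]; exact (Nat.gcd_dvd_right _ _).trans (dvd_pow_self _ two_ne_zero)))
    (by rw [e, sq (_ - 1)]; exact Nat.mul_dvd_mul_right (sub_dvd _ (by norm_num)) _)
    (by rw [hc, e]) h2 hd hf hne U
  have v0 : 0 < Nat.card ↥((U : Subgroup (PSp 2 F)) ⊓ H) := Nat.card_pos
  generalize Nat.card ↥((U : Subgroup (PSp 2 F)) ⊓ H) = v at h5 h6 v0
  rw [e] at h5
  rcases h3.eq_or_lt with h3 | h3
  · obtain rfl : p = 3 := (Nat.prime_dvd_prime_iff_eq hp.out Nat.prime_three).1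
      (by rw [h3, hq]; exact dvd_pow_self p f0.ne')
    haveI : Fact (Nat.Prime 2) := ⟨Nat.prime_two⟩
    letI := Fintype.ofFinite (GaloisField 2 2)
    have hK : Fintype.card (GaloisField 2 2) = 4 := by
      rw [← Nat.card_eq_fintype_card, GaloisField.card 2 2 (by norm_num)]; rfl
    obtain ⟨φ⟩ := S0822.result hK h3.symm
    have h7 := (S2150.result 2 hK le_rfl).1 (H.comap φ.toMonoidHom) (fun e => h2.max.1 (by
      rw [← Subgroup.index_eq_one, ← H.index_comap_of_surjective (f := φ.toMonoidHom) φ.surjective,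
        e, Subgroup.index_top]))
    rw [H.index_comap_of_surjective (f := φ.toMonoidHom) φ.surjective] at h7
    rw [← h3] at h5
    have h8 : v ≤ 6 := by
      by_contra h8
      have : 27 * 7 ≤ H.index * v := Nat.mul_le_mul h7 (by omega)
      omega
    interval_cases k <;> interval_cases v <;> omega
  · have h7 := (S2141.result (F := F) rfl 2 le_rfl h3.le (by omega)).1 H h2.max.1
    refine fs_num h3 k0 kb v0 (le_trans (le_of_eq ?_) h7) h5 h6
    obtain ⟨x, hx⟩ : ∃ x, Fintype.card F = x + 1 := ⟨Fintype.card F - 1, by omega⟩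
    rw [hx, show (x + 1) ^ (2 * 2) = x * ((x + 1) ^ 3 + (x + 1) ^ 2 + (x + 1) + 1) + 1 by ring,
      Nat.add_sub_cancel, Nat.add_sub_cancel, Nat.mul_div_cancel_left _ (by omega)]

end Cfsg.Agent.H36.CkN
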