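import Cfsg.Agent.H73.CVKit
import Cfsg.Agent.H39.C6H3c

/-! Project CV, piece H3C: three homologies do not lie in `L₂(7)`, `3A₆`, `3A₇`. -/

set_option autoImplicit false

namespace Cfsg.Agent.H36.CvH3c

open Matrix Cfsg.Geo Cfsg.Agent.H25 Cfsg.Agent.H73.CV
open Cfsg.Agent.H25.C6 (aM sM)
open Cfsg.Agent.H39.C6H (hm hm_pow sM_zero det_sM sM_sq tr_three tr_three' hom hom_pow pow_of_scal mem
  cube_eq)

universe u

variable {K : Type u} [Field K] {r p : ℕ} {γ l c : K} {s : Fin 3 → GL (Fin 3) K}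

theorem dvd_of (h : Ar r p γ l) (N : ℕ) (e : (N : K) = 0) : p ∣ N :=
  have := h.char
  (CharP.cast_eq_zero_iff K p N).1 e

theorem eq_of (h : Ar r p γ l) (N : ℕ) (hN : N.Prime) (e : (N : K) = 0) : p = N :=
  (Nat.prime_dvd_prime_iff_eq h.prime hN).1 (dvd_of h N e)

theorem two_ne (h : Ar r p γ l) : (2 : K) ≠ 0 := fun e =>
  h.two (eq_of h 2 Nat.prime_two (by exact_mod_cast e))

theorem r_ne (h : Ar r p γ l) : (r : K) ≠ 0 := fun e => by
  obtain ⟨rfl, k⟩ := h.pr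
  have := eq_of h 11 (by norm_num) e
  omega

theorem five_ne (h : Ar r p γ l) : (5 : K) ≠ 0 := fun e => by
  obtain ⟨-, k⟩ := h.pr
  have := eq_of h 5 (by norm_num) (by exact_mod_cast e)
  omega

theorem γ_ne (h : Ar r p γ l) : γ ≠ 0 := fun e => r_ne h (by
  have := h.gam
  rwa [e, zero_mul, eq_comm, neg_eq_zero] at this)

theorem ord_prime (h : Ar r p γ l) : (orderOf l).Prime := by
  obtain ⟨m, hm, e⟩ := h.ord
  have := Fact.mk hm
  rwa [orderOf_eq_prime e h.ne]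

theorem neg_of_sq (h : Ar r p γ l) (e : l ^ 2 = 1) : l = -1 :=
  (sq_eq_one_iff.1 e).resolve_left h.ne

theorem neg_of_four (h : Ar r p γ l) (e : l ^ 4 = 1) : l = -1 := by
  have h1 := (ord_prime h).dvd_of_dvd_pow (m := 2) (n := 2) (orderOf_dvd_of_pow_eq_one e)
  exact neg_of_sq h (orderOf_dvd_iff_pow_eq_one.1 h1)

theorem le_SL (h : Tri r p γ l c s) : Subgroup.closure (Set.range s) ≤ specialLinear (Fin 3) K := by
  rw [Subgroup.closure_le]
  rintro _ ⟨i, rfl⟩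
  rw [SetLike.mem_coe, mem_SL_iff, h.eq, det_smul, det_sM, Fintype.card_fin, h.c3]

theorem dec (h : Tri r p γ l c s) {P : Subgroup (GL (Fin 3) K)}
    (hP : P ≤ Subgroup.closure (Set.range s)) {g : GL (Fin 3) K}
    (hg : g ∈ Subgroup.closure (Set.range s)) (k : g ∈ P ⊔ scalars (Fin 3) K) :
    ∃ κ : K, κ ^ 3 = 1 ∧ ∃ x ∈ P, x.1 = κ • g.1 ∧ (x⁻¹).1 = κ ^ 2 • (g⁻¹).1 := by
  obtain ⟨x, hx, d, e⟩ := mem_sup_scalars.1 k
  have e1 : x.1 = ((d⁻¹ : Kˣ) : K) • g.1 := by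
    rw [e, Units.val_mul, coe_scal, Matrix.mul_smul, mul_one, smul_smul, Units.inv_mul, one_smul]
  have e2 : ((d⁻¹ : Kˣ) : K) ^ 3 = 1 := by
    have := mem_SL_iff.1 (le_SL h (hP hx))
    rwa [e1, det_smul, mem_SL_iff.1 (le_SL h hg), Fintype.card_fin, mul_one] at this
  refine ⟨_, e2, x, hx, e1, Units.inv_eq_of_mul_eq_one_right ?_⟩
  rw [e1, Matrix.smul_mul, Matrix.mul_smul, smul_smul, ← pow_succ', e2, one_smul, Units.mul_inv]

theorem three (h : Tri r p γ l c s) (hl : l = -1) : ∃ ρ : K, r * ρ = 1 ∧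
    tr (s 0 * s 1 * s 2) = 3 - 12 * ρ + 8 * (γ * ρ ^ 2) ∧
    tr (s 0 * s 1 * s 2)⁻¹ = 3 - 12 * ρ - 8 * (γ * ρ ^ 2) ∧ ∀ i, (s i).1 * (s i).1 = 1 := by
  have hc := h.neg hl
  subst hl hc
  have e : ∀ i, (s i).1 * (s i).1 = 1 := fun i => by
    rw [h.eq, Matrix.smul_mul, Matrix.mul_smul, sM_sq]; simp
  have e' : ∀ i, ((s i)⁻¹).1 = (s i).1 := fun i => Units.inv_eq_of_mul_eq_one_right (e i)
  have k := mul_inv_cancel₀ (r_ne h.toAr)
  refine ⟨(r : K)⁻¹, k, ?_, ?_, e⟩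
  · rw [tr, Units.val_mul, Units.val_mul, h.eq, h.eq, h.eq]
    simp only [Matrix.smul_mul, Matrix.mul_smul, trace_smul, tr_three, smul_eq_mul, h.gam]
    linear_combination (-4 * (r : K)⁻¹) * k
  · rw [tr, _root_.mul_inv_rev, _root_.mul_inv_rev, ← mul_assoc, Units.val_mul, Units.val_mul, e',
      e', e', h.eq, h.eq, h.eq]
    simp only [Matrix.smul_mul, Matrix.mul_smul, trace_smul, tr_three', smul_eq_mul, h.gam]
    linear_combination (-4 * (r : K)⁻¹) * k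

theorem T_ne (h : Ar r p γ l) {ρ : K} (k : r * ρ = 1) : 16 * (γ * ρ ^ 2) ≠ 0 :=
  mul_ne_zero (by rw [show (16 : K) = 2 ^ 4 by norm_num]; exact pow_ne_zero _ (two_ne h))
    (mul_ne_zero (γ_ne h) (pow_ne_zero _ (right_ne_zero_of_mul_eq_one k)))

theorem first (h : Tri r p γ l c s) {x : GL (Fin 3) K} {κ : K} (hκ : κ ^ 3 = 1) (m : ℕ)
    (e : x.1 = κ • (s 0 ^ m).1) : x.1 = (κ * c ^ m) • hm (l ^ m) ∧ (κ * c ^ m) ^ 3 * l ^ m = 1 := by
  refine ⟨?_, ?_⟩
  · rw [e, Units.val_pow_eq_pow_val, h.eq, sM_zero, _root_.smul_pow, hm_pow, smul_smul]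
  · rw [mul_pow, hκ, one_mul, ← pow_mul, mul_comm m, pow_mul, ← mul_pow, h.c3, one_pow]

theorem not_s7 (h : Tri r p γ l c s) {P : Subgroup (GL (Fin 3) K)}
    (hP : P ≤ Subgroup.closure (Set.range s)) (S : S7 P)
    (k : Subgroup.closure (Set.range s) ≤ P ⊔ scalars (Fin 3) K) : False := by
  have hl : l = -1 := by
    obtain ⟨κ, hκ, x, hx, e, -⟩ := dec h hP (mem 0) (k (mem 0))
    obtain ⟨e1, e2⟩ := first h hκ 1 (by rw [pow_one]; exact e)
    rw [pow_one l] at e1 e2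
    generalize κ * c ^ 1 = a at e1 e2
    obtain ⟨b, ab, lb, t1, t2⟩ := hom e1 e2
    have b1 : b ≠ 1 := fun z => h.ne (by rw [lb, z, one_pow])
    rcases S.cls x hx with ⟨k1, -⟩ | ⟨k1, -, k2⟩
    · rw [t1, t2] at k1
      have : (b - 1) ^ 3 * (b + 1) = 0 := by
        linear_combination (-b ^ 2) * k1 + (a * b + 1 - 2 * b) * ab
      have b2 : b = -1 := eq_neg_of_add_eq_zero_left
        ((mul_eq_zero.1 this).resolve_left (pow_ne_zero _ (sub_ne_zero.2 b1)))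
      rw [lb, b2]; norm_num
    · exfalso
      have a7 := (hom_pow e1 7).2
      rw [k1, Units.val_one, one_apply_eq] at a7
      rw [t1, t2] at k2
      have b7 : b ^ 7 = 1 := by
        have : (a * b) ^ 7 = 1 := by rw [ab, one_pow]
        rwa [mul_pow, ← a7, one_mul] at this
      have b6 : b ^ 6 + b ^ 5 + b ^ 4 + b ^ 3 + b ^ 2 + b + 1 = 0 :=
        (mul_eq_zero.1 (show (b - 1) * _ = 0 by linear_combination b7)).resolve_left
          (sub_ne_zero.2 b1)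
      have k3 : b ^ 4 + 2 * b ^ 3 + b ^ 2 + 2 * b + 1 = 0 := by
        linear_combination b ^ 2 * k2 - (a * b + 1 + 2 * b) * ab
      have k4 : b * b * (b - 1) ^ 2 = 0 := by linear_combination b6 - (b ^ 2 - b + 1) * k3
      have b0 : b ≠ 0 := right_ne_zero_of_mul_eq_one ab
      exact pow_ne_zero 2 (sub_ne_zero.2 b1) ((mul_eq_zero.1 k4).resolve_left (mul_ne_zero b0 b0))
  obtain ⟨ρ, hρ, t1, t2, sq⟩ := three h hl
  have m : ∀ i, s i ∈ P := fun i => by
    obtain ⟨κ, hκ, x, hx, e, -⟩ := dec h hP (mem i) (k (mem i))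
    have e1 : (x * x).1 = (κ * κ) • (1 : Matrix (Fin 3) (Fin 3) K) := by
      rw [Units.val_mul, e, Matrix.smul_mul, Matrix.mul_smul, sq, smul_smul]
    have κ0 : κ ≠ 0 := fun z => by simp [z] at hκ
    have e2 := S.noscal _ (mul_mem hx hx)
      ((mem_scalars_iff _).2 ⟨Units.mk0 _ (mul_ne_zero κ0 κ0), e1⟩)
    have e3 := congrFun (congrFun e1 0) 0
    rw [e2, Units.val_one, Matrix.smul_apply, one_apply_eq, smul_eq_mul, mul_one] at e3
    have e4 : κ = 1 := by linear_combination hκ + κ * e3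
    rw [e4, one_smul] at e
    exact Units.ext e ▸ hx
  have g := h.gam
  rcases S.cls _ (mul_mem (mul_mem (m 0) (m 1)) (m 2)) with ⟨k1, -⟩ | ⟨-, k1, k2⟩
  · exact T_ne h.toAr hρ (by rw [t1, t2] at k1; linear_combination -k1)
  rw [t1] at k1
  rw [t1, t2] at k2
  have k3 : 7 * (r : K) = 24 := by linear_combination r * k2 + 24 * hρ
  obtain ⟨rfl, -⟩ := h.pr
  push_cast at k3 g hρ
  have k4 : 24 * ρ = 7 := by linear_combination -k2
  have k5 : (16 * (γ * ρ ^ 2)) ^ 2 + 7 = 0 := by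
    linear_combination 4 * k1 + (7 - 24 * ρ + 32 * (γ * ρ ^ 2)) * k4
  have k6 : 256 * ρ ^ 3 = 7 := by
    linear_combination -k5 + 256 * ρ ^ 4 * g - 256 * ρ ^ 3 * hρ
  have k7 : (9061 : K) = 0 := by
    linear_combination -1331 * k6 + 256 * (121 * ρ ^ 2 + 11 * ρ + 1) * hρ
  exact two_ne h.toAr (by linear_combination 171 * k3 - k7)

theorem tr_two : (sM r γ (-1 : K) 0 * sM r γ (-1) 1).trace = -1 + 4 * (r : K)⁻¹ := by
  simp [sM, aM, vecMulVec_apply, Matrix.mul_apply, Fin.sum_univ_three, Matrix.one_apply,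
    trace_fin_three]
  ring

theorem not_s9 (h : Tri r p γ l c s) {P : Subgroup (GL (Fin 3) K)}
    (hP : P ≤ Subgroup.closure (Set.range s)) (S : S9 P)
    (k : NB (Subgroup.closure (Set.range s)) P) : False := by
  have hl : l = -1 := by
    have m : s 0 ^ 2 ∈ P ⊔ scalars (Fin 3) K := by
      by_cases m : s 0 ∈ P ⊔ scalars (Fin 3) K
      · exact pow_mem m 2
      · rw [pow_two]; exact S.norm2 _ _ (k _ (mem 0)) (k _ (mem 0)) m m
    obtain ⟨κ, hκ, x, hx, e, -⟩ := dec h hP (pow_mem (mem 0) 2) m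
    obtain ⟨e1, e2⟩ := first h hκ 2 e
    generalize κ * c ^ 2 = a at e1 e2
    obtain ⟨b, ab, lb, t1, t2⟩ := hom e1 e2
    have k1 := cube_eq S hx
    rw [t1, t2] at k1
    have b0 : b ≠ 0 := right_ne_zero_of_mul_eq_one ab
    obtain rfl : a = b⁻¹ := eq_inv_of_mul_eq_one_left ab
    have k2 : (l ^ 2 - 1) ^ 3 * (l ^ 2 + 1) = 0 := by
      rw [lb]
      field_simp at k1
      linear_combination k1
    refine neg_of_four h.toAr ?_
    rcases mul_eq_zero.1 k2 with k3 | k3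
    · linear_combination (l ^ 2 + 1) * (pow_eq_zero_iff (by norm_num)).1 k3
    · linear_combination (l ^ 2 - 1) * k3
  have n5 : (5 : K) ≠ 0 := five_ne h.toAr
  obtain ⟨ρ, hρ, t1, t2, -⟩ := three h hl
  have m : s 0 * s 1 * s 2 ∈ Subgroup.closure (Set.range s) :=
    mul_mem (mul_mem (mem 0) (mem 1)) (mem 2)
  rcases S.norm _ (k _ m) with n | n
  swap
  · exact n5 n
  obtain ⟨κ, hκ, x, hx, e1, e2⟩ := dec h hP m n
  have k1 := cube_eq S hx
  rw [tr, tr, e1, e2, trace_smul, trace_smul, smul_eq_mul, smul_eq_mul, mul_pow, mul_pow,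
    ← pow_mul, mul_comm 2, pow_mul, hκ, one_pow, one_mul, one_mul] at k1
  change tr _ ^ 3 = tr _ ^ 3 at k1
  rw [t1, t2] at k1
  have k2 : 3 * (3 - 12 * ρ) ^ 2 + 64 * (γ * ρ ^ 2) ^ 2 = 0 :=
    (mul_eq_zero.1 (show 16 * (γ * ρ ^ 2) * _ = 0 by linear_combination k1)).resolve_left
      (T_ne h.toAr hρ)
  have g := h.gam
  have k3 : 3 * (3 - 12 * ρ) ^ 2 = 64 * ρ ^ 3 := by
    linear_combination k2 - 64 * ρ ^ 4 * g + 64 * ρ ^ 3 * hρ
  have k4 : 27 * (r : K) * (r - 4) ^ 2 = 64 := by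
    linear_combination (r : K) ^ 3 * k3 + (216 * r ^ 2 - 432 * r * (r * ρ + 1) +
      64 * ((r * ρ) ^ 2 + r * ρ + 1)) * hρ
  obtain ⟨rfl, -⟩ := h.pr
  have hp := eq_of h.toAr 14489 (by norm_num) (by push_cast at k4 ⊢; linear_combination k4)
  have m2 : s 0 * s 1 ∈ Subgroup.closure (Set.range s) := mul_mem (mem 0) (mem 1)
  obtain ⟨κ, hκ, x, hx, e1, -⟩ := dec h hP m2 ((S.norm _ (k _ m2)).resolve_right n5)
  obtain ⟨z, u, hz, e2, -, hu⟩ := S.cls x hx
  have hz' : (z : K) ^ 3 = 1 := by rw [← Units.val_pow_eq_pow_val, hz, Units.val_one]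
  have hc := h.neg hl
  subst hl hc
  have k7 := mul_inv_cancel₀ (r_ne h.toAr)
  rw [tr, e1, Units.val_mul, h.eq, h.eq] at e2
  simp only [Matrix.smul_mul, Matrix.mul_smul, trace_smul, tr_two, smul_eq_mul] at e2
  push_cast at k7 e2
  have e3 : 11 * (z * u) = -7 * κ := by linear_combination -11 * e2 + 4 * κ * k7
  have e4 : 1331 * u ^ 3 = -343 := by
    have := congrArg (· ^ 3) e3
    simp only [mul_pow, hz', hκ] at this
    linear_combination this
  have fin : ∀ N : ℕ, (N : K) = 0 → 14489 ∣ N := fun N e => hp ▸ dvd_of h.toAr N e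
  rcases hu with rfl | rfl | rfl | rfl | hu
  · exact absurd (fin 343 (by push_cast; linear_combination e4)) (by norm_num)
  · exact absurd (fin 36280 (by push_cast; linear_combination e4)) (by norm_num)
  · exact absurd (fin 988 (by push_cast; linear_combination -e4)) (by norm_num)
  · exact absurd (fin 1674 (by push_cast; linear_combination e4)) (by norm_num)
  · have e5 : 2662 * u = -1674 := by linear_combination e4 - 1331 * (u + 1) * hu
    exact absurd (fin 172220 (by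
      push_cast; linear_combination 7086244 * hu - (2662 * u - 4336) * e5)) (by norm_num)

theorem h3c : H3cStmt.{u} := fun _ _ _ _ _ _ _ _ _ h _ hP =>
  ⟨fun k => not_s7 h hP k.1 k.2, fun k => not_s9 h hP k.1 k.2, fun k => five_ne h.toAr k.1.five⟩

end Cfsg.Agent.H36.CvH3c
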