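import Cfsg.Agent.H36.Disc2

/-! Root involutions with disconnected commuting graph: elementwise consequences. -/

set_option autoImplicit false

namespace Cfsg.Agent.H36

open Cfsg

universe u

section R1

variable {X Ω : Type*} [Group X] [Finite X] [MulAction X Ω] {ω : Ω} {t : X} {Q : Subgroup X}
  (hS : IsRankOneSetup X Ω ω t Q)
include hS

theorem r1_fix_of_comm {s s' : X} (h1 : s ≠ 1) (h2 : s * s = 1) (h : s' * s = s * s') {c : Ω}
    (hc : s • c = c) : s' • c = c := by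
  obtain ⟨c', -, hc'⟩ := H38.r1_invol_fix hS h1 h2
  rw [hc' (s' • c) (by rw [← mul_smul, ← h, mul_smul, hc]), ← hc' c hc]

theorem r1_comm_of_fix {s s' : X} (h1 : s ≠ 1) (h2 : s * s = 1) (h2' : s' * s' = 1) {c : Ω}
    (hc : s • c = c) (hc' : s' • c = c) : s * s' = s' * s := by
  obtain ⟨g, rfl⟩ := H38.r1_trans hS c
  have k : ∀ y : X, y • g • ω = g • ω → (g⁻¹ * y * g⁻¹⁻¹) • ω = ω := fun y hy => by
    rw [inv_inv, mul_smul, mul_smul, hy, inv_smul_smul]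
  have k2 : ∀ y : X, y * y = 1 → (g⁻¹ * y * g⁻¹⁻¹) * (g⁻¹ * y * g⁻¹⁻¹) = 1 := fun y hy => by
    rw [conj_mul, hy]; simp
  have := H38.r1_invol_central hS (k s hc) (fun e => h1 (conj_eq_one_iff.mp e)) (k2 s h2)
    (H38.r1_invol_mem_Q hS (k s' hc') (k2 s' h2'))
  simpa [mul_assoc] using comm_conj this g

omit [Finite X] in
theorem r1_two_mem {r : X} (hr : r • ω = ω) {k : ℕ} (h : r ^ 2 ^ k = 1) : r ∈ Q := by
  have key : ∀ j : ℕ, r ^ 2 ^ j ∈ Q → r ∈ Q := by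
    intro j
    induction j with
    | zero => simp
    | succ j ih =>
      intro hj
      exact ih (H38.r1_mem_Q_of_sq hS (H38.pow_smul_fix hr _) (by rwa [← pow_two, ← pow_mul, ← pow_succ]))
  exact key k (h ▸ Q.one_mem)

end R1

theorem exists_two_lift {G G' : Type*} [Group G] [Finite G] [Group G'] (f : G →* G')
    (hf : Function.Surjective f) {y : G'} {k : ℕ} (hy : y ^ 2 ^ k = 1) :
    ∃ x : G, (∃ j : ℕ, x ^ 2 ^ j = 1) ∧ f x = y := by
  obtain ⟨g, rfl⟩ := hf y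
  obtain ⟨j, m, hm, e⟩ := Nat.exists_eq_two_pow_mul_odd (orderOf_pos g).ne'
  have hc : m.Coprime (orderOf (f g)) :=
    Nat.Coprime.coprime_dvd_right (orderOf_dvd_of_pow_eq_one hy)
      (Nat.Coprime.pow_right _ (Nat.coprime_two_right.mpr hm))
  obtain ⟨n, hn⟩ := exists_pow_eq_self_of_coprime hc
  refine ⟨(g ^ m) ^ n, ⟨j, ?_⟩, by rw [map_pow, map_pow, hn]⟩
  rw [← pow_mul, ← pow_mul, show m * (n * 2 ^ j) = 2 ^ j * m * n by ring, ← e, pow_mul,
    pow_orderOf_eq_one, one_pow]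

variable {G : Type u} [Group G] {D : Set G}

/-- commuting is an equivalence relation -/
def CE (D : Set G) : Prop := ∀ a ∈ D, ∀ b ∈ D, ∀ c ∈ D, a * b = b * a → b * c = c * b → a * c = c * a

/-- `g` fixes the commuting class of `a` -/
def Nz (g a : G) : Prop := (g * a * g⁻¹) * a = a * (g * a * g⁻¹)

/-- elementwise form of the rank one structure -/
structure DCS (D : Set G) : Prop where
  ce : CE D
  ex : ∀ a ∈ D, ∀ x ∈ D, ∀ y ∈ D, x * a ≠ a * x → y * a ≠ a * y → ∃ r ∈ Subgroup.closure D,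
    (∃ k : ℕ, r ^ 2 ^ k = 1) ∧ Nz r a ∧ (r * x * r⁻¹) * y = y * (r * x * r⁻¹)
  uniq : ∀ a ∈ D, ∀ x ∈ D, x * a ≠ a * x → ∀ r ∈ Subgroup.closure D, ∀ r' ∈ Subgroup.closure D,
    (∃ k : ℕ, r ^ 2 ^ k = 1) → (∃ k : ℕ, r' ^ 2 ^ k = 1) → Nz r a → Nz r' a →
    (r * x * r⁻¹) * (r' * x * r'⁻¹) = (r' * x * r'⁻¹) * (r * x * r⁻¹) → ∀ d ∈ D, Nz (r⁻¹ * r') d

theorem dcs_top [Finite G] (hD : IsRootInvolutionSet D) (hp : HasProd D)
    (hn : ¬ IsConnectedSet (CommAdj D) D) : DCS D := by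
  have hR := RI.of hD
  have h1 := oneClass_of_not_connected hR hn
  let π := QuotientGroup.mk' (twoZCore G)
  have hR' := RI.of (rootInv_quot hD h1 hp)
  have s1 : ∀ d ∈ D, π d ≠ 1 := fun d hd => hR'.ne_one ⟨d, hd, rfl⟩
  have s2 : ∀ d ∈ D, π d * π d = 1 := fun d hd => hR'.sq ⟨d, hd, rfl⟩
  have cq : ∀ a ∈ D, ∀ b ∈ D, π a * π b = π b * π a → a * b = b * a :=
    fun a ha b hb => comm_of_quot hD h1 hp ha hb
  have qc : ∀ a b : G, a * b = b * a → π a * π b = π b * π a := fun a b h => by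
    rw [← map_mul, h, map_mul]
  refine ⟨fun a ha b hb c hc hab hbc => ?_, fun a ha x hx y hy hxa hya => ?_,
    fun a ha x hx hxa r _ r' _ ⟨k, hk⟩ ⟨k', hk'⟩ n n' e d hd => ?_⟩
  · obtain ⟨a₀, ha₀, x₀, hx₀, h0⟩ := exists_not_comm_of_not_connected hn
    obtain ⟨-, H, ω, Q, hS, -⟩ := dc_setup hD hp hn ha₀ hx₀ h0
    obtain ⟨p, hp', -⟩ := H38.r1_invol_fix hS (s1 b hb) (s2 b hb)
    exact cq a ha c hc (r1_comm_of_fix hS (s1 a ha) (s2 a ha) (s2 c hc)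
      (r1_fix_of_comm hS (s1 b hb) (s2 b hb) (qc _ _ hab) hp')
      (r1_fix_of_comm hS (s1 b hb) (s2 b hb) (qc _ _ hbc.symm) hp'))
  · obtain ⟨-, H, ω, Q, hS, hQ, haQ⟩ := dc_setup hD hp hn ha hx hxa
    have ha' : π a • ω = ω := hS.le haQ
    have key : ∀ x ∈ D, x * a ≠ a * x → ∃ p, p ≠ ω ∧ π x • p = p := fun x hx hxa => by
      obtain ⟨p, hp', -⟩ := H38.r1_invol_fix hS (s1 x hx) (s2 x hx)
      exact ⟨p, fun e => hxa (cq x hx a ha (r1_comm_of_fix hS (s1 x hx) (s2 x hx) (s2 a ha)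
        (e ▸ hp') ha')), hp'⟩
    obtain ⟨p, p1, p2⟩ := key x hx hxa
    obtain ⟨p', p1', p2'⟩ := key y hy hya
    obtain ⟨q, hq, e⟩ := H38.r1_Q_reg hS p1 p1'
    obtain ⟨k, hk⟩ := hQ ⟨q, hq⟩
    obtain ⟨r, r1, rfl⟩ := exists_two_lift π (QuotientGroup.mk'_surjective _) (y := q) (k := k)
      (congrArg Subtype.val hk)
    have hx' := hD.conj_mem x hx r
    have ha'' := hD.conj_mem a ha r
    refine ⟨r, by rw [hD.generates]; trivial, r1, cq _ ha'' _ ha ?_, cq _ hx' _ hy ?_⟩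
    · refine r1_comm_of_fix hS (s1 _ ha'') (s2 _ ha'') (s2 _ ha) (hS.le ?_) ha'
      rw [map_mul, map_mul, map_inv]
      exact H38.r1_conj hS (hS.le hq) haQ
    · refine r1_comm_of_fix hS (s1 _ hx') (s2 _ hx') (s2 _ hy) ?_ p2'
      rw [map_mul, map_mul, map_inv, ← e, mul_smul, mul_smul, inv_smul_smul, p2]
  · obtain ⟨-, H, ω, Q, hS, hQ, haQ⟩ := dc_setup hD hp hn ha hx hxa
    have ha' : π a • ω = ω := hS.le haQ
    have key : ∀ (r : G) (k : ℕ), r ^ 2 ^ k = 1 → Nz r a → π r ∈ Q := fun r k hk n => by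
      refine r1_two_mem hS (H38.r1_conj_fix hS haQ (s1 a ha) ?_) (k := k)
        (by rw [← map_pow, hk, map_one])
      have := r1_fix_of_comm hS (s1 a ha) (s2 a ha) (qc _ _ n) ha'
      rwa [map_mul, map_mul, map_inv] at this
    obtain ⟨p, p2, -⟩ := H38.r1_invol_fix hS (s1 x hx) (s2 x hx)
    have p1 : p ≠ ω := fun e => hxa (cq x hx a ha (r1_comm_of_fix hS (s1 x hx) (s2 x hx) (s2 a ha)
        (e ▸ p2) ha'))
    have k2 : ∀ r : G, π (r * x * r⁻¹) • π r • p = π r • p := fun r => by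
      rw [map_mul, map_mul, map_inv, mul_smul, mul_smul, inv_smul_smul, p2]
    have hx1 := hD.conj_mem x hx r
    have hx2 := hD.conj_mem x hx r'
    obtain ⟨p', -, hp'⟩ := H38.r1_invol_fix hS (s1 _ hx1) (s2 _ hx1)
    have e1 : π r = π r' := H38.r1_Q_unique hS (key r k hk n) (key r' k' hk' n') p1
      ((hp' _ (k2 r)).trans (hp' _ (r1_fix_of_comm hS (s1 _ hx2) (s2 _ hx2) (qc _ _ e) (k2 r'))).symm)
    refine cq _ (hD.conj_mem d hd _) _ hd ?_
    simp [e1]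

/-- `D` as a subset of the group it generates -/
theorem RI.sub (hD : RI D) :
    IsRootInvolutionSet (((↑) : Subgroup.closure D → G) ⁻¹' D) := by
  refine ⟨fun d hd => ?_, Subgroup.closure_closure_coe_preimage, fun d hd g => hD.conj_mem g.2 hd,
    fun a ha b hb => ?_⟩
  · rw [← Subgroup.orderOf_coe]; exact hD.ord _ hd
  · rw [← Subgroup.orderOf_coe]
    exact (hD.pair _ ha _ hb).imp_left Subtype.ext

theorem HasProd.sub (hp : HasProd D) : HasProd (((↑) : Subgroup.closure D → G) ⁻¹' D) := by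
  obtain ⟨a, ha, b, hb, h1, h2⟩ := hp
  exact ⟨⟨a, Subgroup.subset_closure ha⟩, ha, ⟨b, Subgroup.subset_closure hb⟩, hb, Subtype.ext h1, h2⟩

theorem not_connected_sub (hn : ¬ IsConnectedSet (CommAdj D) D) :
    ¬ IsConnectedSet (CommAdj (((↑) : Subgroup.closure D → G) ⁻¹' D))
      (((↑) : Subgroup.closure D → G) ⁻¹' D) := fun hc => hn fun a ha b hb =>
  Relation.ReflTransGen.lift (p := CommAdj D) ((↑) : Subgroup.closure D → G)
    (fun _ _ e => ⟨e.1, e.2.1, fun h => e.2.2.1 (Subtype.ext h), congrArg Subtype.val e.2.2.2⟩)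
    _ _ (hc ⟨a, Subgroup.subset_closure ha⟩ ha ⟨b, Subgroup.subset_closure hb⟩ hb)

theorem RI.dcs [Finite G] (hD : RI D) (hp : HasProd D) (hn : ¬ IsConnectedSet (CommAdj D) D) :
    DCS D := by
  have h := dcs_top hD.sub hp.sub (not_connected_sub hn)
  have m := fun (a : G) (ha : a ∈ D) => (Subgroup.subset_closure ha : a ∈ Subgroup.closure D)
  have t : ∀ g : Subgroup.closure D, g ∈ Subgroup.closure (((↑) : Subgroup.closure D → G) ⁻¹' D) :=
    fun g => by rw [Subgroup.closure_closure_coe_preimage]; trivial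
  refine ⟨fun a ha b hb c hc hab hbc => congrArg Subtype.val
    (h.ce ⟨a, m a ha⟩ ha ⟨b, m b hb⟩ hb ⟨c, m c hc⟩ hc (Subtype.ext hab) (Subtype.ext hbc)),
    fun a ha x hx y hy hxa hya => ?_, fun a ha x hx hxa r hr r' hr' ⟨k, hk⟩ ⟨k', hk'⟩ n n' e d hd =>
      congrArg Subtype.val (h.uniq ⟨a, m a ha⟩ ha ⟨x, m x hx⟩ hx
        (fun e => hxa (congrArg Subtype.val e)) ⟨r, hr⟩ (t _) ⟨r', hr'⟩ (t _) ⟨k, Subtype.ext hk⟩
        ⟨k', Subtype.ext hk'⟩ (Subtype.ext n) (Subtype.ext n') (Subtype.ext e) ⟨d, m d hd⟩ hd)⟩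
  obtain ⟨r, -, ⟨k, hk⟩, n, e⟩ := h.ex ⟨a, m a ha⟩ ha ⟨x, m x hx⟩ hx ⟨y, m y hy⟩ hy
    (fun e => hxa (congrArg Subtype.val e)) (fun e => hya (congrArg Subtype.val e))
  exact ⟨r, r.2, ⟨k, congrArg Subtype.val hk⟩, congrArg Subtype.val n, congrArg Subtype.val e⟩

theorem CE.opp (hD : RI D) (h : CE D) {a b : G} (ha : a ∈ D) (hb : b ∈ D) (hab : a * b ≠ b * a) :
    Opp a b := by
  by_contra hn
  obtain ⟨h1, h2, h3, -⟩ := hD.comm_facts ha hb hn hab
  exact hab (h a ha _ h1 b hb h2.symm h3)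

end Cfsg.Agent.H36
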