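import Cfsg.Agent.H35.L3Defs
import Cfsg.Agent.H73.Descent

/-! Standard subgroups of type `L₃(q)`: tools for the fusion of the involution. -/

set_option autoImplicit false

namespace Cfsg.Agent.H36.L3F

open Cfsg Cfsg.Agent.H63 Cfsg.Agent.H63.SL Cfsg.Agent.H35.L3 Subgroup
open Cfsg.Agent.H8 (IsSylowIn)
open scoped commutatorElement

universe u v

section general

variable {G : Type u} [Group G]

theorem mem_cj {g x : G} {H : Subgroup G} : x ∈ cj g H ↔ g⁻¹ * x * g ∈ H := H8.mem_conj_smul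

theorem cj_mem {g x : G} {H : Subgroup G} : g * x * g⁻¹ ∈ cj g H ↔ x ∈ H :=
  H8.conj_mem_conj_smul

theorem card_cj (g : G) (H : Subgroup G) : Nat.card (cj g H) = Nat.card H := H8.card_conj_smul H g

theorem card_le_of_fib [Finite G] {Y : Type*} [Finite Y] (P Z : Subgroup G) (r : G → Y → Prop)
    (ex : ∀ p ∈ P, ∃ y, r p y) (h : ∀ p ∈ P, ∀ p' ∈ P, ∀ y, r p y → r p' y → p⁻¹ * p' ∈ Z) :
    Nat.card P ≤ Nat.card Y * Nat.card Z := by
  choose f hf using fun p : P => ex p p.2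
  obtain ⟨s, k⟩ : ∃ s : Y → P, ∀ p, f (s (f p)) = f p :=
    ⟨Function.invFun f, fun p => Function.invFun_eq ⟨p, rfl⟩⟩
  rw [← Nat.card_prod]
  refine Nat.card_le_card_of_injective (fun p : P => ((f p, ⟨(s (f p) : G)⁻¹ * p,
    h _ (SetLike.coe_mem _) _ p.2 (f p) (by simpa only [k] using hf (s (f p)))
      (hf p)⟩) : Y × Z)) fun p p' e => ?_
  have e1 : f p = f p' := congrArg Prod.fst e
  have e2 : (s (f p) : G)⁻¹ * p = (s (f p') : G)⁻¹ * p' :=
    congrArg (fun z : Y × Z => (z.2 : G)) e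
  rw [e1] at e2
  exact Subtype.ext (mul_left_cancel e2)

theorem comm_of_sq {V : Subgroup G} (h : ∀ v ∈ V, v * v = 1) {a b : G} (ha : a ∈ V) (hb : b ∈ V) :
    a * b = b * a := by
  have := h _ (mul_mem ha hb)
  rw [← inv_eq_of_mul_eq_one_right this, mul_inv_rev, inv_eq_of_mul_eq_one_right (h a ha),
    inv_eq_of_mul_eq_one_right (h b hb)]

theorem mem_tsup {t p : G} {V : Subgroup G} (tt : t * t = 1) (hn : t ∈ N[V]) :
    p ∈ zpowers t ⊔ V ↔ p ∈ V ∨ t * p ∈ V := by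
  have ti : t⁻¹ = t := inv_eq_of_mul_eq_one_right tt
  have hc : ∀ v ∈ V, t * v * t ∈ V := fun v hv => by
    simpa only [ti] using (mem_normalizer_iff.1 hn v).1 hv
  have t2 : ∀ g, t * (t * g) = g := fun g => by rw [← mul_assoc, tt, one_mul]
  let H : Subgroup G :=
    { carrier := {p | p ∈ V ∨ t * p ∈ V}
      one_mem' := Or.inl (one_mem _)
      mul_mem' := by
        rintro a b (ha | ha) (hb | hb)
        · exact Or.inl (mul_mem ha hb)
        · exact Or.inr (by simpa only [mul_assoc, t2] using mul_mem (hc a ha) hb)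
        · exact Or.inr (by simpa only [mul_assoc] using mul_mem ha hb)
        · exact Or.inl (by simpa only [mul_assoc, t2] using mul_mem (hc _ ha) hb)
      inv_mem' := by
        rintro a (ha | ha)
        · exact Or.inl (inv_mem ha)
        · have := hc _ (inv_mem ha)
          exact Or.inr (by simpa only [mul_inv_rev, ti, mul_assoc, tt, mul_one] using this) }
  refine ⟨fun h => (sup_le (zpowers_le.2 (Or.inr (tt ▸ one_mem V))) fun _ h => Or.inl h :
    zpowers t ⊔ V ≤ H) h, ?_⟩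
  rintro (h | h)
  · exact mem_sup_right h
  · have := mul_mem (mem_sup_left (mem_zpowers t) : t ∈ zpowers t ⊔ V) (mem_sup_right h)
    rwa [← mul_assoc, tt, one_mul] at this

theorem card_tsup [Finite G] {t : G} {V : Subgroup G} (h : t ∉ V) :
    2 * Nat.card V ≤ Nat.card ↥(zpowers t ⊔ V) := by
  have h1 := card_dvd_of_le (le_sup_right : V ≤ zpowers t ⊔ V)
  have h2 : Nat.card V ≠ Nat.card ↥(zpowers t ⊔ V) := fun e =>
    h ((eq_of_le_of_card_ge (le_sup_right : V ≤ zpowers t ⊔ V) e.ge).symm ▸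
      mem_sup_left (mem_zpowers t))
  obtain ⟨k, hk⟩ := h1
  have h3 : 0 < Nat.card ↥(zpowers t ⊔ V) := Nat.card_pos
  rw [hk] at h2 h3 ⊢
  have : 2 ≤ k := by
    rcases k with _ | _ | k
    · simp at h3
    · simp at h2
    · omega
  rw [mul_comm]; exact Nat.mul_le_mul_left _ this

theorem is2_of_mem {P : Subgroup G} (h : IsPGroup 2 P) {g : G} (hg : g ∈ P) : Is2 g := by
  obtain ⟨k, hk⟩ := h ⟨g, hg⟩
  exact ⟨k, congrArg Subtype.val hk⟩

theorem Dt_conj {t d : G} (h : d ∈ Dt t) (g : G) : g * d * g⁻¹ ∈ Dt t := by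
  obtain ⟨k, rfl⟩ := h
  exact ⟨g * k, by group⟩

theorem Dt_sq {t d : G} (tt : t * t = 1) (h : d ∈ Dt t) : d * d = 1 := by
  obtain ⟨k, rfl⟩ := h
  rw [conj_mul, tt, mul_one, mul_inv_cancel]

end general

section fields

variable {A : Type v} [Field A] [Finite A]

theorem aut_eq {φ σ : A ≃+* A} (h1 : ∀ a, φ (φ a) = a) (h2 : ∀ a, σ (σ a) = a) (h3 : σ ≠ 1) :
    φ = 1 ∨ φ = σ := by
  classical
  by_contra h
  push Not at h
  have : IsCyclic (A ≃+* A) := H73.isCyclic_ringAut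
  have : Finite (A ≃+* A) := Finite.of_injective _ (DFunLike.coe_injective (F := A ≃+* A))
  have := Fintype.ofFinite (A ≃+* A)
  have k := IsCyclic.card_pow_eq_one_le (α := A ≃+* A) (n := 2) two_pos
  have k2 : ({1, φ, σ} : Finset (A ≃+* A)) ⊆ Finset.univ.filter fun a => a ^ 2 = 1 := by
    intro a ha
    simp only [Finset.mem_insert, Finset.mem_singleton] at ha
    rw [Finset.mem_filter, pow_two]
    rcases ha with rfl | rfl | rfl
    exacts [⟨Finset.mem_univ _, mul_one _⟩, ⟨Finset.mem_univ _, RingEquiv.ext h1⟩,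
      ⟨Finset.mem_univ _, RingEquiv.ext h2⟩]
  have k3 := Finset.card_le_card k2
  rw [Finset.card_eq_three.2 ⟨1, φ, σ, h.1.symm, h3.symm, h.2, rfl⟩] at k3
  omega

theorem card_aut : Nat.card (A ≃+* A) ≤ Nat.card A := by
  obtain ⟨g, hg⟩ := IsCyclic.exists_monoid_generator (α := Aˣ)
  refine Nat.card_le_card_of_injective (fun φ : A ≃+* A => φ g) fun φ ψ e => RingEquiv.ext fun a => ?_
  by_cases ha : a = 0
  · rw [ha, map_zero, map_zero]
  · obtain ⟨j, hj⟩ := hg (Units.mk0 a ha)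
    have e1 : a = (g : A) ^ j := by simpa using (congrArg Units.val hj).symm
    rw [e1, map_pow, map_pow]
    exact congrArg (· ^ j) e

end fields

section pin

variable {B : Type v} [Field B] {G : Type u} [Group G] {z : Fin 3 → Fin 3 → B → G}

/-- The normal form in `U3 z`. -/
def nf (z : Fin 3 → Fin 3 → B → G) (a b c : B) : G := z 0 1 a * z 1 2 b * z 0 2 c

theorem add_self (s : St3 z) (a : B) : a + a = 0 := by rw [← two_mul, s.two, zero_mul]

theorem z0 (s : St3 z) {i j : Fin 3} (h : i ≠ j) : z i j 0 = 1 := by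
  have := s.add i j h 0 0
  rw [add_zero] at this
  exact mul_eq_left.1 this.symm

theorem nf_a (s : St3 z) (a : B) : z 0 1 a = nf z a 0 0 := by
  rw [nf, z0 s (i := 1) (by decide), z0 s (i := 0) (j := 2) (by decide), mul_one, mul_one]

theorem nf_b (s : St3 z) (b : B) : z 1 2 b = nf z 0 b 0 := by
  rw [nf, z0 s (j := 1) (by decide), z0 s (i := 0) (j := 2) (by decide), mul_one, one_mul]

theorem nf_c (s : St3 z) (c : B) : z 0 2 c = nf z 0 0 c := by
  rw [nf, z0 s (j := 1) (by decide), z0 s (i := 1) (j := 2) (by decide), mul_one, one_mul]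

theorem nf_0 (s : St3 z) : nf z 0 0 0 = 1 := by rw [← nf_c s, z0 s (by decide)]

theorem nf_mul (p : Pin3 z) (a b c a' b' c' : B) :
    nf z a b c * nf z a' b' c' = nf z (a + a') (b + b') (c + c' + a' * b) :=
  p.mul 0 1 2 (by decide) (by decide) (by decide) a b c a' b' c'

theorem nf_inj (p : Pin3 z) {a b c a' b' c' : B} (h : nf z a b c = nf z a' b' c') :
    a = a' ∧ b = b' ∧ c = c' :=
  p.uniq 0 1 2 (by decide) (by decide) (by decide) a b c a' b' c' h

theorem mem_U (p : Pin3 z) {g : G} : g ∈ U3 z ↔ ∃ a b c, g = nf z a b c :=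
  p.memY 0 1 2 (by decide) (by decide) (by decide) g

theorem nf_mem (p : Pin3 z) (a b c : B) : nf z a b c ∈ U3 z := (mem_U p).2 ⟨a, b, c, rfl⟩

theorem mem_R (s : St3 z) (p : Pin3 z) {g : G} : g ∈ Row z 0 ↔ ∃ a c, g = nf z a 0 c := by
  simp only [nf, z0 s (i := 1) (j := 2) (by decide), mul_one]
  exact p.memR 0 1 2 (by decide) (by decide) (by decide) g

theorem mem_C (s : St3 z) (p : Pin3 z) {g : G} : g ∈ Col z 2 ↔ ∃ b c, g = nf z 0 b c := by
  simp only [nf, z0 s (i := 0) (j := 1) (by decide), one_mul]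
  exact p.memC 0 1 2 (by decide) (by decide) (by decide) g

theorem mem_Z (s : St3 z) (p : Pin3 z) {g : G} : g ∈ X3 z 0 2 ↔ ∃ c, g = nf z 0 0 c := by
  simp only [← nf_c s]
  exact p.memX 0 2 (by decide) g

theorem nf_sq (s : St3 z) (p : Pin3 z) (a b c : B) :
    nf z a b c * nf z a b c = nf z 0 0 (a * b) := by
  rw [nf_mul p, add_self s, add_self s, add_self s, zero_add]

theorem R_sq (s : St3 z) (p : Pin3 z) : ∀ v ∈ Row z 0, v * v = 1 := fun v hv => by
  obtain ⟨a, c, rfl⟩ := (mem_R s p).1 hv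
  rw [nf_sq s p, mul_zero, nf_0 s]

theorem C_sq (s : St3 z) (p : Pin3 z) : ∀ v ∈ Col z 2, v * v = 1 := fun v hv => by
  obtain ⟨a, c, rfl⟩ := (mem_C s p).1 hv
  rw [nf_sq s p, zero_mul, nf_0 s]

omit [Field B] in
theorem R_le : Row z 0 ≤ U3 z := le_sup_left

omit [Field B] in
theorem C_le : Col z 2 ≤ U3 z := le_sup_right

theorem Z_le_R (s : St3 z) (p : Pin3 z) : X3 z 0 2 ≤ Row z 0 := fun g hg => by
  obtain ⟨c, rfl⟩ := (mem_Z s p).1 hg
  exact (mem_R s p).2 ⟨0, c, rfl⟩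

theorem sq_one (s : St3 z) (p : Pin3 z) {a b c : B} (h : nf z a b c * nf z a b c = 1) :
    a = 0 ∨ b = 0 := by
  rw [nf_sq s p, ← nf_0 s] at h
  exact mul_eq_zero.1 (nf_inj p h).2.2

theorem nf_comm (p : Pin3 z) {a b c a' b' c' : B} :
    nf z a b c * nf z a' b' c' = nf z a' b' c' * nf z a b c ↔ a' * b = a * b' := by
  rw [nf_mul p, nf_mul p]
  refine ⟨fun h => ?_, fun h => by rw [h, add_comm a, add_comm b, add_comm c, ← h]⟩
  have := (nf_inj p h).2.2
  rw [add_comm c] at this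
  exact add_left_cancel this

theorem Z_comm (s : St3 z) (p : Pin3 z) {c u : G} (hc : c ∈ X3 z 0 2) (hu : u ∈ U3 z) :
    c * u = u * c := by
  obtain ⟨c, rfl⟩ := (mem_Z s p).1 hc
  obtain ⟨a, b, e, rfl⟩ := (mem_U p).1 hu
  rw [nf_comm p, mul_zero, zero_mul]

theorem nf_commutator (s : St3 z) (p : Pin3 z) (a b c a' b' c' : B) :
    ⁅nf z a b c, nf z a' b' c'⁆ = nf z 0 0 (a * b' + a' * b) := by
  rw [commutatorElement_def, mul_assoc, ← mul_inv_rev, mul_inv_eq_iff_eq_mul, nf_mul p, nf_mul p,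
    nf_mul p]
  congr 1
  · ring
  · ring
  · linear_combination (-(a * b')) * s.two

/-- The action in coordinates. -/
theorem act_true (s : St3 z) (p : Pin3 z) {g : G} {φ : B ≃+* B} (h : Act z g true φ) :
    ∃ (c1 c2 : Bˣ) (e1 e2 : B → B), ∀ a b c, g * nf z a b c * g⁻¹ =
      nf z (c2 * φ b) (c1 * φ a) (e1 a + e2 b + c1 * c2 * φ (c + a * b)) := by
  obtain ⟨c1, c2, h1, h2, h3⟩ := h
  choose e1 h1 using h1
  choose e2 h2 using h2
  refine ⟨c1, c2, e1, e2, fun a b c => ?_⟩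
  rw [nf, ← conj_mul, ← conj_mul, h1, h2, h3]
  show z 1 2 _ * _ * (z 0 1 _ * _) * _ = _
  simp only [nf_a s, nf_b s, nf_c s, nf_mul p, add_zero, zero_add, map_add, map_mul]
  congr 1
  ring

theorem act_Z (s : St3 z) (p : Pin3 z) {g : G} {ε : Bool} {φ : B ≃+* B} (h : Act z g ε φ)
    (hc : g ∈ C[X3 z 0 2]) : φ = 1 := by
  obtain ⟨c1, c2, -, -, h3⟩ := h
  have k : ∀ a, (c1 * c2 : B) * φ a = a := fun a => by
    have := h3 a
    rw [← hc _ ((p.memX 0 2 (by decide) _).2 ⟨a, rfl⟩), mul_inv_cancel_right, nf_c s, nf_c s] at this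
    exact (nf_inj p this).2.2.symm
  have k1 := k 1
  rw [map_one, mul_one] at k1
  exact RingEquiv.ext fun a => show φ a = a by simpa only [k1, one_mul] using k a

theorem act_V (s : St3 z) (p : Pin3 z) {g : G} {φ : B ≃+* B} (h : Act z g true φ)
    (hn : g ∈ N[Row z 0] ∨ g ∈ N[Col z 2]) : False := by
  obtain ⟨c1, c2, e1, e2, h⟩ := act_true s p h
  rcases hn with hn | hn
  · obtain ⟨a, c, e⟩ := (mem_R s p).1
      ((mem_normalizer_iff.1 hn _).1 ((mem_R s p).2 ⟨1, 0, rfl⟩))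
    rw [h] at e
    simpa using (nf_inj p e).2.1
  · obtain ⟨a, c, e⟩ := (mem_C s p).1
      ((mem_normalizer_iff.1 hn _).1 ((mem_C s p).2 ⟨1, 0, rfl⟩))
    rw [h] at e
    simpa using (nf_inj p e).1

theorem act_NZ [Finite G] (p : Pin3 z) {g : G} {ε : Bool} {φ : B ≃+* B} (h : Act z g ε φ) :
    g ∈ N[X3 z 0 2] := by
  obtain ⟨c1, c2, -, -, h3⟩ := h
  refine mem_normalizer_fintype fun c hc => ?_
  obtain ⟨a, rfl⟩ := (p.memX 0 2 (by decide) _).1 hc
  exact (p.memX 0 2 (by decide) _).2 ⟨_, h3 a⟩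

theorem act_sq (s : St3 z) (p : Pin3 z) {g : G} {ε : Bool} {φ : B ≃+* B} (h : Act z g ε φ)
    (gg : g * g = 1) (a : B) : φ (φ a) = a := by
  obtain ⟨c1, c2, -, -, h3⟩ := h
  have k : ∀ a, (c1 * c2 : B) * φ (c1 * c2 * φ a) = a := fun a => by
    have : g * (g * z 0 2 a * g⁻¹) * g⁻¹ = z 0 2 a := by
      rw [show g * (g * z 0 2 a * g⁻¹) * g⁻¹ = g * g * z 0 2 a * (g * g)⁻¹ by group, gg]; group
    rw [h3, h3, nf_c s, nf_c s] at this
    exact (nf_inj p this).2.2
  have k1 := k 1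
  have k2 := k a
  rw [map_one, mul_one] at k1
  rwa [map_mul, ← mul_assoc, k1, one_mul] at k2

end pin

end Cfsg.Agent.H36.L3F
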