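import Cfsg.Agent.H9.FXDefs
import Cfsg.Agent.S3224

/-!
Assembly of the fixity four theorem from the transfer template and the two local pieces.
-/

set_option autoImplicit false

namespace Cfsg.Agent.H36.FX

open Subgroup MulAction Cfsg.Agent.H9.FX
open scoped Pointwise

universe u v

theorem eq_inv_of_odd {H : Type*} [Group H] {n x : H} (hn : Odd (orderOf n))
    (h : n * x * n⁻¹ = x⁻¹) : x = x⁻¹ := by
  have h2 : Commute (n ^ 2) x := by
    have h' : n * x⁻¹ * n⁻¹ = x := by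
      have := congrArg (·⁻¹) h
      simpa [mul_assoc] using this
    have : n ^ 2 * x * (n ^ 2)⁻¹ = x := by
      calc n ^ 2 * x * (n ^ 2)⁻¹ = n * (n * x * n⁻¹) * n⁻¹ := by rw [pow_two]; group
        _ = x := by rw [h, h']
    exact (mul_inv_eq_iff_eq_mul.mp this)
  obtain ⟨k, hk⟩ := hn
  have h3 : n = (n ^ 2) ^ (k + 1) := by
    rw [← pow_mul, show 2 * (k + 1) = orderOf n + 1 by omega, pow_succ, pow_orderOf_eq_one,
      one_mul]
  have h4 : Commute n x := by rw [h3]; exact h2.pow_left _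
  rw [← h, h4.eq, mul_inv_cancel_right]

theorem exists_index {H : Type*} [Group H] [Finite H] {p : ℕ} [hp : Fact p.Prime]
    (h1 : p ∣ Nat.card H) (h2 : ¬ p ^ 2 ∣ Nat.card H)
    (hN : ∀ q n : H, orderOf q = p → n * q * n⁻¹ ∈ zpowers q → n * q * n⁻¹ = q) :
    ∃ H₀ : Subgroup H, H₀.Normal ∧ H₀.index = p := by
  obtain ⟨q, hq⟩ := exists_prime_orderOf_dvd_card' p h1
  have hc : Nat.card (zpowers q) = p := by rw [Nat.card_zpowers, hq]
  have hf : (Nat.card H).factorization p = 1 := by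
    have h0 : Nat.card H ≠ 0 := Nat.card_pos.ne'
    have a1 : 1 ≤ (Nat.card H).factorization p :=
      (hp.out.pow_dvd_iff_le_factorization h0).mp (by simpa using h1)
    have a2 : ¬ 2 ≤ (Nat.card H).factorization p := fun h =>
      h2 ((hp.out.pow_dvd_iff_le_factorization h0).mpr h)
    omega
  let Q : Sylow p H := Sylow.ofCard (zpowers q) (by rw [hc, hf, pow_one])
  have hQ : (Q : Subgroup H) = zpowers q := rfl
  have hP : normalizer ((Q : Subgroup H) : Set H) ≤ centralizer ((Q : Subgroup H) : Set H) := by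
    intro n hn
    rw [hQ] at hn ⊢
    have h3 := hN q n hq ((mem_normalizer_iff.mp hn q).mp (mem_zpowers q))
    have h4 : Commute n q := mul_inv_eq_iff_eq_mul.mp h3
    rw [mem_centralizer_iff]
    rintro _ ⟨i, rfl⟩
    exact (h4.zpow_right i).eq.symm
  refine ⟨(MonoidHom.transferSylow Q hP).ker, inferInstance, ?_⟩
  rw [(MonoidHom.ker_transferSylow_isComplement' Q hP).symm.index_eq_card, hQ, hc]

variable {G : Type u} {Ω : Type v} [Group G] [MulAction G Ω]

theorem odd_of_stab [Finite G] [Finite Ω] (hodd : ∀ ω : Ω, Odd (Nat.card (stabilizer G ω)))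
    {g : G} {A : Set Ω} (hA : ∀ ω ∈ A, g • ω ∈ A) (hc : Odd (Nat.card A)) :
    Odd (orderOf g) := by
  classical
  by_contra h
  rw [Nat.not_odd_iff_even] at h
  obtain ⟨k, hk⟩ := h
  have h0 : 0 < orderOf g := orderOf_pos g
  have hk0 : k ≠ 0 := by omega
  have ht : orderOf (g ^ k) = 2 := by
    rw [orderOf_pow' g hk0, hk, ← two_mul, Nat.gcd_mul_left_left, Nat.mul_div_cancel _ (by omega)]
  have hA' : ∀ j : ℕ, ∀ ω ∈ A, g ^ j • ω ∈ A := by
    intro j
    induction j with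
    | zero => intro ω hω; simpa using hω
    | succ j ih => intro ω hω; rw [pow_succ', mul_smul]; exact hA _ (ih ω hω)
  let f : Function.End A := fun ω => ⟨g ^ k • (ω : Ω), hA' k ω ω.2⟩
  have hf : f ^ 2 ^ 1 = 1 := by
    funext ω
    apply Subtype.ext
    change g ^ k • g ^ k • (ω : Ω) = ω
    rw [← mul_smul, ← pow_add, ← hk, pow_orderOf_eq_one, one_smul]
  haveI := Fintype.ofFinite A
  haveI : Fact (Nat.Prime 2) := ⟨Nat.prime_two⟩
  have hm := Equiv.Perm.card_fixedPoints_modEq hf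
  rw [Nat.card_eq_fintype_card, Nat.odd_iff] at hc
  have hpos : 0 < Fintype.card (Function.fixedPoints f) := by
    unfold Nat.ModEq at hm
    omega
  obtain ⟨⟨ω, hω⟩⟩ := Fintype.card_pos_iff.mp hpos
  have hω' : g ^ k • (ω : Ω) = ω := congrArg Subtype.val hω
  have h2 : 2 ∣ Nat.card (stabilizer G (ω : Ω)) := by
    rw [← ht]
    exact Subgroup.orderOf_dvd_natCard _ hω'
  have := hodd ω
  rw [Nat.odd_iff] at this
  omega

theorem card_modEq_zpowers [Finite Ω] {p : ℕ} [Fact p.Prime] {y : G} (hy : orderOf y = p) :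
    Nat.card Ω ≡ Nat.card (fixedBy Ω y) [MOD p] := by
  have hP : IsPGroup p (zpowers y) := IsPGroup.of_card (n := 1) (by rw [Nat.card_zpowers, hy, pow_one])
  have h := hP.card_modEq_card_fixedPoints Ω
  have he : fixedPoints (zpowers y) Ω = fixedBy Ω y := by
    ext ω
    rw [mem_fixedPoints, mem_fixedBy]
    constructor
    · intro h1; exact h1 ⟨y, mem_zpowers y⟩
    · rintro h1 ⟨_, i, rfl⟩
      exact (stabilizer G ω).zpow_mem (show y ∈ stabilizer G ω from h1) i
  rwa [he] at h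

theorem fixedBy_conj (g k : G) : fixedBy Ω (g * k * g⁻¹) = g • fixedBy Ω k :=
  (smul_fixedBy Ω k g).symm

theorem gen (hT : TStmt.{u}) [Finite G] [Finite Ω] [FaithfulSMul G Ω] [IsPretransitive G Ω]
    (hperf : _root_.commutator G = ⊤) (p : ℕ) [hp : Fact p.Prime] (x : G) (hx : orderOf x = p)
    (hne : (fixedBy Ω x).Nonempty)
    (hmax : ∀ y : G, orderOf y = p → Nat.card (fixedBy Ω y) ≤ Nat.card (fixedBy Ω x))
    (hsq : ¬ p ^ 2 ∣ (Nat.card (fixedBy Ω x)).factorial)
    (hN : ∀ n q : stabilizer G (fixedBy Ω x), orderOf (toPermHom _ (fixedBy Ω x) q) = p →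
      toPermHom _ (fixedBy Ω x) (n * q * n⁻¹) ∈ zpowers (toPermHom _ (fixedBy Ω x) q) →
      toPermHom _ (fixedBy Ω x) (n * q * n⁻¹) = toPermHom _ (fixedBy Ω x) q) :
    (∃ H : Subgroup G, H ≠ ⊤ ∧ p ∣ Nat.card H ∧
      ∀ g : G, g ∉ H → ¬ p ∣ Nat.card ↥(H ⊓ H.map (MulAut.conj g).toMonoidHom)) ∨
    (p ≤ Nat.card (fixedBy Ω x) ∧ ∃ P : Sylow p G, ∃ y ∈ (P : Subgroup G), orderOf y = p ∧
      Nat.card (fixedBy Ω y) = Nat.card (fixedBy Ω x) ∧
      Nat.card ↥((P : Subgroup G) ⊓ centralizer ({y} : Set G)) = p ^ 2 ∧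
      (∀ z ∈ (P : Subgroup G) ⊓ centralizer ({y} : Set G), z ^ p = 1) ∧
      ∃ s ∈ (P : Subgroup G), ∃ ω ∈ fixedBy Ω y, s • ω ≠ ω) := by
  classical
  set Δ : Set Ω := fixedBy Ω x with hΔ
  let M : Subgroup G := stabilizer G Δ
  let π : M →* Equiv.Perm Δ := toPermHom M Δ
  let K : Subgroup G := π.ker.map M.subtype
  have hKM : K ≤ M := map_subtype_le _
  have hK : ∀ k : G, k ∈ K ↔ ∀ ω ∈ Δ, k • ω = ω := by
    intro k
    constructor
    · rintro ⟨m, hm, rfl⟩ ω hω
      have : π m ⟨ω, hω⟩ = ⟨ω, hω⟩ := by rw [(MonoidHom.mem_ker).mp hm]; rfl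
      exact congrArg Subtype.val this
    · intro h
      have hk : k ∈ M := by
        rw [mem_stabilizer_iff]
        ext ω
        constructor
        · rintro ⟨ω', h', rfl⟩
          change k • ω' ∈ Δ
          rw [h ω' h']; exact h'
        · intro h'; exact ⟨ω, h', h ω h'⟩
      refine ⟨⟨k, hk⟩, ?_, rfl⟩
      rw [SetLike.mem_coe, MonoidHom.mem_ker]
      ext ω
      exact h ω ω.2
  have hxK : x ∈ K := (hK x).mpr fun ω hω => hω
  have hfix : ∀ k ∈ K, orderOf k = p → fixedBy Ω k = Δ := by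
    intro k hk hkp
    symm
    refine Set.eq_of_subset_of_ncard_le (fun ω hω => (hK k).mp hk ω hω) ?_ (Set.toFinite _)
    have := hmax k hkp
    rwa [Nat.card_coe_set_eq, Nat.card_coe_set_eq] at this
  have hTI : ∀ g k : G, k ∈ K → orderOf k = p → g * k * g⁻¹ ∈ K → g ∈ M := by
    intro g k hk hkp hg
    have h1 := hfix _ hg (by rw [← hkp]; exact (MulAut.conj g).orderOf_eq k)
    rw [fixedBy_conj, hfix k hk hkp] at h1
    exact h1
  have hMtop : M ≠ ⊤ := by
    intro h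
    obtain ⟨ω, hω⟩ := hne
    have : x = 1 := by
      refine eq_of_smul_eq_smul (α := Ω) fun ω' => ?_
      obtain ⟨g, rfl⟩ := exists_smul_eq G ω ω'
      have hg : g ∈ M := h ▸ mem_top g
      have : g • ω ∈ Δ := by
        rw [← mem_stabilizer_iff.mp hg]; exact Set.smul_mem_smul_set hω
      rw [one_smul]; exact this
    rw [this, orderOf_one] at hx
    exact hp.out.one_lt.ne hx
  have hrel : K.relIndex M = Nat.card π.range := by
    rw [relIndex, subgroupOf, comap_map_eq_self_of_injective M.subtype_injective, index_ker]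
  have hpK : p ∣ Nat.card K := by
    have := orderOf_dvd_natCard (⟨x, hxK⟩ : K)
    rwa [Subgroup.orderOf_mk, hx] at this
  by_cases hd : p ∣ Nat.card π.range
  swap
  · left
    have hin : ∀ y ∈ M, orderOf y = p → y ∈ K := by
      intro y hy hyp
      refine ⟨⟨y, hy⟩, ?_, rfl⟩
      rw [SetLike.mem_coe, MonoidHom.mem_ker]
      have h1 : orderOf (π ⟨y, hy⟩) ∣ p := by
        rw [← hyp, ← Subgroup.orderOf_mk y hy]; exact orderOf_map_dvd π _
      rcases (Nat.dvd_prime hp.out).mp h1 with h2 | h2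
      · exact orderOf_eq_one_iff.mp h2
      · exfalso
        apply hd
        rw [← h2]
        exact Subgroup.orderOf_dvd_natCard _ ⟨_, rfl⟩
    refine ⟨M, hMtop, hpK.trans (card_dvd_of_le hKM), fun g hg h => hg ?_⟩
    obtain ⟨⟨y, hy1, z, hz, hzy⟩, hy⟩ := exists_prime_orderOf_dvd_card' p h
    replace hy : orderOf y = p := (Subgroup.orderOf_coe _).trans hy
    have hzy' : g * z * g⁻¹ = y := hzy
    have hzp : orderOf z = p := by
      rw [← hy, ← hzy']; exact ((MulAut.conj g).orderOf_eq z).symm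
    exact hTI g z (hin z hz hzp) hzp (hzy' ▸ hin y hy1 hy)
  right
  have hdv : Nat.card π.range ∣ (Nat.card Δ).factorial := by
    rw [← Nat.card_perm]; exact card_subgroup_dvd_card _
  have hsq' : ¬ p ^ 2 ∣ Nat.card π.range := fun h => hsq (h.trans hdv)
  refine ⟨(hp.out.dvd_factorial).mp (hd.trans hdv), ?_⟩
  obtain ⟨H₀, hH₀n, hH₀⟩ := exists_index hd hsq' (by
    rintro ⟨_, q, rfl⟩ ⟨_, n, rfl⟩ hq hn
    apply Subtype.ext
    replace hq : orderOf (π q) = p := (Subgroup.orderOf_coe _).trans hq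
    have h1 : π (n * q * n⁻¹) = π q := hN n q hq (by
      obtain ⟨i, hi⟩ := hn
      refine ⟨i, ?_⟩
      have : π q ^ i = π n * π q * (π n)⁻¹ := congrArg Subtype.val hi
      change π q ^ i = π (n * q * n⁻¹)
      rw [this, map_mul, map_mul, map_inv])
    rw [map_mul, map_mul, map_inv] at h1
    exact h1)
  let N₀ : Subgroup M := H₀.comap π.rangeRestrict
  haveI : N₀.Normal := hH₀n.comap _
  let M₀ : Subgroup G := N₀.map M.subtype
  have hM₀ : M₀.relIndex M = p := by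
    rw [relIndex, subgroupOf, comap_map_eq_self_of_injective M.subtype_injective,
      index_comap_of_surjective _ π.rangeRestrict_surjective, hH₀]
  have hKM₀ : K ≤ M₀ := by
    refine map_mono fun m hm => ?_
    have : π.rangeRestrict m = 1 := Subtype.ext hm
    change π.rangeRestrict m ∈ H₀
    rw [this]; exact H₀.one_mem
  have hM₀M : M₀ ≤ M := map_subtype_le _
  have hnorm : ∀ L : Subgroup M, L.Normal → M ≤ normalizer ((L.map M.subtype : Subgroup G) : Set G) := by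
    intro L hL
    have := (normal_subgroupOf_iff_le_normalizer (map_subtype_le L)).mp (by
      rw [subgroupOf, comap_map_eq_self_of_injective M.subtype_injective]; exact hL)
    exact this
  have hnd : ¬ p ∣ K.relIndex M₀ := by
    intro h
    apply hsq'
    rw [← hrel, ← relIndex_mul_relIndex K M₀ M hKM₀ hM₀M, hM₀, pow_two]
    exact Nat.mul_dvd_mul_right h p
  obtain ⟨Q⟩ : Nonempty (Sylow p M) := inferInstance
  obtain ⟨P, hP⟩ := Q.exists_comap_subtype_eq
  have hPM : ¬ p ∣ ((P : Subgroup G) ⊓ M).relIndex M := by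
    rw [inf_relIndex_right, relIndex, subgroupOf, hP]
    exact Q.not_dvd_index
  obtain ⟨y, hyP, hyp, ⟨g, hg⟩, hc, he⟩ := hT G p P K M₀ M hperf hKM₀ hM₀M
    (hnorm _ inferInstance) (hnorm _ inferInstance) hM₀ hnd hpK hPM hTI
  have hgy : g • fixedBy Ω y = Δ := by
    rw [← fixedBy_conj]
    exact hfix _ hg (by rw [← hyp]; exact (MulAut.conj g).orderOf_eq y)
  refine ⟨P, y, hyP, hyp, ?_, hc, he, ?_⟩
  · rw [← hgy, Nat.card_coe_set_eq, Nat.card_coe_set_eq, Set.ncard_smul_set]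
  · by_contra hcon
    push Not at hcon
    have hle : ((g • P : Sylow p G) : Subgroup G) ≤ K := by
      rintro _ ⟨s, hs, rfl⟩
      rw [hK]
      intro ω hω
      rw [← hgy] at hω
      obtain ⟨ω', hω', rfl⟩ := hω
      change (g * s * g⁻¹) • g • ω' = g • ω'
      rw [mul_smul, inv_smul_smul, mul_smul, hcon s hs ω' hω']
    apply (g • P : Sylow p G).not_dvd_index
    refine Dvd.dvd.trans ?_ (index_dvd_of_le hle)
    rw [← relIndex_mul_index hKM, hrel]
    exact hd.mul_right _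

theorem perfect_of {H : Type*} [Group H] [IsSimpleGroup H] (hna : ¬ IsMulCommutative H) :
    _root_.commutator H = ⊤ := by
  rcases IsSimpleGroup.eq_bot_or_eq_top_of_normal (_root_.commutator H) inferInstance with h | h
  · exfalso
    apply hna
    refine ⟨⟨fun a b => ?_⟩⟩
    have : a * b * a⁻¹ * b⁻¹ ∈ _root_.commutator H :=
      commutator_mem_commutator (mem_top a) (mem_top b)
    rw [h, mem_bot, mul_inv_eq_one, mul_inv_eq_iff_eq_mul] at this
    exact this
  · exact h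

theorem qd_congr {A B : Type*} [Group A] [Group B] (e : A ≃* B) (h : Cfsg.IsQuasiDihedral A) :
    Cfsg.IsQuasiDihedral B := by
  obtain ⟨n, hn, hc, x, y, hx, hy, hxy⟩ := h
  refine ⟨n, hn, (Nat.card_congr e.toEquiv).symm.trans hc, e x, e y, ?_, ?_, ?_⟩
  · rw [e.orderOf_eq, hx]
  · rw [e.orderOf_eq, hy]
  · rw [← map_inv, ← map_mul, ← map_mul, hxy, map_pow]

theorem card_cent_sub (P : Subgroup G) {y : G} (hy : y ∈ P) :
    Nat.card (centralizer ({⟨y, hy⟩} : Set P)) = Nat.card ↥(P ⊓ centralizer ({y} : Set G)) := by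
  rw [← card_map_of_injective P.subtype_injective]
  congr 2
  ext z
  simp only [mem_map, mem_centralizer_singleton_iff, mem_inf]
  constructor
  · rintro ⟨w, hw, rfl⟩
    exact ⟨w.2, congrArg Subtype.val hw⟩
  · rintro ⟨h1, h2⟩
    exact ⟨⟨z, h1⟩, Subtype.ext h2, rfl⟩

theorem pow_all [Finite G] {P : Subgroup G} {y : G} {n : ℕ}
    (hc : Nat.card ↥(P ⊓ centralizer ({y} : Set G)) = Nat.card P)
    (he : ∀ z ∈ P ⊓ centralizer ({y} : Set G), z ^ n = 1) : ∀ z : P, z ^ n = 1 := by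
  have := eq_of_le_of_card_ge (inf_le_left : P ⊓ centralizer ({y} : Set G) ≤ P) hc.ge
  intro z
  exact Subtype.ext (he z (this.symm ▸ z.2))

theorem case_two (hT : TStmt.{u}) [Finite G] [Finite Ω] [FaithfulSMul G Ω] [IsPretransitive G Ω]
    (hperf : _root_.commutator G = ⊤) (S : Sylow 2 G) (x : G) (hx : orderOf x = 2)
    (hne : (fixedBy Ω x).Nonempty)
    (hmax : ∀ y : G, orderOf y = 2 → Nat.card (fixedBy Ω y) ≤ Nat.card (fixedBy Ω x))
    (h3 : Nat.card (fixedBy Ω x) ≤ 3) :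
    (∃ H : Subgroup G, Cfsg.IsStronglyEmbedded H) ∨
      (∃ n : ℕ, Nonempty ((S : Subgroup G) ≃* DihedralGroup n)) ∨
        Cfsg.IsQuasiDihedral (S : Subgroup G) := by
  classical
  haveI : Fact (Nat.Prime 2) := ⟨Nat.prime_two⟩
  have hsq : ¬ 2 ^ 2 ∣ (Nat.card (fixedBy Ω x)).factorial := by
    generalize Nat.card (fixedBy Ω x) = m at h3
    interval_cases m <;> decide
  rcases gen hT hperf 2 x hx hne hmax hsq (by
    intro n q hq hn
    set π := toPermHom (stabilizer G (fixedBy Ω x)) (fixedBy Ω x)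
    rw [mem_zpowers_iff_mem_range_orderOf, hq] at hn
    obtain ⟨i, hi, he⟩ := Finset.mem_image.mp hn
    rw [Finset.mem_range] at hi
    interval_cases i
    · exfalso
      rw [pow_zero, map_mul, map_mul, map_inv, eq_comm, mul_inv_eq_one, mul_eq_left] at he
      rw [he, orderOf_one] at hq
      exact absurd hq (by decide)
    · rw [← he, pow_one]) with ⟨H, h1, h2, h4⟩ | ⟨-, P, y, hyP, hy, -, hc, he, -⟩
  · exact Or.inl ⟨H, h1, even_iff_two_dvd.mpr h2, fun g hg =>
      Nat.not_even_iff_odd.mp fun h => h4 g hg (even_iff_two_dvd.mp h)⟩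
  · right
    have e := Sylow.equiv P S
    rcases Cfsg.Agent.S3224.result P.isPGroup' (⟨y, hyP⟩ : (P : Subgroup G))
      ((Subgroup.orderOf_mk y hyP).trans hy) ((card_cent_sub _ hyP).trans hc) with ⟨n, ⟨f⟩⟩ | h | h
    · exact Or.inl ⟨n, ⟨e.symm.trans f⟩⟩
    · exact Or.inr (qd_congr e h)
    · left
      have h2 := pow_all (hc.trans h.symm) he
      haveI : Nontrivial (P : Subgroup G) := Finite.one_lt_card_iff_nontrivial.mp (by omega)
      haveI : IsKleinFour (P : Subgroup G) :=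
        ⟨h, (Monoid.exponent_eq_prime_iff Nat.prime_two).mpr fun g hg =>
          orderOf_eq_prime (h2 g) hg⟩
      obtain ⟨f⟩ := IsKleinFour.nonempty_mulEquiv (G₁ := (P : Subgroup G)) (G₂ := DihedralGroup 2)
      exact ⟨2, ⟨e.symm.trans f⟩⟩

theorem ne_inv_three {H : Type*} [Group H] {q : H} (hq : orderOf q = 3) : q ≠ q⁻¹ := by
  intro h
  have : q ^ 2 = 1 := by rw [pow_two]; nth_rewrite 2 [h]; exact mul_inv_cancel q
  have := orderOf_dvd_of_pow_eq_one this
  rw [hq] at this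
  exact absurd this (by decide)

theorem norm_three [Finite G] [Finite Ω] (hodd : ∀ ω : Ω, Odd (Nat.card (stabilizer G ω)))
    {Δ : Set Ω} (h4 : Nat.card Δ ≤ 4) (n q : stabilizer G Δ) (hq : orderOf (toPermHom _ Δ q) = 3)
    (hn : toPermHom _ Δ (n * q * n⁻¹) ∈ zpowers (toPermHom _ Δ q)) :
    toPermHom _ Δ (n * q * n⁻¹) = toPermHom _ Δ q := by
  classical
  haveI : Fact (Nat.Prime 3) := ⟨Nat.prime_three⟩
  set π := toPermHom (stabilizer G Δ) Δ
  rw [mem_zpowers_iff_mem_range_orderOf, hq] at hn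
  obtain ⟨i, hi, he⟩ := Finset.mem_image.mp hn
  rw [Finset.mem_range] at hi
  interval_cases i
  · exfalso
    rw [pow_zero, map_mul, map_mul, map_inv, eq_comm, mul_inv_eq_one, mul_eq_left] at he
    rw [he, orderOf_one] at hq
    exact absurd hq (by decide)
  · rw [← he, pow_one]
  · exfalso
    have h3 : π q ^ 2 = (π q)⁻¹ := by
      rw [eq_inv_iff_mul_eq_one, ← pow_succ]; exact orderOf_dvd_iff_pow_eq_one.mp (by rw [hq])
    rw [h3, map_mul, map_mul, map_inv, eq_comm] at he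
    have hodd' : ∀ ω : Δ, Odd (Nat.card (stabilizer (stabilizer G Δ) ω)) := by
      intro ω
      refine Odd.of_dvd_nat (hodd ω) ?_
      rw [← card_map_of_injective (stabilizer G Δ).subtype_injective]
      refine card_dvd_of_le ?_
      rintro _ ⟨g, hg, rfl⟩
      exact congrArg Subtype.val (mem_stabilizer_iff.mp hg)
    have hm := card_modEq_zpowers (Ω := Δ) hq
    have hlt : Nat.card (fixedBy Δ (π q)) < Nat.card Δ := by
      rw [Nat.card_coe_set_eq (fixedBy Δ (π q)), ← Set.ncard_univ]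
      refine Set.ncard_lt_ncard (Set.ssubset_univ_iff.mpr fun h => ?_) (Set.toFinite _)
      have : π q = 1 := Equiv.ext fun ω => (h ▸ Set.mem_univ ω : ω ∈ fixedBy Δ (π q))
      rw [this, orderOf_one] at hq
      exact absurd hq (by decide)
    have hn : Odd (orderOf n) := by
      unfold Nat.ModEq at hm
      by_cases h : Nat.card Δ = 3
      · exact odd_of_stab hodd' (A := Set.univ) (fun _ _ => trivial)
          (by rw [Nat.card_coe_set_eq, Set.ncard_univ, h]; decide)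
      · refine odd_of_stab hodd' (A := fixedBy Δ (π q)) (fun ω hω => ?_)
          (by rw [Nat.odd_iff]; omega)
        have h1 : π q ω = ω := hω
        have h2 : π q * π n * π q = π n := by
          rw [mul_assoc, mul_inv_eq_iff_eq_mul.mp he, mul_inv_cancel_left]
        have h3 := congrArg (fun σ : Equiv.Perm Δ => σ ω) h2
        simp only [Equiv.Perm.mul_apply, h1] at h3
        exact h3
    exact ne_inv_three hq (eq_inv_of_odd (hn.of_dvd_nat (orderOf_map_dvd π n)) he)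

theorem case_three (hT : TStmt.{u}) (hY : Y3Stmt.{u}) [Finite G] [Finite Ω] [FaithfulSMul G Ω]
    [IsPretransitive G Ω] (hperf : _root_.commutator G = ⊤)
    (hodd : ∀ ω : Ω, Odd (Nat.card (stabilizer G ω))) (S : Sylow 3 G) (x : G) (hx : orderOf x = 3)
    (hne : (fixedBy Ω x).Nonempty)
    (hmax : ∀ y : G, orderOf y = 3 → Nat.card (fixedBy Ω y) ≤ Nat.card (fixedBy Ω x))
    (h4 : Nat.card (fixedBy Ω x) ≤ 4) :
    (∃ H : Subgroup G, H ≠ ⊤ ∧ 3 ∣ Nat.card H ∧
      ∀ g : G, g ∉ H → ¬ 3 ∣ Nat.card ↥(H ⊓ H.map (MulAut.conj g).toMonoidHom)) ∨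
    (Nat.card S = 9 ∧ ∀ x ∈ (S : Subgroup G), x ^ 3 = 1) ∨
    (∃ T : Sylow 3 (Equiv.Perm (Fin 9)),
      Nonempty ((S : Subgroup G) ≃* (T : Subgroup (Equiv.Perm (Fin 9))))) := by
  classical
  haveI : Fact (Nat.Prime 3) := ⟨Nat.prime_three⟩
  have hsq : ¬ 3 ^ 2 ∣ (Nat.card (fixedBy Ω x)).factorial := by
    generalize Nat.card (fixedBy Ω x) = m at h4
    interval_cases m <;> decide
  rcases gen hT hperf 3 x hx hne hmax hsq (norm_three hodd h4)
    with h | ⟨h3, P, y, hyP, hy, hm, hc, he, s, hs, ω, hω, hsω⟩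
  · exact Or.inl h
  right
  have e := Sylow.equiv P S
  by_cases h9 : Nat.card (P : Subgroup G) = 9
  · left
    refine ⟨(Nat.card_congr e.toEquiv).symm.trans h9, fun z hz => ?_⟩
    have := pow_all (hc.trans h9.symm) he (e.symm ⟨z, hz⟩)
    rw [← map_pow, MulEquiv.map_eq_one_iff] at this
    exact congrArg Subtype.val this
  right
  rcases hY G P y hperf hyP hc h9 with ⟨T, ⟨f⟩⟩ | ⟨n, hn, hny⟩
  · exact ⟨T, ⟨e.symm.trans f⟩⟩
  exfalso
  refine ne_inv_three hy (eq_inv_of_odd ?_ hny)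
  by_cases h : Nat.card (fixedBy Ω y) = 3
  · refine odd_of_stab hodd (A := fixedBy Ω y) (fun ω hω => ?_) (by rw [h]; decide)
    rw [← fixedBy_inv Ω y, ← hny, fixedBy_conj]
    exact Set.smul_mem_smul_set hω
  · have h1 := card_modEq_zpowers (Ω := Ω) hy
    have h2 := P.isPGroup'.card_modEq_card_fixedPoints Ω
    have hlt : Nat.card (fixedPoints (P : Subgroup G) Ω) < Nat.card (fixedBy Ω y) := by
      rw [Nat.card_coe_set_eq, Nat.card_coe_set_eq]
      refine Set.ncard_lt_ncard ⟨fun ω' h' => h' ⟨y, hyP⟩, fun h' => hsω (h' hω ⟨s, hs⟩)⟩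
        (Set.toFinite _)
    refine odd_of_stab hodd (A := fixedPoints (P : Subgroup G) Ω) (fun ω hω t => ?_) (by
      unfold Nat.ModEq at h1 h2
      rw [Nat.odd_iff]; omega)
    have h5 : n⁻¹ * t * n ∈ (P : Subgroup G) := (mem_normalizer_iff''.mp hn t).mp t.2
    have h6 : (n⁻¹ * t * n) • ω = ω := hω ⟨_, h5⟩
    change (t : G) • n • ω = n • ω
    rw [mul_smul, mul_smul, inv_smul_eq_iff] at h6
    exact h6

theorem s3365_of (hT : TStmt.{u}) (hY : Y3Stmt.{u}) (hF : F4Stmt.{u, v})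
    {G : Type u} {Ω : Type v} [Group G] [Finite G] [IsSimpleGroup G] (hna : ¬ IsMulCommutative G)
    [MulAction G Ω] [FaithfulSMul G Ω] [Finite Ω] (htrans : MulAction.IsPretransitive G Ω)
    (hfix : ∀ g : G, g ≠ 1 → Nat.card (MulAction.fixedBy Ω g) ≤ 4)
    (P : Sylow 3 G) (S : Sylow 2 G) (f : ℕ)
    (hf : ∀ g : G, orderOf g = 2 → Nat.card (MulAction.fixedBy Ω g) ≤ f)
    (hf' : ∃ g : G, orderOf g = 2 ∧ Nat.card (MulAction.fixedBy Ω g) = f) (a : Ω) :
    (1 ≤ f ∧ ∃ H : Subgroup G, Cfsg.IsStronglyEmbedded H) ∨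
    (1 ≤ f ∧ f ≤ 3 ∧ ((∃ n : ℕ, Nonempty ((S : Subgroup G) ≃* DihedralGroup n)) ∨ Cfsg.IsQuasiDihedral (S : Subgroup G))) ∨
    (f = 4 ∧ Cfsg.SectionalPRankLE 2 4 G) ∨
    (Odd (Nat.card (MulAction.stabilizer G a)) ∧ 3 ∣ Nat.card (MulAction.stabilizer G a) ∧
      ((∃ H : Subgroup G, H ≠ ⊤ ∧ 3 ∣ Nat.card H ∧ ∀ g : G, g ∉ H → ¬ 3 ∣ Nat.card ↥(H ⊓ H.map (MulAut.conj g).toMonoidHom)) ∨
       (Nat.card P = 3 ∧ ∀ T : Sylow 2 (Subgroup.normalizer ((P : Subgroup G) : Set G)), Nat.card T ≤ 4) ∨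
       (Nat.card P = 9 ∧ ∀ x ∈ (P : Subgroup G), x ^ 3 = 1) ∨
       (Nat.card P = 27 ∧ Cfsg.IsExtraspecial 3 (P : Subgroup G) ∧ ∀ x ∈ (P : Subgroup G), x ^ 3 = 1) ∨
       (∃ T : Sylow 3 (Equiv.Perm (Fin 9)), Nonempty ((P : Subgroup G) ≃* (T : Subgroup (Equiv.Perm (Fin 9))))))) ∨
    (Nat.card (MulAction.stabilizer G a)).Coprime 6 := by
  classical
  haveI : Fact (Nat.Prime 2) := ⟨Nat.prime_two⟩
  haveI : Fact (Nat.Prime 3) := ⟨Nat.prime_three⟩
  have hperf := perfect_of hna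
  have hex : ∀ p : ℕ, p.Prime → p ∣ Nat.card (stabilizer G a) →
      ∃ y : G, orderOf y = p ∧ 1 ≤ Nat.card (fixedBy Ω y) := by
    intro p hp h
    haveI : Fact p.Prime := ⟨hp⟩
    obtain ⟨y, hy⟩ := exists_prime_orderOf_dvd_card' p h
    refine ⟨y, (Subgroup.orderOf_coe y).trans hy, ?_⟩
    haveI : Nonempty (fixedBy Ω (y : G)) := ⟨⟨a, y.2⟩⟩
    exact Nat.card_pos
  have hne1 : ∀ {y : G} {p : ℕ}, p ≠ 1 → orderOf y = p → y ≠ 1 := by
    rintro y p hp hy rfl
    exact hp (hy.symm.trans orderOf_one)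
  have hne : ∀ y : G, 1 ≤ Nat.card (fixedBy Ω y) → (fixedBy Ω y).Nonempty := fun y h =>
    Set.nonempty_coe_sort.mp (Nat.card_pos_iff.mp h).1
  by_cases h2 : 2 ∣ Nat.card (stabilizer G a)
  · obtain ⟨y, hy, hy1⟩ := hex 2 Nat.prime_two h2
    have h1 : 1 ≤ f := hy1.trans (hf y hy)
    obtain ⟨x, hx, hxf⟩ := hf'
    have h4 := hfix x (hne1 (by decide) hx)
    by_cases hf4 : f = 4
    · rcases hF G Ω hna htrans hfix x hx (hxf.trans hf4) with h | h
      · exact Or.inl ⟨h1, h⟩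
      · exact Or.inr (Or.inr (Or.inl ⟨hf4, Cfsg.Agent.H69.sectional_of_secLE (k := 4) h⟩))
    · rcases case_two hT hperf S x hx (hne x (by omega)) (fun z hz => hxf ▸ hf z hz)
        (by omega) with h | h
      · exact Or.inl ⟨h1, h⟩
      · exact Or.inr (Or.inl ⟨h1, by omega, h⟩)
  refine Or.inr (Or.inr (Or.inr ?_))
  by_cases h3 : 3 ∣ Nat.card (stabilizer G a)
  swap
  · right
    rw [show (6 : ℕ) = 2 * 3 from rfl]
    exact Nat.Coprime.mul_right ((Nat.Prime.coprime_iff_not_dvd Nat.prime_two).mpr h2).symm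
      ((Nat.Prime.coprime_iff_not_dvd Nat.prime_three).mpr h3).symm
  left
  have hodd : Odd (Nat.card (stabilizer G a)) :=
    Nat.not_even_iff_odd.mp fun h => h2 (even_iff_two_dvd.mp h)
  refine ⟨hodd, h3, ?_⟩
  have hodd' : ∀ ω : Ω, Odd (Nat.card (stabilizer G ω)) := by
    intro ω
    obtain ⟨g, rfl⟩ := exists_smul_eq G a ω
    rw [stabilizer_smul_eq_stabilizer_map_conj, card_map_of_injective (MulAut.conj g).injective]
    exact hodd
  obtain ⟨y, hy, hy1⟩ := hex 3 Nat.prime_three h3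
  obtain ⟨x, hx, hmax⟩ := Set.exists_max_image {z : G | orderOf z = 3}
    (fun z => Nat.card (fixedBy Ω z)) (Set.toFinite _) ⟨y, hy⟩
  rcases case_three hT hY hperf hodd' P x hx (hne x (hy1.trans (hmax y hy))) hmax
    (hfix x (hne1 (by decide) hx)) with h | h | h
  · exact Or.inl h
  · exact Or.inr (Or.inr (Or.inl h))
  · exact Or.inr (Or.inr (Or.inr (Or.inr h)))

end Cfsg.Agent.H36.FX
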