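import Cfsg.Agent.H37.FkKit
import Cfsg.Agent.H98.GroupSimple
import Cfsg.Agent.H98.Simple
import Cfsg.Agent.S5088
import Cfsg.Agent.S0542

/-!
# Project FK: constrained systems lift through central extensions
-/

set_option autoImplicit false

namespace Cfsg.Agent.H36.FkR

open Cfsg Subgroup Cfsg.Agent.H37.FK
open scoped Pointwise

universe u

variable {p : ℕ} [Fact p.Prime]

theorem sc_iff {G : Type u} [Group G] {S P : Subgroup G} :
    (groupFusionSystem S).StronglyClosed P ↔ IsStronglyClosed P S := by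
  refine and_congr_right fun hP => ⟨fun h x hx g hg => ?_, ?_⟩
  · refine h (zpowers x) (zpowers_le.2 hx)
      ((MulAut.conj g).toMonoidHom.comp (zpowers x).subtype)
      ⟨(zpowers_le.2 hx).trans hP, ?_, g, fun _ => rfl⟩ ⟨x, mem_zpowers x⟩
    rintro ⟨_, n, rfl⟩
    change g * x ^ n * g⁻¹ ∈ S
    rw [← conj_zpow]
    exact zpow_mem hg n
  · rintro h R hR φ ⟨-, h1, g, hg⟩ x
    rw [hg]
    exact h x (hR x.2) g (hg x ▸ h1 x)

theorem con_sylow {G : Type u} [Group G] [Finite G] (R R' : Sylow p G)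
    (h : (groupFusionSystem (R : Subgroup G)).IsConstrained p) :
    (groupFusionSystem (R' : Subgroup G)).IsConstrained p := by
  obtain ⟨g, rfl⟩ := MulAction.exists_smul_eq G R R'
  refine (H98.fsIso_mulEquiv (MulAut.conj g) (R : Subgroup G) fun x => ?_).isConstrained h
  rw [Sylow.coe_subgroup_smul]
  exact smul_mem_pointwise_smul_iff

theorem con_lift {G : Type u} [Group G] [Finite G] {X : Type u} [Group X] [Finite X]
    (π : G →* X) (hk : π.ker ≤ center G) (T : Sylow p G) (R : Sylow p X)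
    (hR : (R : Subgroup X) = (T : Subgroup G).map π)
    (h : (groupFusionSystem (R : Subgroup X)).IsConstrained p) :
    (groupFusionSystem (T : Subgroup G)).IsConstrained p := by
  obtain ⟨hs, Q, hn, hc⟩ := h
  obtain ⟨n, Qs, h0, hl, hm, hi⟩ := (S5088.result p R.isPGroup' _ hs Q).1 hn
  have sc : ∀ P : Subgroup X, IsStronglyClosed P R →
      IsStronglyClosed ((T : Subgroup G) ⊓ P.comap π) T := fun P hP =>
    ⟨inf_le_left, fun x hx g hg => ⟨hg, by
      have h1 : π (g * x * g⁻¹) ∈ (R : Subgroup X) := hR ▸ mem_map_of_mem π hg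
      rw [map_mul, map_mul, map_inv] at h1
      simpa using hP.2 _ hx.2 (π g) h1⟩⟩
  have hN : (groupFusionSystem (T : Subgroup G)).IsNormal ((T : Subgroup G) ⊓ Q.comap π) := by
    refine (S5088.result p T.isPGroup' _ (H98.group_isSaturated T) _).2
      ⟨n + 1, Fin.cons ⊥ fun i => (T : Subgroup G) ⊓ (Qs i).comap π, rfl, ?_, ?_, fun i => ?_⟩
    · rw [← hl]; rfl
    · refine Fin.monotone_iff_le_succ.2 fun i => ?_
      refine Fin.cases bot_le (fun j => ?_) i
      exact inf_le_inf_left _ (comap_mono (hm (Fin.castSucc_lt_succ (i := j)).le))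
    · refine Fin.cases ⟨sc_iff.2 (sc _ ?_), ?_⟩ (fun j => ⟨sc_iff.2 (sc _ (sc_iff.1 (hi j).1)), ?_⟩) i
      · change IsStronglyClosed (Qs 0) _
        rw [h0]
        exact ⟨bot_le, fun x hx g _ => by simp [mem_bot.1 hx]⟩
      · refine commutator_le.2 fun a _ b hb => ?_
        have h1 : b ∈ π.ker := by
          have : π b ∈ Qs 0 := hb.2
          rwa [h0] at this
        exact commutatorElement_eq_one_iff_mul_comm.2 (mem_center_iff.1 (hk h1) a)
      · refine commutator_le.2 fun a ha b hb => ⟨?_, ?_⟩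
        · exact mul_mem (mul_mem (mul_mem ha.1 hb.1) ((T : Subgroup G).inv_mem ha.1))
            ((T : Subgroup G).inv_mem hb.1)
        · have := (hi j).2 (commutator_mem_commutator ha.2 hb.2)
          rw [← map_commutatorElement] at this
          exact this
  refine ⟨H98.group_isSaturated T, _, hN, H99.isCentric_of_isNormal hN fun x hx => ⟨hx.1, ?_⟩⟩
  refine hc.2 Q ⟨Q.subtype, ⟨hn.1, fun y => hn.1 y.2, 1, fun y => by simp⟩, Q.range_subtype⟩
    ⟨hR ▸ mem_map_of_mem π hx.1, mem_centralizer_iff.2 fun y hy => ?_⟩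
  obtain ⟨z, hz, rfl⟩ : y ∈ (T : Subgroup G).map π := hR ▸ hn.1 hy
  rw [← map_mul, ← map_mul, mem_centralizer_iff.1 hx.2 z ⟨hz, hy⟩]

theorem red4 : Red4Stmt.{u} := by
  intro G _ _ _ S K hK ⟨R, hR⟩
  obtain ⟨T, hT⟩ := S0542.result 2 K hK.1 S
  have h1 := con_lift (QuotientGroup.mk' (center K)) (QuotientGroup.ker_mk' _).le T
    (T.mapSurjective (QuotientGroup.mk'_surjective _)) rfl (con_sylow R _ hR)
  rw [hT, ← inf_subgroupOf_right] at h1
  exact (H98.fsIso_subgroupOf inf_le_right).isConstrained h1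

end Cfsg.Agent.H36.FkR
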