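import Cfsg.Agent.H78.G40B

/-! Project L40G, piece CZ1A: `O²(C(z))` normalises the two quaternion factors. -/

set_option autoImplicit false

namespace Cfsg.Agent.H36.G40Cz1a

open Subgroup Cfsg.Agent.H83 Cfsg.Agent.H46.L40 Cfsg.Agent.H78.G40

universe u

local notation "C[" A "]" => Subgroup.centralizer (SetLike.coe A)
local notation "N[" A "]" => Subgroup.normalizer (SetLike.coe A)

variable {G : Type u} [Group G] {z : G}

/-- the subgroup generated by `z` -/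
def Zz (h : z * z = 1) : Subgroup (Cz z) where
  carrier := {y | Mz z y.1}
  one_mem' := Or.inl rfl
  mul_mem' := by
    rintro a b (ha | ha) (hb | hb) <;> change Mz z (a.1 * b.1) <;> rw [ha, hb]
    exacts [Or.inl (one_mul _), Or.inr (one_mul _), Or.inr (mul_one _), Or.inl h]
  inv_mem' := by
    rintro a (ha | ha)
    · exact Or.inl (by simp [ha])
    · exact Or.inr (by rw [coe_inv, ha]; exact inv_eq_of_mul_eq_one_right h)

instance zzNormal (h : z * z = 1) : (Zz h).Normal := ⟨by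
  rintro a (ha | ha) g
  · exact Or.inl (by simp [ha])
  · refine Or.inr ?_
    rw [coe_mul, coe_mul, coe_inv, ha, mem_centralizer_singleton_iff.1 g.2, mul_inv_cancel_right]⟩

/-- the projection -/
abbrev pr (h : z * z = 1) : Cz z →* Cz z ⧸ Zz h := QuotientGroup.mk' _

/-- the image of a subgroup -/
def bar (h : z * z = 1) (A : Subgroup G) : Subgroup (Cz z ⧸ Zz h) := (A.subgroupOf (Cz z)).map (pr h)

variable (h : z * z = 1)

theorem pr_one (y : Cz z) : pr h y = 1 ↔ Mz z y.1 := QuotientGroup.eq_one_iff y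

theorem pr_comm (x y : Cz z) : pr h x * pr h y = pr h y * pr h x ↔ Mz z (x.1 * y.1 * x.1⁻¹ * y.1⁻¹) := by
  rw [← mul_inv_eq_one, mul_inv_rev, ← mul_assoc, ← map_inv, ← map_inv, ← map_mul, ← map_mul,
    ← map_mul, pr_one]
  rfl

theorem ker_le {A : Subgroup G} (hA : z ∈ A) : (pr h).ker ≤ A.subgroupOf (Cz z) := fun y hy => by
  rcases (pr_one h y).1 hy with e | e <;> rw [mem_subgroupOf, e]
  exacts [one_mem _, hA]

theorem mem_bar {A : Subgroup G} (hA : z ∈ A) (y : Cz z) : pr h y ∈ bar h A ↔ y.1 ∈ A := by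
  rw [← mem_comap, bar, comap_map_eq_self (ker_le h hA), mem_subgroupOf]

theorem norm_bar [Finite G] {A : Subgroup G} (hA : z ∈ A) (hK : A ≤ Cz z) (y : Cz z) :
    pr h y ∈ N[bar h A] ↔ y.1 ∈ N[A] := by
  refine ⟨fun H => mem_normalizer_fintype fun x hx => ?_, fun H => mem_normalizer_fintype ?_⟩
  · have := (mem_normalizer_iff.1 H _).1 ((mem_bar h hA ⟨x, hK hx⟩).2 hx)
    rwa [← map_inv, ← map_mul, ← map_mul, mem_bar h hA] at this
  · rintro _ ⟨x, hx, rfl⟩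
    rw [← map_inv, ← map_mul, ← map_mul, SetLike.mem_coe, mem_bar h hA]
    exact (mem_normalizer_iff.1 H _).1 hx

theorem card_bar [Finite G] (h1 : z ≠ 1) {A : Subgroup G} (hA : z ∈ A) (hK : A ≤ Cz z)
    (hc : Nat.card A = 8) : Nat.card (bar h A) = 4 := by
  have k1 : Nat.card (pr h).ker = 2 := by
    refine (Nat.card_eq_two_iff' 1).2 ⟨⟨⟨z, hK hA⟩, (pr_one h _).2 (Or.inr rfl)⟩,
      fun e => h1 (congrArg (fun y => y.1.1) e), fun y hy => Subtype.ext (Subtype.ext ?_)⟩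
    exact ((pr_one h _).1 y.2).resolve_left fun e => hy (Subtype.ext (Subtype.ext e))
  have k2 := ((pr h).ker.subgroupOf (A.subgroupOf (Cz z))).index_mul_card
  rw [Nat.card_congr (subgroupOfEquivOfLe (ker_le h hA)).toEquiv,
    Nat.card_congr (subgroupOfEquivOfLe hK).toEquiv, k1, hc] at k2
  have k3 := (A.subgroupOf (Cz z)).relIndex_ker (pr h)
  rw [relIndex] at k3
  rw [bar, ← k3]
  omega

theorem syl_sub {T H K : Subgroup G} (hT : IsSylowIn 2 T H) (hK : H ≤ K) :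
    IsSylowIn 2 (T.subgroupOf K) (H.subgroupOf K) := by
  refine ⟨comap_mono hT.le, hT.isPGroup.comap_subtype, fun P hP hp hS => ?_⟩
  have := hT.max (P.map K.subtype) (map_le_iff_le_comap.2 hP) (hp.map _)
    ((subgroupOf_map_of_le (hT.le.trans hK)).symm.le.trans (map_mono hS))
  rw [← this, subgroupOf, comap_map_eq_self_of_injective K.subtype_injective]

theorem cover {A B Q : Subgroup G} {n : G} (za : z ∈ A) {D : Subgroup G} (hD : D ≤ Q)
    (sd : ∀ y ∈ D, Mz z y ∨ y * y = z) (o4 : ∀ y ∈ Q, y * y = z → y ∈ A ∨ y ∈ B)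
    (hn : n ∈ N[Q]) (hz : n * z = z * n) :
    (∀ y ∈ D, n * y * n⁻¹ ∈ A) ∨ ∀ y ∈ D, n * y * n⁻¹ ∈ B := by
  have k : ∀ y ∈ D, n * y * n⁻¹ ∈ A ∨ n * y * n⁻¹ ∈ B := fun y hy => by
    rcases sd y hy with (e | e) | e
    · exact Or.inl (by simp [e])
    · exact Or.inl (by rwa [e, hz, mul_inv_cancel_right])
    · refine o4 _ ((mem_normalizer_iff.1 hn y).1 (hD hy)) ?_
      rw [conj_mul, e, hz, mul_inv_cancel_right]
  by_contra hc
  push Not at hc
  obtain ⟨⟨x, hx, x1⟩, y, hy, y1⟩ := hc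
  have x2 := (k x hx).resolve_left x1
  have y2 := (k y hy).resolve_right y1
  rcases k _ (mul_mem hx hy) with e | e <;> rw [← conj_mul] at e
  · exact x1 ((mul_mem_cancel_right y2).1 e)
  · exact y1 ((mul_mem_cancel_left x2).1 e)

theorem nq [Finite G] {A B H : Subgroup G} (syl : IsSylowIn 2 (A ⊔ B) H) (hH : H ≤ Cz z)
    (hc : Nat.card A = Nat.card B) (za : z ∈ A) (ab : B ≤ C[A])
    (sa : ∀ y ∈ A, Mz z y ∨ y * y = z) (sb : ∀ y ∈ B, Mz z y ∨ y * y = z)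
    (o4 : ∀ y ∈ A ⊔ B, y * y = z → y ∈ A ∨ y ∈ B) {n : G} (h1 : n ∈ H) (h2 : n ∈ N[A ⊔ B]) :
    n ∈ N[A] := by
  have hz := mem_centralizer_singleton_iff.1 (hH h1)
  have k1 : n ^ 2 ∈ N[A] := by
    rcases cover za le_sup_left sa o4 h2 hz with k | k
    · exact pow_mem (mem_normalizer_fintype k) 2
    rcases cover za le_sup_right sb o4 h2 hz with k' | k'
    · refine mem_normalizer_fintype fun y hy => ?_
      have := k' _ (k y hy)
      rwa [show n * (n * y * n⁻¹) * n⁻¹ = n ^ 2 * y * (n ^ 2)⁻¹ by simp [pow_two, mul_assoc]] at this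
    · have e : A = B := eq_of_le_of_card_ge
        (fun y hy => (mem_normalizer_iff.1 (mem_normalizer_fintype k') y).2 (k y hy)) hc.ge
      exact pow_mem (mem_normalizer_fintype (e ▸ k)) 2
  obtain ⟨k, m, ⟨j, rfl⟩, e⟩ := Nat.exists_eq_two_pow_mul_odd (orderOf_pos n).ne'
  have k2 : n ^ (2 * j + 1) ∈ N[A] :=
    sup_le le_normalizer (ab.trans (centralizer_le_normalizer _)) (syl.mem_of_norm (k := k)
      (pow_mem h1 _) (by rw [← pow_mul, mul_comm, ← e, pow_orderOf_eq_one]) (pow_mem h2 _))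
  rwa [pow_succ, pow_mul, mul_mem_cancel_left (pow_mem k1 j)] at k2

theorem core [Finite G] (hP : ∀ (K : Type u) [Group K] [Finite K] (ι : Type) (N A U : Subgroup K)
      (S : Finset ι) (Q : ι → Subgroup K) (κ : ι → K) (τ : K), PrD N A U S Q κ τ → ∀ i ∈ S, N ≤ N[Q i])
    (h : z * z = 1) (h1 : z ≠ 1) {A B H : Subgroup G} {a ka kb : G}
    (syl : IsSylowIn 2 (A ⊔ B) H) (hH : H ≤ Cz z) (ca : Nat.card A = 8) (cb : Nat.card B = 8)
    (za : z ∈ A) (zb : z ∈ B) (ab : B ≤ C[A]) (sq : ∀ y ∈ A ⊔ B, Mz z (y * y))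
    (sa : ∀ y ∈ A, Mz z y ∨ y * y = z) (sb : ∀ y ∈ B, Mz z y ∨ y * y = z)
    (o4 : ∀ y ∈ A ⊔ B, y * y = z → y ∈ A ∨ y ∈ B) (kaH : ka ∈ H) (kbH : kb ∈ H)
    (k1a : ka ∈ N[A]) (k1b : ka ∈ C[B]) (k2a : kb ∈ C[A]) (k2b : kb ∈ N[B])
    (f1 : ∀ y ∈ A, Mz z (ka * y * ka⁻¹ * y⁻¹) → Mz z y)
    (f2 : ∀ y ∈ B, Mz z (kb * y * kb⁻¹ * y⁻¹) → Mz z y)
    (a2 : a * a = 1) (az : a ∈ Cz z) (aN : a ∈ N[H]) (an : a ∉ H) (aa : a ∈ N[A]) (ab' : a ∈ N[B])
    (na : ∃ y ∈ A, ¬ Mz z (a * y * a⁻¹ * y⁻¹)) (nb : ∃ y ∈ B, ¬ Mz z (a * y * a⁻¹ * y⁻¹))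
    (HH : ∀ y ∈ H, Mz z (y * y) → Mz z (y * a * y⁻¹ * a⁻¹) → y ∈ A ⊔ B) : H ≤ N[A] ⊓ N[B] := by
  have QK := syl.le.trans hH
  have AK : A ≤ Cz z := le_sup_left.trans QK
  have BK : B ≤ Cz z := le_sup_right.trans QK
  have zQ : z ∈ A ⊔ B := mem_sup_left za
  have zH := syl.le zQ
  have ba : A ≤ C[B] := le_centralizer_iff.1 ab
  have cen : ∀ {D : Subgroup G} {k : Cz z}, k.1 ∈ C[D] → pr h k ∈ C[bar h D] := by
    rintro D k hk _ ⟨y, hy, rfl⟩
    rw [← map_mul, ← map_mul]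
    exact congrArg _ (Subtype.ext (hk y.1 hy))
  have nc : ∀ {D : Subgroup G}, D ≤ Cz z → (∃ y ∈ D, ¬ Mz z (a * y * a⁻¹ * y⁻¹)) →
      pr h ⟨a, az⟩ ∉ C[bar h D] := fun hD ⟨y, hy, hn⟩ hc =>
    hn ((pr_comm h ⟨a, az⟩ ⟨y, hD hy⟩).1 (hc _ ⟨⟨y, hD hy⟩, hy, rfl⟩).symm)
  have P := hP _ Bool (bar h H) (bar h (A ⊔ B)) ⊥ Finset.univ (fun i => bar h (cond i A B))
    (fun i => pr h (cond i ⟨ka, hH kaH⟩ ⟨kb, hH kbH⟩)) (pr h ⟨a, az⟩)
    { syl := (syl_sub syl hH).map _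
      el := by
        rintro _ ⟨y, hy, rfl⟩
        rw [← map_mul, pr_one]
        exact sq _ hy
      UA := bot_le
      QA := fun i _ => map_mono (comap_mono (by cases i; exacts [le_sup_right, le_sup_left]))
      c4 := fun i _ => by cases i; exacts [card_bar h h1 zb BK cb, card_bar h h1 za AK ca]
      gen := by
        rw [bar, subgroupOf_sup AK BK, Subgroup.map_sup, bot_sup_eq]
        exact sup_le (le_iSup₂_of_le true (Finset.mem_univ _) le_rfl)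
          (le_iSup₂_of_le false (Finset.mem_univ _) le_rfl)
      nQ := by
        rintro _ ⟨n, hn, rfl⟩ h2 i _
        rw [norm_bar h zQ QK] at h2
        cases i
        · refine (norm_bar h zb BK n).2 (nq (sup_comm A B ▸ syl) hH (cb.trans ca.symm) zb ba sb sa
            (fun y hy e => (o4 y (sup_comm A B ▸ hy) e).symm) hn (sup_comm A B ▸ h2))
        · exact (norm_bar h za AK n).2 (nq syl hH (ca.trans cb.symm) za ab sa sb o4 hn h2)
      cU := fun n _ _ y hy => by rw [mem_bot.1 hy, one_mul, mul_one]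
      κN := fun i _ => by cases i; exacts [⟨_, kbH, rfl⟩, ⟨_, kaH, rfl⟩]
      κA := fun i _ => (norm_bar h zQ QK _).2 (normalizer_inf_normalizer_le_normalizer_sup A B (by
        cases i
        exacts [⟨centralizer_le_normalizer _ k2a, k2b⟩, ⟨k1a, centralizer_le_normalizer _ k1b⟩]))
      κ3 := by
        rintro i _ _ ⟨y, hy, rfl⟩ e
        rw [pr_comm] at e
        rw [pr_one]
        cases i
        exacts [f2 _ hy e, f1 _ hy e]
      κc := fun i _ j _ hij => by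
        cases i <;> cases j
        exacts [absurd rfl hij, cen k2a, cen k1b, absurd rfl hij]
      ττ := by rw [← map_mul, pr_one]; exact Or.inl a2
      τN := (norm_bar h zH hH _).2 aN
      τn := fun e => an ((mem_bar h zH _).1 e)
      τA := (norm_bar h zQ QK _).2 (normalizer_inf_normalizer_le_normalizer_sup A B ⟨aa, ab'⟩)
      τQ := fun i _ => by
        cases i
        exacts [⟨(norm_bar h zb BK _).2 ab', nc BK nb⟩, ⟨(norm_bar h za AK _).2 aa, nc AK na⟩]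
      H := by
        rintro _ ⟨y, hy, rfl⟩ e1 e2
        rw [← map_mul, pr_one] at e1
        rw [pr_comm] at e2
        exact ⟨y, HH _ hy e1 e2, rfl⟩ }
  exact fun n hn => ⟨(norm_bar h za AK ⟨n, hH hn⟩).1 (P true (Finset.mem_univ _) ⟨_, hn, rfl⟩),
    (norm_bar h zb BK ⟨n, hH hn⟩).1 (P false (Finset.mem_univ _) ⟨_, hn, rfl⟩)⟩

theorem O2_eq (H : Subgroup G) : O2 H = resOf 2 H := by
  simp only [resOf_eq, O2, Nat.coprime_two_right]

theorem cz1a : Cz1aS.{u} := by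
  intro hK hT hS X _ e σ τ θ D Fa Fc Fd G _ _ S ψ T hV syl an
  have mz : ∀ x, Mz S.z (ψ x) ↔ Mz (e z0) x := fun x => by
    rw [Mz, Mz, Dat.z, ← T.he, T.inj.eq_iff, ← map_one ψ, T.inj.eq_iff]
  have hz : ψ (e z0) = S.z := T.he _
  have eQ : Qq e σ D = Qa e ⊔ Qb σ D := by
    rw [Qa, Qb, ← Subgroup.closure_union, Set.insert_union, Set.singleton_union, Qq]
  have eQ' : (Qq e σ D).map ψ = (Qa e).map ψ ⊔ (Qb σ D).map ψ := by rw [eQ, Subgroup.map_sup]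
  have cen : ∀ {A : Subgroup X} {k : X}, k ∈ C[A] → ψ k ∈ C[A.map ψ] := by
    rintro A k hk _ ⟨y, hy, rfl⟩
    rw [← map_mul, ← map_mul, hk y hy]
  have nrm : ∀ {A : Subgroup X} {k : X}, k ∈ N[A] → ψ k ∈ N[A.map ψ] := fun hk =>
    le_normalizer_map ψ ⟨_, hk, rfl⟩
  have crd : ∀ A : Subgroup X, Nat.card (A.map ψ) = Nat.card A := fun A =>
    card_map_of_injective T.inj
  have RX : ∀ x, ψ x ∈ S.X := fun x => S.fn.le (T.rg ▸ ⟨x, rfl⟩)
  have k3 : ∀ x, x * e z0 = e z0 * x → x ^ 3 = 1 → ψ x ∈ O2 (S.X ⊓ Cz S.z) := fun x h1 h2 =>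
    subset_closure ⟨⟨RX x, mem_centralizer_singleton_iff.2 (by rw [← hz, ← map_mul, h1, map_mul])⟩,
      Odd.of_dvd_nat (by decide : Odd 3) (orderOf_dvd_of_pow_eq_one (by rw [← map_pow, h2, map_one]))⟩
  have az : S.a ∈ Cz S.z := mem_centralizer_singleton_iff.2 (by
    rw [← map_mul, ← map_mul, show a0 * z0 = z0 * a0 by decide])
  have zz : S.z * S.z = 1 := by rw [← map_mul, show z0 * z0 = 1 by decide, map_one]
  have hH : O2 (S.X ⊓ Cz S.z) ≤ S.X ⊓ Cz S.z := O2_eq (S.X ⊓ Cz S.z) ▸ resOf_le _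
  have sab : ∀ {A : Subgroup X}, (∀ y ∈ A, Mz (e z0) y ∨ y * y = e z0) →
      ∀ y ∈ A.map ψ, Mz S.z y ∨ y * y = S.z := by
    rintro A hA _ ⟨y, hy, rfl⟩
    exact (hA y hy).imp (mz y).2 fun k => by rw [← map_mul, k, hz]
  have cm : ∀ x y, ψ x * ψ y * (ψ x)⁻¹ * (ψ y)⁻¹ = ψ (x * y * x⁻¹ * y⁻¹) := by simp
  have ff : ∀ {A : Subgroup X} {k : X}, (∀ y ∈ A, Mz (e z0) (k * y * k⁻¹ * y⁻¹) → Mz (e z0) y) →
      ∀ y ∈ A.map ψ, Mz S.z (ψ k * y * (ψ k)⁻¹ * y⁻¹) → Mz S.z y := by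
    rintro A k hA _ ⟨y, hy, rfl⟩
    rw [cm, mz, mz]
    exact hA y hy
  have ha : ψ (e a0) = S.a := T.he _
  have nn : ∀ {A : Subgroup X}, (∃ y ∈ A, ¬ Mz (e z0) (e a0 * y * (e a0)⁻¹ * y⁻¹)) →
      ∃ y ∈ A.map ψ, ¬ Mz S.z (S.a * y * S.a⁻¹ * y⁻¹) := fun ⟨y, hy, hn⟩ =>
    ⟨_, ⟨y, hy, rfl⟩, by rwa [← ha, cm, mz]⟩
  refine core (hK hT hS) zz (fun k => absurd (S.inj (k.trans (map_one _).symm)) (by decide))
    (eQ' ▸ syl) (hH.trans inf_le_right) (by rw [crd, Fa.ca]) (by rw [crd, Fa.cb]) ⟨_, Fa.za, hz⟩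
    ⟨_, Fa.zb, hz⟩ (by rintro _ ⟨y, hy, rfl⟩; exact cen (Fa.ab hy)) ?_ (sab Fa.sa) (sab Fa.sb) ?_
    (k3 _ Fc.k1z Fc.k13) (k3 _ Fc.k2z Fc.k23) (nrm Fc.k1a) (cen Fc.k1b) (cen Fc.k2a) (nrm Fc.k2b)
    (ff Fc.f1) (ff Fc.f2) (a := S.a) (by rw [← map_mul, show a0 * a0 = 1 by decide, map_one]) az
    (by rw [O2_eq]; exact le_norm_resOf _ ⟨S.LX _, az⟩) an (ha ▸ nrm Fc.aa) (ha ▸ nrm Fc.ab)
    (nn Fc.na) (nn Fc.nb) ?_
  · rw [← eQ']
    rintro _ ⟨y, hy, rfl⟩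
    rw [← map_mul, mz]
    exact Fa.sq y hy
  · rw [← eQ']
    rintro _ ⟨y, hy, rfl⟩ k
    rw [← map_mul, ← hz, T.inj.eq_iff] at k
    exact (Fa.o4 y hy k).imp (mem_map_of_mem ψ) (mem_map_of_mem ψ)
  intro y hy e1 e2
  obtain ⟨yX, yz⟩ := hH hy
  have yz' := mem_centralizer_singleton_iff.1 yz
  have y4 : y ^ 2 ^ 2 = 1 := by
    rw [show y ^ 2 ^ 2 = y * y * (y * y) by simp [pow_succ, mul_assoc]]
    rcases e1 with k | k <;> rw [k]
    exacts [mul_one _, zz]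
  have cV : ∀ x ∈ S.X, x * S.z = S.z * x → x * S.a = S.a * x → x ∈ PP S.R := fun x h1 h2 h3 =>
    hV ⟨h1, le_centralizer_iff.1 (show S.V ≤ C[zpowers x] from map_le_iff_le_comap.2
      ((closure_le _).2 (by
        rintro _ (rfl | rfl) _ ⟨k, rfl⟩
        exacts [((show Commute x S.z from h2).zpow_left k).eq,
          ((show Commute x S.a from h3).zpow_left k).eq]))) (mem_zpowers x)⟩
  have yP : y ∈ PP S.R := by
    rcases e2 with k | k
    · exact cV y yX yz' (by rw [mul_inv_eq_one, mul_inv_eq_iff_eq_mul] at k; exact k)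
    · have w1 : S.φ w0 * S.z = S.z * S.φ w0 := by
        rw [← map_mul, ← map_mul, show w0 * z0 = z0 * w0 by decide]
      have w2 : S.φ w0 * S.z * S.a = S.a * S.φ w0 := by
        rw [← map_mul, ← map_mul, ← map_mul, show w0 * z0 * a0 = a0 * w0 by decide]
      rw [mul_inv_eq_iff_eq_mul, mul_inv_eq_iff_eq_mul] at k
      have := cV (S.φ w0 * y) (mul_mem (S.LX _) yX) (by rw [mul_assoc, yz', ← mul_assoc, w1, mul_assoc])
        (by rw [mul_assoc, k, ← mul_assoc, ← mul_assoc, w2, mul_assoc])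
      have w3 : S.φ w0 ∈ S.R := Subgroup.subset_closure (Or.inl ⟨w0, rfl⟩)
      exact (mul_mem_cancel_left (mem_sup_left w3)).1 this
  obtain ⟨x, rfl⟩ : y ∈ ψ.range := T.rg ▸ S.fn.two y yP ⟨2, y4⟩
  rw [← eQ']
  refine syl.mem_of_norm hy y4 (nrm (Fd (mem_centralizer_singleton_iff.2 (T.inj ?_))))
  rw [map_mul, map_mul, hz, yz']

end Cfsg.Agent.H36.G40Cz1a
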