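import Cfsg.Agent.H93.LTDefs
import Cfsg.Agent.H92.ClassSize

/-! The side analysis for an involution centraliser with Sylow subgroup `2 × 2 × D₈`: basics. -/

set_option autoImplicit false

namespace Cfsg.Agent.H36.LTS

open Subgroup Cfsg.Agent.H85

variable {G : Type*} [Group G]

/-- `x ^ g` -/
def cv (x g : G) : G := g⁻¹ * x * g

theorem cv_mul (x y g : G) : cv (x * y) g = cv x g * cv y g := by simp [cv, mul_assoc]
theorem cv_one (g : G) : cv 1 g = 1 := by simp [cv]
theorem cv_inv (x g : G) : cv x⁻¹ g = (cv x g)⁻¹ := by simp [cv, mul_assoc]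
theorem cv_cv (x g k : G) : cv x (g * k) = cv (cv x g) k := by simp [cv, mul_assoc]
theorem cv_one' (x : G) : cv x 1 = x := by simp [cv]
theorem cv_self (x : G) : cv x x = x := by simp [cv]
theorem cv_conj (x g k : G) : cv (cv x k) (cv g k) = cv (cv x g) k := by simp [cv, mul_assoc]
theorem cv_inj {x y g : G} (h : cv x g = cv y g) : x = y := by simpa [cv] using h
theorem cv_of {x g : G} (h : Commute x g) : cv x g = x := by rw [cv, mul_assoc, h.eq]; simp
theorem cv_of' {x g : G} (h : Commute g x) : cv x g = x := cv_of h.symm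
theorem cm_of {x g : G} (h : cv x g = x) : Commute x g := by
  rw [cv, mul_assoc, inv_mul_eq_iff_eq_mul] at h; exact h
theorem cm_cv {x y : G} (h : Commute x y) (g : G) : Commute (cv x g) (cv y g) := by
  rw [Commute, SemiconjBy, ← cv_mul, ← cv_mul, h.eq]
theorem cv_tr {x g y : G} (h : cv x g = y) (k : G) : cv (cv x k) (cv g k) = cv y k := by
  rw [cv_conj, h]
theorem cv_inv_of {x g y : G} (h : cv x g = y) : cv y g⁻¹ = x := by rw [← h]; simp [cv, mul_assoc]
theorem cv_sq {x g : G} (gg : g * g = 1) : cv (cv x g) g = x := by rw [← cv_cv, gg, cv_one']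
theorem cv_mem {A : Subgroup G} {x g : G} (hx : x ∈ A) (hg : g ∈ A) : cv x g ∈ A :=
  mul_mem (mul_mem (inv_mem hg) hx) hg
theorem cv_nrm {A : Subgroup G} {x g : G} (hx : x ∈ A) (hg : g ∈ normalizer (A : Set G)) :
    cv x g ∈ A := by
  have := (mem_normalizer_iff.1 (inv_mem hg) x).1 hx
  rwa [inv_inv] at this
theorem nrm_of [Finite G] {A : Subgroup G} {g : G} (h : ∀ x ∈ A, cv x g ∈ A) :
    g ∈ normalizer (A : Set G) :=
  inv_mem_iff.1 (mem_normalizer_fintype fun x hx => by rw [inv_inv]; exact h x hx)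
theorem cv_closure {S : Set G} {A : Subgroup G} {g : G} (h : ∀ s ∈ S, cv s g ∈ A) {x : G}
    (hx : x ∈ closure S) : cv x g ∈ A := by
  induction hx using closure_induction with
  | mem s hs => exact h s hs
  | one => rw [cv_one]; exact one_mem _
  | mul x y _ _ h1 h2 => rw [cv_mul]; exact mul_mem h1 h2
  | inv x _ h1 => rw [cv_inv]; exact inv_mem h1
theorem cv_eq_closure {S : Set G} {g k : G} (h : ∀ s ∈ S, cv s g = cv s k) {x : G}
    (hx : x ∈ closure S) : cv x g = cv x k := by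
  induction hx using closure_induction with
  | mem s hs => exact h s hs
  | one => rw [cv_one, cv_one]
  | mul x y _ _ h1 h2 => rw [cv_mul, cv_mul, h1, h2]
  | inv x _ h1 => rw [cv_inv, cv_inv, h1]
theorem isConj_cv (x g : G) : IsConj x (cv x g) := isConj_iff.2 ⟨g⁻¹, by rw [inv_inv]; rfl⟩
theorem orderOf_cv (x g : G) : orderOf (cv x g) = orderOf x := H92.orderOf_conj' g x

/-- `u * v = v * c` as rewriting rules -/
theorem rl {u v c : G} (h : cv u v = c) : u * v = v * c ∧ ∀ w, u * (v * w) = v * (c * w) := by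
  have : u * v = v * c := by rw [← h, cv]; group
  exact ⟨this, fun w => by rw [← mul_assoc, this, mul_assoc]⟩
theorem rc {u v : G} (h : Commute u v) : u * v = v * u ∧ ∀ w, u * (v * w) = v * (u * w) :=
  rl (cv_of h)
theorem rs {u c : G} (h : u * u = c) : u * u = c ∧ ∀ w, u * (u * w) = c * w :=
  ⟨h, fun w => by rw [← mul_assoc, h]⟩
theorem ri {u : G} (h : u * u = 1) : u⁻¹ = u ∧ u * u = 1 ∧ ∀ w, u * (u * w) = w :=
  ⟨inv_eq_of_mul_eq_one_right h, h, fun w => by rw [← mul_assoc, h, one_mul]⟩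

theorem mem_ins {S : Set G} {c : G} (cc : c * c ∈ closure S) (hn : ∀ s ∈ S, cv s c ∈ closure S)
    {u : G} (hu : u ∈ closure (insert c S)) : u ∈ closure S ∨ ∃ w ∈ closure S, u = c * w := by
  have k : ∀ w ∈ closure S, cv w c ∈ closure S := fun w => cv_closure hn
  induction hu using closure_induction with
  | mem s hs => exact hs.elim (fun e => .inr ⟨1, one_mem _, by simp [e]⟩)
                  fun e => .inl (subset_closure e)
  | one => exact .inl (one_mem _)
  | mul x y _ _ h1 h2 =>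
    rcases h1 with h1 | ⟨v, h1, rfl⟩ <;> rcases h2 with h2 | ⟨w, h2, rfl⟩
    · exact .inl (mul_mem h1 h2)
    · exact .inr ⟨_, mul_mem (k _ h1) h2, by simp [cv, mul_assoc]⟩
    · exact .inr ⟨_, mul_mem h1 h2, mul_assoc _ _ _⟩
    · exact .inl (by convert mul_mem (mul_mem cc (k _ h1)) h2 using 1; simp [cv, mul_assoc])
  | inv x _ h1 =>
    rcases h1 with h1 | ⟨w, h1, rfl⟩
    · exact .inl (inv_mem h1)
    · exact .inr ⟨_, mul_mem (inv_mem (k _ h1)) (inv_mem cc), by simp [cv, mul_assoc]⟩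

theorem mem_one {c u : G} (cc : c * c = 1) (hu : u ∈ closure ({c} : Set G)) : u = 1 ∨ u = c := by
  have := mem_ins (S := ∅) (c := c) (cc ▸ one_mem _) (fun _ h => h.elim) (u := u) (by simpa using hu)
  simpa using this

theorem m1 {a : G} {S : Set G} : a ∈ closure (insert a S) := subset_closure (.inl rfl)
theorem m2 {a b : G} {S : Set G} : b ∈ closure (insert a (insert b S)) :=
  subset_closure (.inr (.inl rfl))
theorem m3 {a b c : G} {S : Set G} : c ∈ closure (insert a (insert b (insert c S))) :=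
  subset_closure (.inr (.inr (.inl rfl)))

/-- membership of a word in a closure -/
macro "memc" : tactic => `(tactic|
  repeat' first
    | exact one_mem _
    | (refine subset_closure ?_
       simp only [Set.mem_insert_iff, Set.mem_singleton_iff, true_or, or_true]
       done)
    | assumption
    | apply mul_mem
    | apply inv_mem)

/-- The relations in `⟨t⟩ × ⟨f⟩ × D₈`. -/
structure B1 (t z f a b : G) : Prop where
  tt : t * t = 1
  zz : z * z = 1
  ff : f * f = 1
  aa : a * a = 1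
  bb : b * b = 1
  zt : Commute z t
  ft : Commute f t
  at' : Commute a t
  tb : Commute t b
  fz : Commute f z
  az : Commute a z
  zb : Commute z b
  af : Commute a f
  fb : Commute f b
  ab : cv a b = z * a

/-- normal form `b t z f a` -/
macro "en" B:term:max "[" ls:Lean.Parser.Tactic.simpLemma,* "]" loc:(Lean.Parser.Tactic.location)? :
    tactic =>
  `(tactic| simp only [mul_assoc, mul_inv_rev, inv_inv, one_mul, mul_one, inv_one, cv_mul, cv_one,
    cv_inv, cv_cv, cv_one', cv_self, ri (B1.tt $B), ri (B1.zz $B), ri (B1.ff $B), ri (B1.aa $B),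
    ri (B1.bb $B), rc (B1.zt $B), rc (B1.ft $B), rc (B1.at' $B), rc (B1.tb $B), rc (B1.fz $B),
    rc (B1.az $B), rc (B1.zb $B), rc (B1.af $B), rc (B1.fb $B), rl (B1.ab $B),
    cv_of (B1.zt $B), cv_of (B1.ft $B), cv_of (B1.at' $B), cv_of (B1.tb $B), cv_of (B1.fz $B),
    cv_of (B1.az $B), cv_of (B1.zb $B), cv_of (B1.af $B), cv_of (B1.fb $B), B1.ab $B,
    cv_of' (B1.zt $B), cv_of' (B1.ft $B), cv_of' (B1.at' $B), cv_of' (B1.tb $B),
    cv_of' (B1.fz $B), cv_of' (B1.az $B), cv_of' (B1.zb $B), cv_of' (B1.af $B),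
    cv_of' (B1.fb $B), mul_right_inj, inv_mul_cancel_left, mul_inv_cancel_left, inv_mul_cancel,
    mul_inv_cancel, $ls,*] $(loc)?)

variable {t z f a b r : G}

theorem B1.ba (B : B1 t z f a b) : cv b a = b * z := by
  rw [cv]; en B []

theorem B1.memP (B : B1 t z f a b) {u : G} (hu : u ∈ closure ({z, f} : Set G)) :
    u = 1 ∨ u = f ∨ u = z ∨ u = z * f := by
  rcases mem_ins (B.zz ▸ one_mem _) (by rintro _ rfl; en B []; memc) hu with h | ⟨w, h, rfl⟩ <;>
    rcases mem_one B.ff h with rfl | rfl <;> simp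

theorem B1.memV (B : B1 t z f a b) {u : G} (hu : u ∈ closure ({z, a} : Set G)) :
    u = 1 ∨ u = a ∨ u = z ∨ u = z * a := by
  rcases mem_ins (B.zz ▸ one_mem _) (by rintro _ rfl; en B []; memc) hu with h | ⟨w, h, rfl⟩ <;>
    rcases mem_one B.aa h with rfl | rfl <;> simp

theorem B1.memW (B : B1 t z f a b) {u : G} (hu : u ∈ closure ({z, f, a} : Set G)) :
    u = 1 ∨ u = f ∨ u = z ∨ u = z * f ∨ u = a ∨ u = f * a ∨ u = z * a ∨ u = z * (f * a) := by
  have k : ∀ v ∈ closure ({f, a} : Set G), v = 1 ∨ v = a ∨ v = f ∨ v = f * a := fun v hv => by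
    rcases mem_ins (B.ff ▸ one_mem _) (by rintro _ rfl; en B []; memc) hv with h | ⟨w, h, rfl⟩ <;>
      rcases mem_one B.aa h with rfl | rfl <;> simp
  rcases mem_ins (B.zz ▸ one_mem _) (by rintro _ (rfl | rfl) <;> en B [] <;> memc) hu with
    h | ⟨w, h, rfl⟩ <;> rcases k _ h with rfl | rfl | rfl | rfl <;> simp

theorem B1.memE (B : B1 t z f a b) {u : G} (hu : u ∈ closure ({t, z, f, a} : Set G)) :
    ∃ w ∈ closure ({z, f, a} : Set G), u = w ∨ u = t * w := by
  rcases mem_ins (B.tt ▸ one_mem _) (by rintro _ (rfl | rfl | rfl) <;> en B [] <;> memc) hu with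
    h | ⟨w, h, rfl⟩
  exacts [⟨u, h, .inl rfl⟩, ⟨w, h, .inr rfl⟩]

theorem B1.memT (B : B1 t z f a b) {u : G} (hu : u ∈ closure ({t, f, a, b} : Set G)) :
    ∃ w ∈ closure ({t, z, f, a} : Set G), u = w ∨ u = b * w := by
  have : closure ({t, f, a, b} : Set G) ≤ closure (insert b {t, z, f, a}) :=
    (closure_le _).2 (by rintro _ (rfl | rfl | rfl | rfl) <;> exact subset_closure (by simp))
  rcases mem_ins (B.bb ▸ one_mem _) (by rintro _ (rfl | rfl | rfl | rfl) <;> en B [] <;> memc)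
    (this hu) with h | ⟨w, h, rfl⟩
  exacts [⟨u, h, .inl rfl⟩, ⟨w, h, .inr rfl⟩]

theorem B1.z_eq (B : B1 t z f a b) : z = a * b * a * b := by en B []

theorem B1.cE (B : B1 t z f a b) {u v : G} (hu : u ∈ closure ({t, z, f, a} : Set G))
    (hv : v ∈ closure ({t, z, f, a} : Set G)) : cv u v = u := by
  have : closure ({t, z, f, a} : Set G) ≤ centralizer {u} := (closure_le _).2 fun s hs =>
    mem_centralizer_singleton_iff.2 (cm_of ((cv_eq_closure (k := 1) (by
      rintro _ (rfl | rfl | rfl | rfl) <;> rcases hs with rfl | rfl | rfl | rfl <;> en B [])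
      hu).trans (cv_one' u))).symm
  exact cv_of' (mem_centralizer_singleton_iff.1 (this hv))

theorem B1.mir (B : B1 t z f a b) : B1 t z (f * z) b a where
  tt := B.tt
  zz := B.zz
  ff := by en B []
  aa := B.bb
  bb := B.aa
  zt := B.zt
  ft := B.ft.mul_left B.zt
  at' := B.tb.symm
  tb := B.at'.symm
  fz := B.fz.mul_left (Commute.refl z)
  az := B.zb.symm
  zb := B.az.symm
  af := (B.fb.mul_left B.zb).symm
  fb := B.af.symm.mul_left B.az.symm
  ab := by rw [B.ba, B.zb.eq]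

/-- The relations together with independence. -/
structure B0 (t z f a b : G) : Prop extends B1 t z f a b where
  n : ¬ t = 1 ∧ ¬ z = 1 ∧ ¬ f = 1 ∧ ¬ a = 1 ∧ ¬ t * z = 1 ∧ ¬ t * f = 1 ∧ ¬ t * a = 1 ∧
    ¬ z * f = 1 ∧ ¬ z * a = 1 ∧ ¬ f * a = 1 ∧ ¬ t * (z * f) = 1 ∧ ¬ t * (z * a) = 1 ∧
    ¬ t * (f * a) = 1 ∧ ¬ z * (f * a) = 1 ∧ ¬ t * (z * (f * a)) = 1

theorem B1.b0 (B : B1 t z f a b) (h : Nat.card (closure ({t, z, f, a} : Set G)) = 16) :
    B0 t z f a b := by
  let ψ : Fin 16 → G := ![1, t, z, f, a, t * z, t * f, t * a, z * f, z * a, f * a, t * (z * f),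
    t * (z * a), t * (f * a), z * (f * a), t * (z * (f * a))]
  have m : ∀ i, ψ i ∈ closure ({t, z, f, a} : Set G) := fun i => by
    fin_cases i <;> simp only [ψ] <;> dsimp <;> memc
  let χ : Fin 16 → closure ({t, z, f, a} : Set G) := fun i => ⟨ψ i, m i⟩
  have s : Function.Surjective χ := fun ⟨u, hu⟩ => by
    obtain ⟨w, hw, e⟩ := B.memE hu
    rcases B.memW hw with rfl | rfl | rfl | rfl | rfl | rfl | rfl | rfl <;> rcases e with e | e
    exacts [⟨0, Subtype.ext e.symm⟩, ⟨1, Subtype.ext (e.trans (mul_one _)).symm⟩,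
      ⟨3, Subtype.ext e.symm⟩, ⟨6, Subtype.ext e.symm⟩, ⟨2, Subtype.ext e.symm⟩,
      ⟨5, Subtype.ext e.symm⟩, ⟨8, Subtype.ext e.symm⟩, ⟨11, Subtype.ext e.symm⟩,
      ⟨4, Subtype.ext e.symm⟩, ⟨7, Subtype.ext e.symm⟩, ⟨10, Subtype.ext e.symm⟩,
      ⟨13, Subtype.ext e.symm⟩, ⟨9, Subtype.ext e.symm⟩, ⟨12, Subtype.ext e.symm⟩,
      ⟨14, Subtype.ext e.symm⟩, ⟨15, Subtype.ext e.symm⟩]
  have := ((Nat.bijective_iff_surjective_and_card χ).2 ⟨s, by simp [h]⟩).1
  have k : ∀ i, i ≠ 0 → ¬ ψ i = 1 := fun i hi e => hi (this (Subtype.ext e))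
  exact ⟨B, k 1 (by decide), k 2 (by decide), k 3 (by decide), k 4 (by decide), k 5 (by decide),
    k 6 (by decide), k 7 (by decide), k 8 (by decide), k 9 (by decide), k 10 (by decide),
    k 11 (by decide), k 12 (by decide), k 13 (by decide), k 14 (by decide), k 15 (by decide)⟩

/-- refute an equation between words -/
macro "eno" B:term:max "[" ls:Lean.Parser.Tactic.simpLemma,* "]" e:term : tactic =>
  `(tactic| (have _e := inv_mul_eq_one.2 $e
             en (B0.toB1 $B) [B0.n $B, $ls,*] at _e))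

/-- The element of order three. -/
structure Rr (t z f a r : G) : Prop where
  tr : cv t r = t
  fr : cv f r = f
  zr : cv z r = a
  ar : cv a r = z * a
  od : Odd (orderOf r)

/-- The normaliser of `E`, reduced to a `2`-group `R` acted on by `r` and `b`. -/
structure Sd (t z f a b r : G) (R : Subgroup G) : Prop extends Rr t z f a r where
  nr : ∀ x ∈ R, cv x r ∈ R
  nb : ∀ x ∈ R, cv x b ∈ R
  ER : closure ({t, z, f, a} : Set G) ≤ R
  ker : ∀ x ∈ R, ∀ y ∈ R, cv t x = cv t y → ∃ e ∈ closure ({t, z, f, a} : Set G), y = x * e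
  r3 : ∀ x ∈ R, cv (cv (cv x r) r) r = x
  br : ∃ e ∈ closure ({t, z, f, a} : Set G), ∀ x ∈ R,
    cv (cv x r) b = cv (cv (cv (cv x b) e) r) r

/-- fixes `f`, normalises `W` and `E` -/
def Gd (t z f a k : G) : Prop := cv f k = f ∧ cv z k ∈ closure ({z, f, a} : Set G) ∧
  cv a k ∈ closure ({z, f, a} : Set G) ∧ cv t k ∈ closure ({t, z, f, a} : Set G)

theorem pow_fix {x g : G} (h : cv x g = x) (n : ℕ) : cv x (g ^ n) = x :=
  cv_of ((cm_of h).pow_right n)

theorem fix_of_odd [Finite G] {x c : G} (o : Odd (orderOf c)) (h : cv (cv x c) c = x) :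
    cv x c = x := by
  obtain ⟨k, hk⟩ := o
  have := pow_fix (g := c * c) (by rwa [cv_cv]) (k + 1)
  rwa [← pow_two, ← pow_mul, show 2 * (k + 1) = orderOf c + 1 by omega, pow_succ,
    pow_orderOf_eq_one, one_mul] at this

theorem side [Finite G] (B : B0 t z f a b) (h : Rr t z f a r)
    (syl : IsSyl 2 (closure ({t, z, f, a} : Set G))
      (centralizer ((closure ({t, z, f, a} : Set G) : Subgroup G) : Set G)))
    (aut : ∀ c ∈ centralizer ({t} : Set G),
      c ∈ normalizer ((closure ({t, z, f, a} : Set G) : Subgroup G) : Set G) →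
      ∃ w ∈ closure ({b, r} : Set G), ∀ x ∈ closure ({t, z, f, a} : Set G), cv x c = cv x w)
    (hA : ∀ n ∈ normalizer ((closure ({t, z, f, a} : Set G) : Subgroup G) : Set G),
      ∃ k, Gd t z f a k ∧ cv t k = cv t n)
    {T : Subgroup G} (hT : IsPGroup 2 T)
    (TN : T ≤ normalizer ((closure ({t, z, f, a} : Set G) : Subgroup G) : Set G)) (bT : b ∈ T) :
    ∃ (ρ : G) (R : Subgroup G), Sd t z f a b ρ R ∧ ∀ x ∈ T, (cv z x = z ∨ cv z x = z * f) →
      (cv a x = a ∨ cv a x = f * a) → x ∈ R := by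
  have : Fact (Nat.Prime 2) := ⟨Nat.prime_two⟩
  have B' := B.toB1
  set E := closure ({t, z, f, a} : Set G) with hE
  set W := closure ({z, f, a} : Set G) with hW
  set V := closure ({z, a} : Set G) with hV
  set N := normalizer (E : Set G) with hN
  set C := centralizer (E : Set G) with hC
  have WE : W ≤ E := closure_mono (Set.subset_insert _ _)
  have tE : t ∈ E := m1
  have fW : f ∈ W := m2
  have memC : ∀ c, c ∈ C ↔ ∀ x ∈ E, cv x c = x := fun c =>
    ⟨fun k x hx => cv_of (k x hx), fun k x hx => cm_of (k x hx)⟩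
  have cC : ∀ c, cv t c = t → cv z c = z → cv f c = f → cv a c = a → c ∈ C := fun c h1 h2 h3 h4 =>
    (memC c).2 fun x hx => (cv_eq_closure (k := 1) (by
      rintro _ (rfl | rfl | rfl | rfl) <;> rwa [cv_one']) hx).trans (cv_one' x)
  have w1 : ∀ w ∈ closure ({b, r} : Set G), cv f w = f ∧ ∀ v ∈ V, cv v w ∈ V := fun w hw => by
    have : closure ({b, r} : Set G) ≤ centralizer {f} ⊓ normalizer (V : Set G) := (closure_le _).2 (by
      rintro _ (rfl | rfl)
      · exact ⟨mem_centralizer_singleton_iff.2 B.fb.symm, nrm_of fun v => cv_closure (by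
          rintro _ (rfl | rfl) <;> en B' [] <;> memc)⟩
      · exact ⟨mem_centralizer_singleton_iff.2 (cm_of h.fr).symm, nrm_of fun v => cv_closure (by
          rintro _ (rfl | rfl) <;> en B' [h.zr, h.ar] <;> memc)⟩)
    exact ⟨cv_of' (mem_centralizer_singleton_iff.1 (this hw).1), fun v hv => cv_nrm hv (this hw).2⟩
  have gd : ∀ k, Gd t z f a k → k ∈ N ∧ ∀ w ∈ W, cv w k ∈ W := fun k ⟨h1, h2, h3, h4⟩ => by
    have k1 : ∀ w ∈ W, cv w k ∈ W := fun w => cv_closure (by
      rintro _ (rfl | rfl | rfl)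
      exacts [h2, h1.symm ▸ fW, h3])
    exact ⟨nrm_of fun x => cv_closure (by
      rintro _ (rfl | e)
      exacts [h4, WE (k1 _ (subset_closure e))]), k1⟩
  have VW : V ≤ W := (closure_le _).2 (by rintro _ (rfl | rfl) <;> exact subset_closure (by simp))
  have A : ∀ n ∈ N, cv f n = f ∧ ∀ w ∈ W, cv w n ∈ W := fun n hn => by
    obtain ⟨k, hk, e⟩ := hA n hn
    obtain ⟨w, hw, k1⟩ := aut (n * k⁻¹) (mem_centralizer_singleton_iff.2
      (cm_of (by rw [cv_cv, ← e, ← cv_cv, mul_inv_cancel, cv_one'])).symm)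
      (mul_mem hn (inv_mem (gd k hk).1))
    have k2 : ∀ x ∈ E, cv x n = cv (cv x w) k := fun x hx => by
      rw [← k1 x hx, ← cv_cv, inv_mul_cancel_right]
    refine ⟨by rw [k2 f (WE fW), (w1 w hw).1, hk.1], fun v hv => ?_⟩
    rw [k2 v (WE hv)]
    refine (gd k hk).2 _ (cv_closure ?_ hv)
    rintro _ (rfl | rfl | rfl)
    exacts [VW ((w1 w hw).2 _ m1), (w1 w hw).1.symm ▸ fW,
      VW ((w1 w hw).2 _ (subset_closure (by simp)))]
  let M : Subgroup G :=
    { carrier := {n | n ∈ N ∧ ∀ w ∈ W, cv w n = w ∨ cv w n = w * f}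
      mul_mem' := fun {x y} hx hy => ⟨mul_mem hx.1 hy.1, fun w hw => by
        rcases hx.2 w hw with e | e <;> rcases hy.2 w hw with e' | e' <;>
          simp [cv_cv, e, e', cv_mul, (A y hy.1).1, mul_assoc, B.ff]⟩
      one_mem' := ⟨one_mem _, fun w _ => .inl (cv_one' w)⟩
      inv_mem' := fun {x} hx => ⟨inv_mem hx.1, fun w hw => by
        rcases hx.2 w hw with e | e
        · exact .inl (cv_inv_of e)
        · refine .inr (cv_inv_of ?_)
          rw [cv_mul, e, (A x hx.1).1, mul_assoc, B.ff, mul_one]⟩ }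
  have MN : M ≤ N := fun _ k => k.1
  have nM : N ≤ normalizer (M : Set G) := fun n hn => nrm_of fun x hx =>
    ⟨cv_mem hx.1 hn, fun w hw => by
      have e : cv w (cv x n) = cv (cv (cv w n⁻¹) x) n := by simp [cv, mul_assoc]
      have e' : cv (cv w n⁻¹) n = w := by simp [cv, mul_assoc]
      rcases hx.2 _ ((A _ (inv_mem hn)).2 w hw) with k | k <;> rw [e, k]
      · exact .inl e'
      · exact .inr (by rw [cv_mul, e', (A n hn).1])⟩
  have CN : C ≤ N := centralizer_le_normalizer _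
  have CM : C ≤ M := fun c hc => ⟨CN hc, fun w hw => .inl ((memC c).1 hc w (WE hw))⟩
  have nC : N ≤ normalizer (C : Set G) := normalizer_le_normalizer_centralizer E
  have mM : ∀ x ∈ N, (cv z x = z ∨ cv z x = z * f) → (cv a x = a ∨ cv a x = f * a) → x ∈ M :=
    fun x hx h1 h2 => ⟨hx, fun w hw => by
      rcases B'.memW hw with rfl | rfl | rfl | rfl | rfl | rfl | rfl | rfl <;>
        rcases h1 with h1 | h1 <;> rcases h2 with h2 | h2 <;>
        en B' [h1, h2, (A x hx).1, true_or, or_true]⟩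
  have MC : ∀ x ∈ M, cv t x = t → x ∈ C := fun x hx e => by
    obtain ⟨w, hw, k⟩ := aut x (mem_centralizer_singleton_iff.2 (cm_of e).symm) hx.1
    have k1 : ∀ v ∈ V, cv v x = v := fun v hv => by
      refine (hx.2 v (VW hv)).resolve_right fun e1 => ?_
      have := mul_mem (inv_mem hv) ((w1 w hw).2 v hv)
      rw [← k v (WE (VW hv)), e1, inv_mul_cancel_left] at this
      rcases B'.memV this with e | e | e | e <;> eno B [] e
    exact cC x e (k1 z m1) (A x hx.1).1 (k1 a (subset_closure (by simp)))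
  have pq : PQuot 2 C M := fun x hx => ⟨2, MC _ (pow_mem hx _) (by
    obtain ⟨w, hw, e | e⟩ := B'.memE (cv_nrm tE hx.1)
    · have := (A _ (inv_mem hx.1)).2 w hw
      rw [cv_inv_of e] at this
      rcases B'.memW this with e | e | e | e | e | e | e | e <;> eno B [] e
    · have w2 : w * w = 1 := by
        rcases B'.memW hw with rfl | rfl | rfl | rfl | rfl | rfl | rfl | rfl <;> en B' []
      have e2 : cv t (x * x) = t ∨ cv t (x * x) = t * f := by
        rw [cv_cv, e, cv_mul, e]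
        rcases hx.2 w hw with k | k <;> rw [k] <;> simp [mul_assoc, ri w2]
      rw [show x ^ 2 ^ 2 = x * x * (x * x) by simp [pow_succ, mul_assoc], cv_cv]
      rcases e2 with k | k
      · rw [k, k]
      · rw [k, cv_mul, k, (A _ (mul_mem hx.1 hx.1)).1, mul_assoc, B.ff, mul_one])⟩
  obtain ⟨S, hS, TS⟩ := exists_isSyl_ge hT TN
  have hR : IsSyl 2 (S ⊓ M) M := hS.inf_of_le_normalizer MN nM
  set R := S ⊓ M with hR'
  have EC : E ≤ C := fun x hx => (memC x).2 fun y hy => B'.cE hy hx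
  have ES : E ≤ S := hS.ge_of_le_normalizer syl.isPGroup le_normalizer hS.le
  have ER : E ≤ R := le_inf ES (EC.trans CM)
  have two : ∀ x ∈ C, IsPGroup 2 (zpowers x) → x ∈ E := fun x hx p2 =>
    syl.ge_of_le_normalizer' p2 (zpowers_le.2 hx) ((zpowers_le.2 hx).trans CN) (mem_zpowers x)
  have RC : ∀ x ∈ R, x ∈ C → x ∈ E := fun x hx hc =>
    two x hc (hR.isPGroup.to_le (zpowers_le.2 hx))
  have rN : r ∈ N := nrm_of fun x => cv_closure (by
    rintro _ (rfl | rfl | rfl | rfl) <;> en B' [h.tr, h.fr, h.zr, h.ar] <;> memc)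
  obtain ⟨r0, r0N, r0R, r0E⟩ : ∃ r0 ∈ N, r0 ∈ normalizer (R : Set G) ∧
      ∀ x ∈ E, cv x r0 = cv x r := by
    have := rN
    rw [← hR.frattini MN nM, ← hR.sup_eq_of_pquot CM (MN.trans nC) pq, sup_assoc,
      mem_sup_of_le_normalizer (sup_le (hR.le.trans (MN.trans nC)) (inf_le_left.trans nC))] at this
    obtain ⟨c, hc, n, hn, e⟩ := this
    have k : R ⊔ N ⊓ normalizer (R : Set G) ≤ N ⊓ normalizer (R : Set G) :=
      sup_le (le_inf (hR.le.trans MN) le_normalizer) le_rfl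
    exact ⟨n, (k hn).1, (k hn).2, fun x hx => by rw [← e, cv_cv, (memC c).1 hc x hx]⟩
  have r03 : r0 ^ 3 ∈ C := by
    rw [show r0 ^ 3 = r0 * r0 * r0 by simp [pow_succ]]
    have e1 : cv t r0 = t := (r0E _ tE).trans h.tr
    have e2 : cv f r0 = f := (r0E _ (WE fW)).trans h.fr
    have e3 : cv z r0 = a := (r0E _ m2).trans h.zr
    have e4 : cv a r0 = z * a := (r0E _ (subset_closure (by simp))).trans h.ar
    refine cC _ ?_ ?_ ?_ ?_ <;> en B' [e1, e2, e3, e4]
  obtain ⟨k, hk⟩ := exists_pow_coprime (p := 2) (isOfFinOrder_of_finite r0)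
  obtain ⟨q, hq⟩ : ∃ q, 2 ^ k * 2 ^ k = 3 * q + 1 :=
    ⟨2 ^ k * 2 ^ k / 3, by
      have : (2 ^ k * 2 ^ k) % 3 = 1 := by rw [← mul_pow, Nat.pow_mod]; simp
      omega⟩
  set ρ := (r0 ^ 2 ^ k) ^ 2 ^ k with hρ
  have oρ : Odd (orderOf ρ) :=
    Nat.coprime_two_right.1 (hk.coprime_dvd_left (orderOf_pow_dvd _))
  have ρE : ∀ x ∈ E, cv x ρ = cv x r := fun x hx => by
    rw [hρ, ← pow_mul, hq, pow_succ, pow_mul, cv_cv, (memC _).1 (pow_mem r03 q) x hx, r0E x hx]
  have ρR : ρ ∈ normalizer (R : Set G) := pow_mem (pow_mem r0R _) _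
  have bR : b ∈ normalizer (R : Set G) :=
    le_normalizer_inf le_normalizer (hS.le.trans nM) (TS bT)
  have e1 : cv t ρ = t := (ρE _ tE).trans h.tr
  have e2 : cv f ρ = f := (ρE _ (WE fW)).trans h.fr
  have e3 : cv z ρ = a := (ρE _ m2).trans h.zr
  have e4 : cv a ρ = z * a := (ρE _ (subset_closure (by simp))).trans h.ar
  have key : ∀ c ∈ C, c ∈ normalizer (R : Set G) → Odd (orderOf c) → ∀ x ∈ R, cv x c = x :=
    fun c hc hn o x hx => by
      have k1 : x⁻¹ * cv x c ∈ E := RC _ (mul_mem (inv_mem hx) (cv_nrm hx hn)) (by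
        have := mul_mem (cv_nrm (inv_mem hc) (nC (MN hx.2))) hc
        simpa [cv, mul_assoc] using this)
      have k2 : x⁻¹ * cv x c * (x⁻¹ * cv x c) = 1 := by
        obtain ⟨w, hw, e⟩ := B'.memE k1
        rcases B'.memW hw with rfl | rfl | rfl | rfl | rfl | rfl | rfl | rfl <;>
          rcases e with e | e <;> rw [e] <;> en B' []
      refine fix_of_odd o ?_
      calc _ = cv (x * (x⁻¹ * cv x c)) c := by rw [mul_inv_cancel_left]
        _ = x * (x⁻¹ * cv x c * (x⁻¹ * cv x c)) := by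
            rw [cv_mul, (memC c).1 hc _ k1]; group
        _ = x := by rw [k2, mul_one]
  have r3 : ∀ x ∈ R, cv (cv (cv x ρ) ρ) ρ = x := fun x hx => by
    rw [← cv_cv, ← cv_cv]
    refine key _ (cC _ ?_ ?_ ?_ ?_) (mul_mem ρR (mul_mem ρR ρR)) (oρ.of_dvd_nat ?_) x hx
    any_goals en B' [e1, e2, e3, e4]
    rw [show ρ * (ρ * ρ) = ρ ^ 3 by simp [pow_succ, mul_assoc]]
    exact orderOf_pow_dvd _
  refine ⟨ρ, R, ⟨⟨e1, e2, e3, e4, oρ⟩, fun x hx => cv_nrm hx ρR, fun x hx => cv_nrm hx bR, ER,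
    fun x hx y hy e => ?_, r3, ?_⟩, fun x hx h1 h2 => ⟨TS hx, mM x (TN hx) h1 h2⟩⟩
  · have m := mul_mem hy (inv_mem hx)
    exact ⟨_, cv_nrm (RC _ m (MC _ m.2 (by rw [cv_cv, ← e, ← cv_cv, mul_inv_cancel, cv_one'])))
      (MN hx.2), by simp [cv, mul_assoc]⟩
  · have wC : b * ρ * b * ρ ∈ C := by refine cC _ ?_ ?_ ?_ ?_ <;> en B' [e1, e2, e3, e4]
    have wR : b * ρ * b * ρ ∈ normalizer (R : Set G) := mul_mem (mul_mem (mul_mem bR ρR) bR) ρR
    obtain ⟨u, o, hu, ho, e, ⟨j, hj⟩, h2⟩ := H92.exists_p_parts Nat.prime_two (b * ρ * b * ρ)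
    have uE : u ∈ E := two u (zpowers_le.2 wC hu) (IsPGroup.of_card (by rw [Nat.card_zpowers, hj]))
    refine ⟨u, uE, fun x hx => ?_⟩
    have x1 := cv_nrm hx bR
    have k1 := key o (zpowers_le.2 wC ho) (zpowers_le.2 wR ho)
      (Nat.not_even_iff_odd.1 fun k => h2 k.two_dvd) _ (cv_mem x1 (ER uE))
    rw [← cv_cv _ u, ← e, cv_cv, cv_cv, cv_cv, cv_sq B.bb] at k1
    rw [← k1, r3 _ (cv_nrm (cv_nrm hx ρR) bR)]

end Cfsg.Agent.H36.LTS
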