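import Cfsg.Agent.H36.LTS2

/-! The side analysis in case (c): one side. -/

set_option autoImplicit false

namespace Cfsg.Agent.H36.LTS

open Subgroup Cfsg.Agent.H85

variable {G : Type*} [Group G] {t z f a b r y Y α β p m : G} {R : Subgroup G}

/-- The elements `y`, `Y`. -/
structure Y0 (t z f a b y Y α β : G) : Prop where
  Ay : Ac t z f a y (t * f) z a
  AY : Ac t z f a Y (t * (z * f)) z (α * a)
  yb : cv b y = b * β
  Yb : cv b Y = b
  hα : α = 1 ∨ α = f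
  hβ : β = 1 ∨ β = z * f
  yP : y * y ∈ closure ({z, f} : Set G)
  YP : Y * Y ∈ closure ({z, f} : Set G)
  yZ : y⁻¹ * cv y Y ∈ closure ({t, z, f} : Set G)

/-- The involutions `y`, `Y`. -/
structure Y1 (t z f a b y Y α β p : G) : Prop extends Y0 t z f a b y Y α β where
  yy : y * y = 1
  YY : Y * Y = 1
  yY : cv y Y = y * p
  hp : p ∈ closure ({z, f} : Set G)

theorem B1.P_le (B : B1 t z f a b) :
    closure ({z, f} : Set G) ≤ closure ({z, f * z} : Set G) := (closure_le _).2 (by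
  rintro _ (rfl | rfl)
  · exact m1
  · exact (mul_mem_cancel_right m1).1 (subset_closure (by simp)))

theorem B1.memZ (B : B1 t z f a b) {u : G} (hu : u ∈ closure ({t, z, f} : Set G)) :
    ∃ w ∈ closure ({z, f} : Set G), u = w ∨ u = t * w := by
  rcases mem_ins (B.tt ▸ one_mem _) (by rintro _ (rfl | rfl) <;> en B [] <;> memc) hu with
    h | ⟨w, h, rfl⟩
  exacts [⟨u, h, .inl rfl⟩, ⟨w, h, .inr rfl⟩]

theorem Y0.mir (D : Y0 t z f a b y Y α β) (B : B1 t z f a b) : Y0 t z (f * z) b a Y y β α where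
  Ay := by constructor <;> en B [D.AY.rw, D.Yb]
  AY := by rcases D.hβ with rfl | rfl <;> constructor <;> en B [D.Ay.rw, D.yb]
  yb := by rcases D.hα with rfl | rfl <;> en B [D.AY.rw]
  Yb := D.Ay.ha
  hα := D.hβ.imp_right fun e => e.trans B.fz.eq.symm
  hβ := D.hα.imp_right fun e => by rw [e]; en B []
  yP := B.P_le D.YP
  YP := B.P_le D.yP
  yZ := by
    have : closure ({t, z, f} : Set G) ≤ closure ({t, z, f * z} : Set G) := (closure_le _).2 (by
      rintro _ (rfl | rfl | rfl)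
      exacts [m1, m2, (mul_mem_cancel_right m2).1 (subset_closure (by simp))])
    simpa [cv, mul_assoc] using this (inv_mem D.yZ)

theorem Y1.mir (D : Y1 t z f a b y Y α β p) (B : B1 t z f a b) : Y1 t z (f * z) b a Y y β α p :=
  ⟨D.toY0.mir B, D.YY, D.yy, by
    rw [cvd, ← mul_right_inj Y]
    rcases B.memP D.hp with rfl | rfl | rfl | rfl <;>
      en B [rk D.yY, ri D.yy, ri D.YY, D.Ay.rw, D.AY.rw], B.P_le D.hp⟩

theorem Y0.t1 (D : Y0 t z f a b y Y α β) (B : B1 t z f a b) : Y0 t z f a b (y * t) Y α β :=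
  { D with
    Ay := by constructor <;> en B [D.Ay.rw]
    yb := by rcases D.hβ with rfl | rfl <;> en B [D.yb]
    yP := by
      have := D.yP
      en B [D.Ay.rw]
      rw [← mul_assoc]; memc
    yZ := by
      have := D.yZ
      rw [cv_mul, D.AY.ht, mul_inv_rev, mul_assoc, ← mul_assoc y⁻¹]; memc }

theorem Y0.t2 (D : Y0 t z f a b y Y α β) (B : B1 t z f a b) : Y0 t z f a b y (Y * t) α β :=
  { D with
    AY := by rcases D.hα with rfl | rfl <;> constructor <;> en B [D.AY.rw]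
    Yb := by en B [D.Yb]
    YP := by
      have := D.YP
      en B [D.AY.rw]
      rw [← mul_assoc]; memc
    yZ := by
      obtain ⟨u, hu, e⟩ : ∃ u ∈ closure ({t, z, f} : Set G), cv y Y = y * u := ⟨_, D.yZ, by simp⟩
      rw [cv_cv, e, cvd]
      en B [D.Ay.rw]
      memc }

theorem Y0.y1 (D : Y0 t z f a b y Y α β) (B : B0 t z f a b) (yy : y * y = 1) (YY : Y * Y = 1) :
    ∃ p, Y1 t z f a b y Y α β p := by
  have B' := B.toB1
  refine ⟨y⁻¹ * cv y Y, D, yy, YY, by simp, ?_⟩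
  have e : cv (cv (y⁻¹ * cv y Y) y) Y = y⁻¹ * cv y Y := by
    simp only [cv]; en B' [ri yy, ri YY]
  obtain ⟨w, hw, h | h⟩ := B'.memZ D.yZ
  · exact h ▸ hw
  · rw [h] at e
    rcases B'.memP hw with rfl | rfl | rfl | rfl <;> en B' [D.Ay.rw, D.AY.rw] at e <;> eno B [] e

theorem Y1.ren (D : Y1 t z f a b y Y α β p) (B : B1 t z f a b) {u v : G}
    (hu : u ∈ closure ({z, f} : Set G)) (hv : v ∈ closure ({z, f} : Set G)) :
    Y1 t z f a b (y * u) (Y * v) α β p := by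
  have c : ∀ w ∈ closure ({z, f} : Set G), (cv t w = t ∧ cv z w = z ∧ cv f w = f ∧ cv a w = a ∧
      cv b w = b ∧ cv y w = y) ∧ cv w y = w ∧ cv w Y = w := fun w hw => by
    have h1 := cv_of' (cm_of D.Ay.hz)
    have h2 := cv_of' (cm_of D.Ay.hf)
    rcases B.memP hw with rfl | rfl | rfl | rfl <;> en B [D.Ay.rw, D.AY.rw, and_self, h1, h2]
  have e1 : y * u * (y * u) = 1 := by en B [rk (c u hu).2.1, ri D.yy, B.wr (WE (PW hu))]
  have e2 : Y * v * (Y * v) = 1 := by en B [rk (c v hv).2.2, ri D.YY, B.wr (WE (PW hv))]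
  have pE := WE (t := t) (PW (a := a) D.hp)
  have e3 : cv (y * u) (Y * v) = y * u * p := by
    en B [(c v hv).1, D.yY, (c u hu).2.2, B.cE pE (WE (PW hv)), B.cE (WE (PW hu)) (WE (PW hv)),
      rc (cm_of (B.cE pE (WE (PW hu))))]
  refine ⟨⟨by constructor <;> en B [D.Ay.rw, (c u hu).1], ?_, ?_, by en B [D.Yb, (c v hv).1], D.hα,
    D.hβ, e1 ▸ one_mem _, e2 ▸ one_mem _, ?_⟩, e1, e2, e3, D.hp⟩
  · rcases D.hα with rfl | rfl <;> constructor <;> en B [D.AY.rw, (c v hv).1]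
  · rcases D.hβ with rfl | rfl <;> en B [D.yb, (c u hu).1]
  · rw [e3, inv_mul_cancel_left]
    exact closure_mono (Set.subset_insert _ _) D.hp

theorem ysq (B : B0 t z f a b) (S : Sd t z f a b r R) (hy : y ∈ R) (A : Ac t z f a y (t * f) z a)
    (yP : y * y ∈ closure ({z, f} : Set G)) : y * y = 1 ∨ y * y = f := by
  have B' := B.toB1
  obtain ⟨e, he, k⟩ := S.ker y hy _ (S.nr y hy) (by en B' [(A.cr B' S.toRr).ht, A.rw, S.toRr.rw])
  have k1 : cv (y * y) r = y * e * (y * e) := by rw [cv_mul, k]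
  obtain ⟨w, hw, rfl | rfl⟩ := B'.memE he <;> rcases B'.memP yP with h | h | h | h <;>
    first
    | exact .inl h
    | exact .inr h
    | (rw [h] at k1
       en B' [A.rw, rk (A.W hw), B'.wr (WE hw), rs h, S.toRr.rw] at k1
       eno B [] k1)

theorem ystar (B : B0 t z f a b) (S : Sd t z f a b r R) (hy : y ∈ R)
    (A : Ac t z f a y (t * f) z a) (yy : y * y = 1) (yb : cv b y = b * β)
    (hβ : β = 1 ∨ β = z * f) : ∃ v, cv (y * v) r = y * v ∧
      (β = 1 ∧ (v = 1 ∨ v = z) ∨ β = z * f ∧ (v = a ∨ v = z * a)) := by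
  have B' := B.toB1
  obtain ⟨e, he, k⟩ := S.ker y hy _ (S.nr y hy) (by en B' [(A.cr B' S.toRr).ht, A.rw, S.toRr.rw])
  have k1 : y * e * (y * e) = 1 := by rw [← k, ← cv_mul, yy, cv_one]
  have k2 := S.r3 y hy
  obtain ⟨d, hd, k3⟩ := S.br
  replace k3 := k3 y hy
  have k4 : cv y b = y * β := by rw [cvd]; rcases hβ with rfl | rfl <;> en B' [rk yb, A.rw]
  have k5 : cv y d = y ∨ cv y d = y * f := by
    rw [cvd]
    obtain ⟨w, hw, rfl | rfl⟩ := B'.memE hd <;>
      en B' [A.rw, rk (A.W hw), B'.wr (WE hw), true_or, or_true]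
  have k6 : e = 1 ∨ e = z ∨ e = a ∨ e = z * a := by
    obtain ⟨w, hw, h⟩ := B'.memE he
    rcases B'.memW hw with rfl | rfl | rfl | rfl | rfl | rfl | rfl | rfl <;>
      rcases h with rfl | rfl <;> en B' [A.rw, ri yy, k, S.toRr.rw, true_or, or_true] at k1 k2 ⊢ <;>
      first | eno B [] k1 | eno B [] k2
  have c1 := B'.cE m2 hd
  have c2 := B'.cE m3 hd
  rcases k6 with rfl | rfl | rfl | rfl
  · refine ⟨1, by en B' [k], .inl ⟨hβ.resolve_right ?_, .inl rfl⟩⟩
    rintro rfl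
    rcases k5 with h | h <;> en B' [k, k4, h, c1, c2, S.toRr.rw] at k3 <;> eno B [] k3
  · refine ⟨a, by en B' [k, S.toRr.rw], .inr ⟨hβ.resolve_left ?_, .inl rfl⟩⟩
    rintro rfl
    rcases k5 with h | h <;> en B' [k, k4, h, c1, c2, S.toRr.rw] at k3 <;> eno B [] k3
  · refine ⟨_, ?_, .inr ⟨hβ.resolve_left ?_, .inr rfl⟩⟩
    · en B' [k, S.toRr.rw]
    rintro rfl
    rcases k5 with h | h <;> en B' [k, k4, h, c1, c2, S.toRr.rw] at k3 <;> eno B [] k3
  · refine ⟨z, by en B' [k, S.toRr.rw], .inl ⟨hβ.resolve_right ?_, .inr rfl⟩⟩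
    rintro rfl
    rcases k5 with h | h <;> en B' [k, k4, h, c1, c2, S.toRr.rw] at k3 <;> eno B [] k3

theorem typeT (B : B0 t z f a b) (S : Sd t z f a b r R) (hy : y ∈ R) (hY : Y ∈ R)
    (D : Y1 t z f a b y Y α β p) (hα : α = 1) : p = β ∨ p = z * β := by
  have B' := B.toB1
  subst hα
  have yb : cv y b = y * β := by
    rw [cvd]; rcases D.hβ with rfl | rfl <;> en B' [rk D.yb, D.Ay.rw]
  refine coreX B S (mul_mem hy hY) (by constructor <;> en B' [D.Ay.rw, D.AY.rw]) ?_ ?_ D.hp ?_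
  · rcases D.hβ with rfl | rfl <;> memc
  · rcases D.hβ with rfl | rfl <;> en B' [yb, cv_of' (cm_of D.Yb), D.AY.rw]
  · rcases B'.memP D.hp with rfl | rfl | rfl | rfl <;>
      en B' [rk D.yY, ri D.yy, ri D.YY, D.Ay.rw, D.AY.rw]

theorem bmX (B : B0 t z f a b) (S : Sd t z f a b r R) (hY : Y ∈ R) (hm : m ∈ R)
    (AY : Ac t z f a Y (t * (z * f)) z (f * a)) (YY : Y * Y = 1) (Yb : cv b Y = b)
    (Am : Ac t z f a m (t * (f * a)) (z * f) a) (mm : m * m = 1) (Ym : cv Y m = Y) :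
    cv b m = b * Y ∨ cv b m = b * (Y * f) := by
  have B' := B.toB1
  obtain ⟨e, he, k⟩ := S.ker _ (mul_mem hm hY) _ (S.nb m hm)
    (by en B' [(Am.cb B').ht, Am.rw, AY.rw])
  have k1 : cv b m = b * (Y * cv e m) := by
    rw [cvd, mul_assoc, inv_mul_eq_iff_eq_mul] at k
    rw [cvd, (ri mm).1, k, cvd]
    en B' [ri mm, rk Ym]
  have k2 : cv b m * cv b m = 1 := by rw [← cv_mul, B.bb, cv_one]
  have k3 : cv (cv b m) m = b := cv_sq mm
  obtain ⟨w, hw, h⟩ := B'.memE he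
  rcases B'.memW hw with rfl | rfl | rfl | rfl | rfl | rfl | rfl | rfl <;>
    rcases h with rfl | rfl <;> en B' [Am.rw] at k1 <;>
    en B' [k1, Am.rw, AY.rw, Ym, ri YY, rk Yb, true_or, or_true] at k2 k3 ⊢ <;>
    first | eno B [] k2 | eno B [] k3

theorem sideX (B : B0 t z f a b) (S : Sd t z f a b r R) (hy : y ∈ R) (hY : Y ∈ R)
    (D : Y1 t z f a b y Y α β p) (hα : α = f) :
    ∃ m, (m = cv Y r ∨ m = cv Y r * a) ∧ m * m = 1 ∧ Ac t z f a m (t * (f * a)) (z * f) a ∧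
      cv Y m = Y ∧ (cv b m = b * Y ∨ cv b m = b * (Y * f)) ∧
      (β = 1 ∧ p = 1 ∨ β = z * f ∧ p = f ∨ (β = 1 ∧ p = z * f ∨ β = z * f ∧ p = z) ∧
        (cv y m = y * a ∨ cv y m = y * (f * a))) := by
  have B' := B.toB1
  subst hα
  have AY := D.AY
  have A0 := AY.cr B' S.toRr
  have R0 := S.nr Y hY
  obtain ⟨v, vr, hv⟩ := ystar B S hy D.Ay D.yy D.yb D.hβ
  have q0 : cv Y r * cv Y r = 1 := by rw [← cv_mul, D.YY, cv_one]
  have s0 : cv (y * v) (cv Y r) = cv (cv (y * v) Y) r := by rw [← cv_conj, vr]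
  generalize cv Y r = m at A0 R0 q0 s0
  en B' [S.toRr.rw] at A0
  have A1 := A0.cr B' S.toRr
  have R1 := S.nr m R0
  have q1 : cv m r * cv m r = 1 := by rw [← cv_mul, q0, cv_one]
  have s1 : cv (y * v) (cv m r) = cv (cv (y * v) m) r := by rw [← cv_conj, vr]
  en B' [S.toRr.rw] at A1
  obtain ⟨e, he, k⟩ := S.ker _ (mul_mem hY R0) _ R1 (by en B' [A1.ht, A0.rw, AY.rw])
  rw [k] at q1 s1
  have k0 : cv (cv e Y) m * e = m * (Y * (m * Y)) := by
    rw [← mul_one (m * _), ← q1]; simp only [cv]; en B' [ri q0, ri D.YY]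
  have k1 : cv Y m = cv (cv e Y) m * e * Y := by rw [k0, cvd]; en B' [ri q0, ri D.YY]
  have k2 : cv (cv (cv e Y) m * e) Y = (cv (cv e Y) m * e)⁻¹ := by
    rw [k0, cvd]; en B' [ri q0, ri D.YY]
  have k3 : e ∈ closure ({z, α, a} : Set G) ∧ (cv Y m = Y ∨ cv Y m = Y * α) := by
    obtain ⟨w, hw, h⟩ := B'.memE he
    rcases B'.memW hw with rfl | rfl | rfl | rfl | rfl | rfl | rfl | rfl <;>
      rcases h with rfl | rfl <;> en B' [A0.rw, AY.rw] at k1 k2 <;>
      first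
      | exact ⟨hw, .inl k1⟩
      | exact ⟨hw, .inr k1⟩
      | eno B [] k2
  have ye : cv y e = y := cv_of' (cm_of (D.Ay.W k3.1))
  have k4 : β = 1 ∧ p = 1 ∨ β = z * α ∧ p = α ∨ (β = 1 ∧ p = z * α ∨ β = z * α ∧ p = z) ∧
      (cv y m = y * a ∨ cv y m = y * (α * a)) := by
    rw [cv_cv, cv_cv] at s1
    have c4 := B'.cE (u := a) (by memc) he
    have s2 : cv y m = cv (cv (y * v) Y) r * (cv v m)⁻¹ := by rw [← s0, cv_mul, mul_inv_cancel_right]
    have s3 : cv y r = y * v * (cv v r)⁻¹ := by rw [← vr, cv_mul, mul_inv_cancel_right]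
    rcases hv with ⟨rfl, rfl | rfl⟩ | ⟨rfl, rfl | rfl⟩ <;>
      rcases B'.memP D.hp with rfl | rfl | rfl | rfl <;>
      en B' [S.toRr.rw] at s3 <;> en B' [D.yY, s3, S.toRr.rw, A0.rw, AY.rw] at s2 <;>
      en B' [D.yY, s2, s3, S.toRr.rw, A0.rw, AY.rw, ye, B'.cE m2 he, B'.cE m3 he,
        c4, true_and, and_true, true_or, or_true] at s1 ⊢ <;>
      eno B [] s1
  rcases k3.2 with h | h
  · exact ⟨m, .inl rfl, q0, A0, h, bmX B S hY R0 AY D.YY D.Yb A0 q0 h, k4⟩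
  · have A2 : Ac t z α a (m * a) (t * (α * a)) (z * α) a := by constructor <;> en B' [A0.rw]
    have q2 : m * a * (m * a) = 1 := by en B' [A0.rw, ri q0]
    have Ya : cv Y a = Y * α := by rw [cvd]; en B' [AY.rw]
    have h2 : cv Y (m * a) = Y := by en B' [h, Ya]
    refine ⟨m * a, .inr rfl, q2, A2, h2,
      bmX B S hY (mul_mem R0 (S.ER (by memc))) AY D.YY D.Yb A2 q2 h2,
      k4.imp_right (.imp_right (.imp_right fun k => ?_))⟩
    rcases k with k | k <;> en B' [k, cv_of' (cm_of D.Ay.ha), true_or, or_true]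

theorem sideQ (B : B0 t z f a b) (S : Sd t z f a b r R) (hy : y ∈ R) (hY : Y ∈ R)
    (D : Y1 t z f a b y Y 1 (z * f) f) :
    ∃ m v w, (v = a ∨ v = z * a) ∧ cv (y * v) r = y * v ∧ cv (y * Y * t) r = m ∧
      w ∈ closure ({z, f, a} : Set G) ∧ cv m r = m * (y * Y * t) * w ∧ m * m = f * a ∧
      Ac t z f a m (t * a) z a ∧ cv y m = y ∧ cv Y m = Y * (f * a) ∧
      (cv b m = b * t * y * Y ∨ cv b m = b * t * y * Y * f) := by
  have B' := B.toB1
  have Ay := D.Ay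
  have AY := D.AY
  obtain ⟨v, vr, hv⟩ := ystar B S hy D.Ay D.yy D.yb D.hβ
  replace hv := (hv.resolve_left fun e => by eno B [] e.1).2
  have yb : cv y b = y * (z * f) := by rw [cvd]; en B' [rk D.yb, Ay.rw]
  obtain ⟨k, ek⟩ : ∃ k, y * Y * t = k := ⟨_, rfl⟩
  have kR : k ∈ R := ek ▸ mul_mem (mul_mem hy hY) (S.ER m1)
  have Ak : Ac t z f a k (t * z) z a := by rw [← ek]; constructor <;> en B' [Ay.rw, AY.rw]
  have kk : k * k = z * f := by rw [← ek]; en B' [rk D.yY, ri D.yy, ri D.YY, Ay.rw, AY.rw]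
  have kb : cv k b = k * (z * f) := by rw [← ek]; en B' [yb, cv_of' (cm_of D.Yb), AY.rw]
  have yk : cv y k = y := by
    rw [← ek, cv_cv, cv_cv, cv_self, D.yY, cvd]; en B' [Ay.rw]
  have eY : Y = y * (k * t) := by rw [← ek]; en B' [ri D.yy]
  have uk : cv (y * v) k = y * v := by rcases hv with rfl | rfl <;> en B' [yk, Ak.rw]
  have Am := Ak.cr B' S.toRr
  have mR := S.nr k kR
  have mm : cv k r * cv k r = f * a := by rw [← cv_mul, kk]; en B' [S.toRr.rw]
  have um : cv (y * v) (cv k r) = y * v := by simpa only [vr] using cv_tr uk r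
  have r3 := S.r3 k kR
  obtain ⟨d, hd, k3⟩ := S.br
  have k4 := k3 _ (mul_mem hy (S.ER (by rcases hv with rfl | rfl <;> memc : v ∈ _)))
  replace k3 := k3 k kR
  obtain ⟨m, em⟩ : ∃ m, cv k r = m := ⟨_, rfl⟩
  rw [em] at Am mR mm um r3 k3
  en B' [S.toRr.rw] at Am
  have ym : cv y m = y := by rcases hv with rfl | rfl <;> simpa [cv_mul, Am.rw] using um
  have Al := Am.cr B' S.toRr
  have ul : cv (y * v) (cv m r) = y * v := by simpa only [vr] using cv_tr um r
  en B' [S.toRr.rw] at Al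
  obtain ⟨e, he, el⟩ := S.ker _ (mul_mem mR kR) _ (S.nr m mR) (by en B' [Al.ht, Am.rw, Ak.rw])
  have yt : ∀ w ∈ closure ({z, f, a} : Set G), cv (y * v) (t * w) = y * v * f := fun w hw => by
    rw [cvd]
    rcases hv with rfl | rfl <;> en B' [Ay.rw, rk (Ay.W hw), B'.wr (WE hw)]
  have eW : e ∈ closure ({z, f, a} : Set G) := by
    obtain ⟨w, hw, rfl | rfl⟩ := B'.memE he
    · exact hw
    · rw [el, cv_cv, cv_cv _ m, um, uk, yt w hw] at ul
      eno B [] ul
  have dW : d ∈ closure ({z, f, a} : Set G) := by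
    obtain ⟨w, hw, rfl | rfl⟩ := B'.memE hd
    · exact hw
    · have : cv (y * v) b = y * v * f := by rcases hv with rfl | rfl <;> en B' [yb]
      rw [vr, this, cv_mul _ f, yt w hw, B'.cE m3 hd, mul_assoc _ f f, B.ff, mul_one, vr,
        vr] at k4
      eno B [] k4
  en B' [kb, cv_of' (cm_of (Ak.W dW)), B'.cE m2 hd, B'.cE m3 hd, em, el, S.toRr.rw] at k3
  obtain ⟨l, ml⟩ : ∃ l, cv m r = l := ⟨_, rfl⟩
  have e0 := ml.symm.trans el
  have e1 := congrArg (cv · r) e0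
  rw [ml] at r3
  simp only [cv_mul, r3, ml, em] at e1
  have e2 := congrArg (cv · r) e1
  simp only [cv_mul, r3, ml, em] at e2
  rw [e0] at e1 e2
  have mi : m⁻¹ = m * (f * a) := inv_eq_of_mul_eq_one_right (by en B' [rs mm, Am.rw])
  have ki : k⁻¹ = k * (z * f) := inv_eq_of_mul_eq_one_right (by en B' [rs kk, Ak.rw])
  have h1 : cv k m = m⁻¹ * m⁻¹ * k * (cv e r)⁻¹ * e⁻¹ :=
    calc _ = m⁻¹ * m⁻¹ * (m * k * e * m * cv e r) * (cv e r)⁻¹ * e⁻¹ := by
          rw [cvd]; en B' [rk (Am.W eW)]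
      _ = _ := by rw [← e1]
  have h2 : cv k m = (cv (cv e r) r)⁻¹ * e⁻¹ * k⁻¹ :=
    calc _ = m⁻¹ * (k * (m * k * e) * cv (cv e r) r) * (cv (cv e r) r)⁻¹ * e⁻¹ * k⁻¹ := by
          rw [cvd]; group
      _ = _ := by rw [← e2, inv_mul_cancel, one_mul]
  have k5 : cv k m = k * f ∧ (e = z * a ∨ e = z * (f * a)) := by
    rcases B'.memW eW with rfl | rfl | rfl | rfl | rfl | rfl | rfl | rfl <;>
      en B' [mi, ki, rs mm, Am.rw, Ak.rw, S.toRr.rw] at h1 h2 <;>
      first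
      | exact ⟨h1, .inl rfl⟩
      | exact ⟨h1, .inr rfl⟩
      | eno B [] (h1.symm.trans h2)
  refine ⟨m, v, e, hv, vr, ek ▸ em, eW, ek ▸ el, mm, Am, ym, ?_, ?_⟩
  · rw [eY]; en B' [ym, k5.1, Am.rw]
  · have : cv b m = m⁻¹ * (cv m b * b) := by simp only [cv]; en B' []
    rw [this, k3, eY]
    have bk : cv b k = b * (z * f) := by
      have : cv b k = k⁻¹ * (cv k b * b) := by simp only [cv]; en B' []
      rw [this, kb]; en B' []
    rcases k5.2 with rfl | rfl <;>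
      en B' [rk yk, Ay.rw, Ak.rw, rk D.yb, rk bk, ri D.yy, true_or, or_true]

theorem tyE {x l u : G} (B : B0 t z f a b) (N : SN t z f a b r x m l) (ur : cv u r = u)
    (ut : cv u t = u * f) (ua : cv u a = u) (ux : cv u x = u) : ¬ m * l = x * (t * a) := fun e => by
  have um : cv u m = u := by simpa only [ur, N.xr] using cv_tr ux r
  have ul : cv u l = u := by simpa only [ur, N.mr] using cv_tr um r
  have := congrArg (cv u) e
  en B.toB1 [um, ul, ux, ut, ua] at this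
  eno B [] this

theorem tyH {x l u : G} (B : B0 t z f a b) (N : SN t z f a b r x m l) (ur : cv u r = u)
    (ux : cv u x = u * (z * f)) : ¬ m * l = x := fun e => by
  have um := cv_tr ux r
  en B.toB1 [ur, N.xr, N.toRr.rw] at um
  have ul := cv_tr um r
  en B.toB1 [ur, N.mr, N.toRr.rw] at ul
  have := congrArg (cv u) e
  en B.toB1 [um, ul, ux, (N.Al B.toB1).rw] at this
  eno B [] this

end Cfsg.Agent.H36.LTS
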