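import Cfsg.Agent.H93.LT4Defs
import Cfsg.Agent.S0254

/-! Standard subgroups with Sylow subgroup `D₈`: the case of a four-group in a conjugate of the
centralizer. -/

set_option autoImplicit false

namespace Cfsg.Agent.H36.LtU

open Subgroup Cfsg.Agent.H85 Cfsg.Agent.H93.LT Cfsg.Agent.H10.LT

universe u

variable {G : Type u} [Group G]

theorem cn_comm {a b : G} (x : G) : cn a x * cn b x = cn b x * cn a x ↔ a * b = b * a := by
  rw [← cn_mul, ← cn_mul]
  exact ⟨fun h => by simpa using h, fun h => by rw [h]⟩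

theorem cn_eq_one {a x : G} : cn a x = 1 ↔ a = 1 := by
  simp [cn, mul_assoc, inv_mul_eq_one]

theorem cn_inv' (a x : G) : cn a⁻¹ x = (cn a x)⁻¹ := by simp [cn, mul_assoc]

theorem cn_cn' (a g x : G) : cn (cn a g) x = cn (cn a x) (cn g x) := by simp [cn, mul_assoc]

theorem ab27 [Finite G] {w w1 r : G} {i : ℕ} (h1 : w ^ 3 = 1) (h2 : w1 ^ 3 = 1) (h3 : r ^ 3 ^ i = 1)
    (c1 : w * w1 = w1 * w) (c2 : w * r = r * w) (c3 : w1 * r = r * w1) (n1 : w ≠ 1)
    (n2 : w1 ∉ zpowers w) (n3 : r ∉ zpowers w ⊔ zpowers w1) :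
    ∃ P ≤ zpowers w ⊔ zpowers w1 ⊔ zpowers r, Nat.card P = 27 ∧ IsMulCommutative P := by
  have : Fact (Nat.Prime 3) := ⟨Nat.prime_three⟩
  set Q := zpowers w ⊔ zpowers w1 ⊔ zpowers r
  have k : ∀ g, g * w = w * g → g * w1 = w1 * g → g * r = r * g → zpowers g ≤ centralizer Q :=
    fun g a b c => zpowers_le.2 (mem_centralizer_iff.2 fun y hy => (c1' g).1
      ((sup_le (sup_le (zpowers_le.2 ((c1' g).2 a.symm)) (zpowers_le.2 ((c1' g).2 b.symm)))
        (zpowers_le.2 ((c1' g).2 c.symm)) : Q ≤ centralizer {g}) hy))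
  have hQ : Q ≤ centralizer Q := sup_le (sup_le (k w rfl c1 c2) (k w1 c1.symm rfl c3))
    (k r c2.symm c3.symm rfl)
  have p : ∀ (g : G) (j : ℕ), g ^ 3 ^ j = 1 → IsPGroup 3 (zpowers g) := fun g j h y => by
    obtain ⟨_, n, rfl⟩ := y
    exact ⟨j, Subtype.ext (by
      show (g ^ n) ^ 3 ^ j = 1
      rw [← zpow_natCast, ← zpow_mul, mul_comm, zpow_mul, zpow_natCast, h, one_zpow])⟩
  have nn : ∀ {A B : Subgroup G}, A ≤ Q → B ≤ Q → A ≤ normalizer B := fun hA hB =>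
    (hA.trans (hQ.trans (centralizer_le hB))).trans (centralizer_le_normalizer _)
  have p1 := p w 1 (by simpa using h1)
  have p2 : IsPGroup 3 ↥(zpowers w ⊔ zpowers w1) := p1.to_sup_of_normal_right'
    (p w1 1 (by simpa using h2)) (nn (le_sup_left.trans le_sup_left) (le_sup_right.trans le_sup_left))
  have p3 : IsPGroup 3 Q := p2.to_sup_of_normal_right' (p r i h3) (nn le_sup_left le_sup_right)
  obtain ⟨a, ha⟩ := p1.exists_card_eq
  obtain ⟨b, hb⟩ := p2.exists_card_eq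
  obtain ⟨c, hc⟩ := p3.exists_card_eq
  have lt : ∀ {A B : Subgroup G}, A ≤ B → ∀ g ∈ B, g ∉ A → Nat.card A < Nat.card B :=
    fun {A B} h g h1 h2 => lt_of_not_ge fun e => h2 (eq_of_le_of_card_ge h e ▸ h1)
  have l1 := lt (bot_le : ⊥ ≤ zpowers w) w (mem_zpowers w) (by simpa using n1)
  have l2 := lt (le_sup_left : _ ≤ zpowers w ⊔ zpowers w1) w1 (mem_sup_right (mem_zpowers _)) n2
  have l3 := lt (le_sup_left : _ ≤ Q) r (mem_sup_right (mem_zpowers _)) n3
  rw [card_bot, ha, ← pow_zero 3] at l1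
  rw [ha, hb] at l2
  rw [hb, hc] at l3
  rw [Nat.pow_lt_pow_iff_right (by norm_num)] at l1 l2 l3
  obtain ⟨K, hK⟩ := Sylow.exists_subgroup_card_pow_prime (G := Q) 3 (n := 3)
    (hc ▸ pow_dvd_pow 3 (by omega))
  refine ⟨K.map Q.subtype, map_subtype_le _, by rw [card_map_of_injective Q.subtype_injective, hK]; rfl,
    le_centralizer_iff_isMulCommutative.1
      ((map_subtype_le _).trans (hQ.trans (centralizer_le (map_subtype_le _))))⟩
where c1' (g : G) {y : G} : y ∈ centralizer {g} ↔ y * g = g * y := mem_centralizer_singleton_iff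

variable (h : Up G)

theorem inN {u m : G} (u2 : u * u = 1) (u1 : u ≠ 1) (hu : cn u h.x ∈ h.toSt.K)
    (c : u * m = m * u) : cn m h.x ∈ h.toSt.N :=
  h.ti (cn u h.x) _ (by rw [← cn_mul, u2, cn_eq_one]) (mt cn_eq_one.1 u1) hu
    (by rwa [cn_of ((cn_comm h.x).2 c)])

theorem DA : h.D ≤ h.A := h.sylD.le

theorem mem_cen {w : h.A} : w ∈ center h.A ↔ (w : G) ∈ h.toSt.K := by
  rw [mem_center_iff]
  exact ⟨fun e g hg => congrArg Subtype.val (e ⟨g, hg⟩), fun e g => Subtype.ext (e g g.2)⟩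

theorem cen_sq [Finite G] {w : h.A} (hw : w ∈ center h.A) (h2 : w * w = 1) : w = 1 := by
  have h1 := pow_card_eq_one' (x := (⟨w, hw⟩ : center h.A))
  obtain ⟨k, hk⟩ := h.sd.2.1
  have h3 : w ^ (2 * k + 1) = 1 := by rw [← hk]; exact congrArg Subtype.val h1
  rwa [pow_succ, pow_mul, pow_two, h2, one_pow, one_mul] at h3

theorem seven_or_nine [Finite G] (hf : UpF h) (dk : DkStmt) {F : Type} [Field F] [Fintype F]
    (hq : Fintype.card F % 16 = 7 ∨ Fintype.card F % 16 = 9) (e : h.A ⧸ center h.A ≃* L2 F) :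
    Fintype.card F = 7 ∨ Fintype.card F = 9 := by
  let π : h.A →* L2 F := e.toMonoidHom.comp (QuotientGroup.mk' _)
  have πs : Function.Surjective π := e.surjective.comp (QuotientGroup.mk'_surjective _)
  have πk : ∀ g, π g = 1 ↔ g ∈ center h.A := fun g =>
    e.map_eq_one_iff.trans (QuotientGroup.eq_one_iff _)
  let M : Subgroup h.A := (h.toSt.N.comap (MulAut.conj h.x⁻¹).toMonoidHom).subgroupOf h.A
  have mM : ∀ g : h.A, g ∈ M ↔ cn (g : G) h.x ∈ h.toSt.N := fun g => by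
    simp [M, mem_subgroupOf, cn]
  obtain ⟨a2, z2, z1, -, -, az, a1, -⟩ := h.d8.rel
  have za := h.d8.zc h.d8.aD
  have ZM : center h.A ≤ M := fun w hw =>
    (mM w).2 (inN h z2 z1 h.zx ((mem_cen h).1 hw _ (DA h h.d8.zD)))
  have key : ∀ u : h.A, (u : G) * u = 1 → (u : G) ≠ 1 → cn (u : G) h.x ∈ h.toSt.K →
      orderOf (π u) = 2 ∧ centralizer {π u} ≤ M.map π := fun u u2 u1 hu => by
    have u2' : u * u = 1 := Subtype.ext u2
    refine ⟨orderOf_eq_prime (by rw [pow_two, ← map_mul, u2', map_one]) fun e =>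
      u1 (congrArg Subtype.val (cen_sq h ((πk u).1 e) u2')), fun y hy => ?_⟩
    obtain ⟨m, rfl⟩ := πs y
    refine mem_map_of_mem π ((mM m).2 (inN h u2 u1 hu ?_))
    have h1 : u * (m * u * m⁻¹) ∈ center h.A := (πk _).1 (by
      rw [map_mul, map_mul, map_mul, c1.1 hy, map_inv, mul_inv_cancel_right, ← map_mul, u2', map_one])
    have h2 := cen_sq h h1 (by
      have := mem_center_iff.1 h1 u
      rw [← mul_assoc, u2', one_mul] at this
      rw [mul_assoc u, ← mul_assoc (m * u * m⁻¹), ← mul_assoc u, ← mul_assoc u, ← this, conj_mul, u2',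
        mul_one, mul_inv_cancel])
    have h3 : m * u * m⁻¹ = u := by
      rw [← inv_eq_of_mul_eq_one_right h2, inv_eq_of_mul_eq_one_right u2']
    exact congrArg Subtype.val (mul_inv_eq_iff_eq_mul.1 h3).symm
  let z : h.A := ⟨h.z, DA h h.d8.zD⟩
  let a : h.A := ⟨h.a, DA h h.d8.aD⟩
  have kz := key z z2 z1 h.zx
  have ka := key a a2 a1 h.ax
  have az2 : h.a * h.z * (h.a * h.z) = 1 := by
    rw [mul_assoc, ← mul_assoc h.z, za, mul_assoc, z2, mul_one, a2]
  have az1 : h.a * h.z ≠ 1 := fun e => az (by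
    rw [eq_inv_of_mul_eq_one_left e, inv_eq_of_mul_eq_one_right z2])
  have kaz := key (a * z) az2 az1 (by
    rw [coe_mul, cn_mul]; exact mul_mem h.ax h.zx)
  rcases dk F hq (M.map π) (π z) (π a) kz.1 ka.1 (fun e => by
      have := kaz.1
      rw [map_mul, ← e, ← map_mul, show z * z = 1 from Subtype.ext z2, map_one, orderOf_one] at this
      omega)
    (Commute.map (Subtype.ext za : Commute z a) π) kz.2 ka.2 (map_mul π a z ▸ kaz.2) with e | e
  · obtain ⟨m, hm, hm'⟩ := hf.ne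
    have : (⟨m, hm⟩ : h.A) ∈ (M.map π).comap π := e ▸ mem_top _
    rw [comap_map_eq_self fun g hg => ZM ((πk g).1 hg)] at this
    exact absurd ((mM _).1 this) hm'
  · exact e

theorem no_three [Finite G] (hf : UpF h) (c3 : Nat.card (center h.A) = 3)
    (nab : ∀ P : Subgroup G, P ≤ h.A → Nat.card P = 27 → ¬ IsMulCommutative P)
    (inv : ∀ w ∈ h.A ⊓ h.toSt.K, cn w (cn h.b h.x) = w⁻¹) : False := by
  classical
  have : Fact (Nat.Prime 3) := ⟨Nat.prime_three⟩
  obtain ⟨a2, z2, z1, -, -, az, a1, -⟩ := h.d8.rel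
  have zA := DA h h.d8.zD
  have bA := DA h h.d8.symm.aD
  have xN : h.x * h.x ∈ h.toSt.N := h.syl.le h.xx
  have nK : ∀ {g w : G}, g ∈ h.toSt.N → w ∈ h.A ⊓ h.toSt.K → cn w g ∈ h.A ⊓ h.toSt.K :=
    fun hg hw => ⟨cn_mem hg hw.1, cn_mem (normalizer_le_normalizer_centralizer _ hg) hw.2⟩
  have cZ : Nat.card ↥(h.A ⊓ h.toSt.K) = 3 := by
    rw [← c3, ← card_map_of_injective h.A.subtype_injective]
    congr 2
    ext g
    exact ⟨fun e => ⟨⟨g, e.1⟩, (mem_cen h).2 e.2, rfl⟩, fun ⟨w, hw, e⟩ =>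
      e ▸ ⟨w.2, (mem_cen h).1 hw⟩⟩
  have w3 : ∀ w ∈ h.A ⊓ h.toSt.K, w ^ 3 = 1 := fun w hw => by
    rw [← cZ]; exact congrArg Subtype.val (pow_card_eq_one' (x := (⟨w, hw⟩ : ↥(h.A ⊓ h.toSt.K))))
  obtain ⟨⟨w, hw⟩, w1⟩ := (ne_bot_iff_exists_ne_one (H := h.A ⊓ h.toSt.K)).1 fun e => by
    rw [e, card_bot] at cZ; omega
  replace w1 : w ≠ 1 := fun e => w1 (Subtype.ext e)
  have wN := inN h z2 z1 h.zx (hw.2 _ zA)
  have fA : cn (cn h.b h.x) h.x ∈ h.A := cn_cn h.b h.x h.x ▸ cn_mem xN bA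
  have e1 : cn (cn w h.x) (cn (cn h.b h.x) h.x) = (cn w h.x)⁻¹ := by
    rw [← cn_cn', inv w hw, cn_inv']
  have v3 : cn w h.x ^ 3 = 1 := by
    rw [pow_three, ← cn_mul, ← cn_mul, ← pow_three, w3 w hw, cn_eq_one]
  have hw2 : cn (cn w h.x) h.x ∈ h.A ⊓ h.toSt.K := cn_cn w h.x h.x ▸ nK xN hw
  have v1 : cn w h.x ≠ 1 := mt cn_eq_one.1 w1
  generalize cn (cn h.b h.x) h.x = f at fA e1
  generalize cn w h.x = v at wN e1 v3 hw2 v1
  have vA : v ∈ h.A := by
    have := mul_mem (cn_mem wN (inv_mem fA)) fA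
    rwa [show cn f⁻¹ v * f = v⁻¹ * cn v f by simp [cn, mul_assoc], e1, ← mul_inv_rev,
      inv_eq_of_mul_eq_one_left (show v * (v * v) = 1 by rw [← pow_three, v3])] at this
  have vK : v ∉ zpowers w := fun e => by
    have hv : v ∈ h.toSt.K := zpowers_le.2 hw.2 e
    rw [cn_of (hv f fA).symm, eq_inv_iff_mul_eq_one] at e1
    rw [pow_three, e1, mul_one] at v3
    exact v1 v3
  have vz : v * h.z = h.z * v := (cn_comm h.x).1 (h.zx _ hw2.1)
  have vr : v * h.r = h.r * v := by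
    rw [← cn_comm h.x]
    have ro : Odd (orderOf (cn h.r h.x)) := by
      have := orderOf_injective (MulAut.conj h.x⁻¹).toMonoidHom (MulAut.conj h.x⁻¹).injective h.r
      simp only [MulEquiv.coe_toMonoidHom, MulAut.conj_apply, inv_inv] at this
      exact this ▸ h.hr.odd
    have rN := hf.rN
    have u1 : cn v h.x ≠ 1 := mt cn_eq_one.1 v1
    generalize cn h.r h.x = ρ at ro rN
    generalize cn v h.x = u at hw2 u1
    have o3 : orderOf u = 3 := orderOf_eq_prime (w3 u hw2) u1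
    have e : zpowers u = h.A ⊓ h.toSt.K :=
      eq_of_le_of_card_ge (zpowers_le.2 hw2) (by rw [cZ, Nat.card_zpowers, o3])
    have hu := nK rN hw2
    rw [← e, mem_zpowers_iff_mem_range_orderOf, o3, Finset.mem_image] at hu
    obtain ⟨k, hk, hu⟩ := hu
    refine (c1.1 (mem_of_odd (Z := centralizer {u}) ro (by rw [pow_orderOf_eq_one]; exact one_mem _)
      (c1.2 (of_cn ?_).symm))).symm
    rw [Finset.mem_range] at hk
    rw [cn_cn, ← hu]
    interval_cases k
    · exact absurd (cn_eq_one.1 (hu.symm.trans (pow_zero u))) u1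
    · rw [pow_one] at hu ⊢; exact hu.symm
    · rw [pow_two, cn_mul, ← hu, ← pow_add, pow_succ, w3 u hw2, one_mul]
  obtain ⟨i, m, hm, e⟩ := Nat.exists_eq_pow_mul_and_not_dvd (orderOf_pos h.r).ne' 3 (by norm_num)
  obtain ⟨P, hP, cP, aP⟩ := ab27 (r := h.r ^ m) (i := i) (w3 w hw) v3
    (by rw [← pow_mul, mul_comm, ← e, pow_orderOf_eq_one]) (hw.2 v vA).symm
    (hw.2 _ (pow_mem h.hr.mem m)).symm ((show Commute v h.r from vr).pow_right m) w1 vK fun k => by
      have k1 : h.r ^ m ∈ centralizer {h.z} :=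
        sup_le (zpowers_le.2 (c1.2 (hw.2 _ zA).symm)) (zpowers_le.2 (c1.2 vz)) k
      have k3 : h.r ^ 3 ∈ centralizer {h.z} := c1.2 (of_cn (by
        rw [pow_three, cn_cn, cn_cn, h.hr.zr, h.hr.ar, cn_mul, h.hr.zr, h.hr.ar, mul_assoc,
          h.d8.zc h.d8.aD, ← mul_assoc, a2, one_mul])).symm
      have k4 : h.r ∈ centralizer {h.z} := by
        have := mul_mem k1 (inv_mem (pow_mem k3 (m / 3)))
        rw [← pow_mul, ← pow_sub _ (Nat.mul_div_le m 3), ← Nat.mod_def] at this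
        have h3 : m % 3 = 1 ∨ m % 3 = 2 := by omega
        rcases h3 with h3 | h3 <;> rw [h3] at this
        · rwa [pow_one] at this
        · simpa [pow_succ] using mul_mem k3 (inv_mem this)
      exact az (h.hr.zr.symm.trans (cn_of (c1.1 k4).symm))
  exact nab P (hP.trans (sup_le (sup_le (zpowers_le.2 hw.1) (zpowers_le.2 vA))
    (zpowers_le.2 (pow_mem h.hr.mem m)))) cP aP

theorem upA (u3 : Up3Stmt.{u}) (gw : GwStmt.{u}) (dk : DkStmt) (n7 : No7Stmt.{u}) (zp : ZpStmt.{u})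
    (iv : InvStmt.{u}) : UpAStmt.{u} := by
  intro G _ _ h
  have hf := u3 G h
  have hQ : Qt h.A A6 ∨ Qt h.A A7 := by
    rcases gw G h.A h.sd with ⟨F, _, _, hq, ⟨e⟩⟩ | e
    · rcases seven_or_nine h hf dk hq e with h7 | h9
      · have := H28.card_PSL2 h7
        rw [← Nat.card_congr e.toEquiv] at this
        exact ((n7 G h.toSt (by rw [index]; norm_num at this; omega) _ hf.fC).elim hf.fK hf.fz).elim
      · obtain ⟨e'⟩ := S0254.result h9
        exact Or.inl ⟨e.trans e'⟩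
    · exact Or.inr e
  rcases zp G h.A h.sd hQ with e | ⟨c3, nab⟩
  · have e' : h.A ≃* h.A ⧸ center h.A :=
      (QuotientGroup.quotientBot.symm.trans (QuotientGroup.quotientMulEquivOfEq e.symm))
    exact hQ.imp (fun ⟨k⟩ => ⟨e'.trans k⟩) fun ⟨k⟩ => ⟨e'.trans k⟩
  · exact (no_three h hf c3 nab (iv G h.toSt hQ _ hf.fC
      (by rw [← cn_mul, h.d8.symm.rel.1, cn_eq_one]) hf.fK hf.fz hf.fr)).elim

end Cfsg.Agent.H36.LtU
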