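import Cfsg.Agent.H48.M2Defs

/-! Maximal 2-local subgroups of the Monster: commutators with the second ark. -/

set_option autoImplicit false

namespace Cfsg.Agent.H48.M2

open Cfsg Subgroup Cfsg.Agent.H48 Cfsg.Agent.H48.Rec Cfsg.Agent.H49 Cfsg.Agent.H95.Par
open Cfsg.Agent.H97.Gr (DD ZZ)
open Cfsg.Agent.H97.Yt (M)

theorem b5_of (bu : BuStmt) (bc : BcStmt) (bw : BwStmt) (bn : BnStmt) (ak : AkStmt)
    (idx : IdxStmt) (pf : PfStmt) : B5Stmt := by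
  intro w w' y hb hl a ha
  obtain ⟨-, -, -, -, u1, sn, uq, -⟩ := bu w w' hb
  obtain ⟨-, -, -, -, u2, -, -, -⟩ := bu w' w hb.symm
  rw [U0_comm] at u2
  obtain ⟨c4, hm, -⟩ := bw w w' y hb hl
  have WU : WW w w' y ≤ U0 w w' := inf_le_left
  have el := (pf _ hb.t1.ark).el
  have aQ : ∀ u ∈ WW w w' y, u ≠ 1 → a ∈ Qz u ⊔ Ak w' w := fun u hu h1 =>
    (sup_le le_sup_right ((zpowers_le.2 (uq u (WU hu) h1).1).trans le_sup_left) :
      Ak w' w ⊔ zpowers w ≤ Qz u ⊔ Ak w' w) ha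
  have dec : ∀ u ∈ WW w w' y, u ≠ 1 → ∃ y₀ ∈ Qz u, ∃ a₁ ∈ Ak w w', y = y₀ * a₁ ∧
      a * y * a⁻¹ * y⁻¹ = a * y₀ * a⁻¹ * y₀⁻¹ := by
    intro u hu h1
    have nq : Ak w w' ≤ NN (Qz u) := fun x hx =>
      n_Qz (sn u (WU hu) h1).1 (el.cm hx (u1 (WU hu)))
    have h2 := (hm u (WU hu) h1).1 hu
    rw [sup_comm, mem_sup_of_le_normalizer' nq] at h2
    obtain ⟨a₁, h3, q, h4, e⟩ := h2
    have c := bc w w' hb a₁ (mem_sup_left h3) a ha
    refine ⟨a₁ * q * a₁⁻¹, (mem_normalizer_iff.1 (nq h3) q).1 h4, a₁, h3, by rw [← e]; group, ?_⟩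
    rw [← e]
    calc a * (a₁ * q) * a⁻¹ * (a₁ * q)⁻¹ = a * (a₁ * q * a₁⁻¹) * (a₁ * a⁻¹) * (a₁ * q)⁻¹ := by group
      _ = a * (a₁ * q * a₁⁻¹) * (a⁻¹ * a₁) * (a₁ * q)⁻¹ := by
        rw [show a₁ * a⁻¹ = a⁻¹ * a₁ from (Commute.inv_right c).eq]
      _ = _ := by group
  constructor
  · obtain ⟨N', h1, -, h3⟩ := idx _ (WW w w' y) hb.t2.ark (WU.trans u2)
      (fun u hu h1 => ⟨(sn u (WU hu) h1).1, WU.trans (sn u (WU hu) h1).2⟩) a aQ
    have hne : N' ≠ ⊥ := fun e => by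
      rw [e, c4, card_bot] at h3
      omega
    obtain ⟨⟨u, hu⟩, h4⟩ := ne_bot_iff_exists_ne_one.1 hne
    have h5 : u ≠ 1 := fun e => h4 (Subtype.ext e)
    obtain ⟨h6, h7⟩ := (h1 u).1 hu
    have h8 := h7.resolve_left h5
    obtain ⟨y₀, hy₀, a₁, -, -, e⟩ := dec u h6 h5
    have X := lx (sn u (WU h6) h5).1
    rw [e]
    rcases X.comm a h8 y₀ hy₀ with c | c
    · rw [c]
      simp
    · rw [c, mul_assoc y₀ a u, X.cen a h8, ← mul_assoc, mul_inv_cancel_right, X.cen y₀ hy₀,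
        mul_inv_cancel_right]
      exact h6
  · intro u hu h1 hc
    by_contra hq
    have uz := (sn u (WU hu) h1).1
    have X := lx uz
    obtain ⟨ta, -, hJ⟩ := ak _ hb.t2.ark u (u2 (WU hu)) uz a (aQ u hu h1) hq
    obtain ⟨y₀, hy₀, a₁, h2, e, e'⟩ := dec u hu h1
    rw [e', mem_zpowers_invol X.zz] at hc
    have c2 : ∀ x, y₀ * (x * u) * y₀⁻¹ = y₀ * x * y₀⁻¹ * u := fun x => by
      rw [mul_assoc, mul_assoc, ← X.cen _ (inv_mem hy₀)]
      group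
    have h3 : y₀ ∈ Jh u a := by
      refine ⟨hy₀, mem_normalizer_fintype ?_⟩
      rcases hc with hc | hc
      · have h4 : y₀ * a * y₀⁻¹ = a := by
          calc y₀ * a * y₀⁻¹ = (a * y₀ * a⁻¹ * y₀⁻¹)⁻¹ * a := by group
            _ = a := by rw [hc]; group
        rintro n (rfl | rfl)
        · exact .inl h4
        · exact .inr (by rw [c2, h4]; rfl)
      · have h4 : y₀ * a * y₀⁻¹ = a * u := by
          calc y₀ * a * y₀⁻¹ = (a * y₀ * a⁻¹ * y₀⁻¹)⁻¹ * a := by group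
            _ = a * u := by rw [hc, inv_eq_of_mul_eq_one_right X.zz, ta.comm]
        rintro n (rfl | rfl)
        · exact .inr h4
        · exact .inl (by rw [c2, h4, mul_assoc, X.zz, mul_one])
    rw [hJ] at h3
    refine bn w w' y hb hl ?_
    rw [e]
    exact mul_mem h3.2 fun x hx => (bc w w' hb a₁ (mem_sup_left h2) x (mem_sup_left hx)).symm

end Cfsg.Agent.H48.M2
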