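import Mathlib
import Cfsg.Agent.H27.AltWitt

set_option autoImplicit false
set_option linter.unusedSectionVars false

/-! Combinatorics of centre-axis pairs of a group generated by transvections over a prime field. -/

namespace Cfsg.Agent.H36

variable {k V W : Type*} [Field k] [AddCommGroup V] [Module k V] [AddCommGroup W] [Module k W]

/-- closure properties of the centre-axis relation -/
structure TV (β : W →ₗ[k] V →ₗ[k] k) (T : V → W → Prop) : Prop where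
  ne1 : ∀ {v φ}, T v φ → v ≠ 0
  ne2 : ∀ {v φ}, T v φ → φ ≠ 0
  zero : ∀ {v φ}, T v φ → β φ v = 0
  smul1 : ∀ {v φ} {c : k}, T v φ → c ≠ 0 → T (c • v) φ
  smul2 : ∀ {v φ} {c : k}, T v φ → c ≠ 0 → T v (c • φ)
  conj : ∀ {v φ w ψ} (c : k), T v φ → T w ψ → T (v + (c * β ψ v) • w) (φ - (c * β φ w) • ψ)
  add1 : ∀ {v v' φ}, T v φ → T v' φ → v + v' ≠ 0 → T (v + v') φ
  add2 : ∀ {v φ φ'}, T v φ → T v φ' → φ + φ' ≠ 0 → T v (φ + φ')
  heis : ∀ {v φ s η}, T v φ → T (v + s) (φ + η) → T (v + s + s) (φ + η + η) → β φ s = 0 →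
    β η v = 0 → β η s = 0 → s ≠ 0 → η ≠ 0 → T s η
  opp : ∀ {s η}, T s η → ∃ x ξ, T x ξ ∧ β ξ s ≠ 0 ∧ β η x ≠ 0

variable {β : W →ₗ[k] V →ₗ[k] k} {T : V → W → Prop}

theorem TV.flip (h : TV β T) : TV β.flip (fun φ v => T v φ) where
  ne1 := h.ne2
  ne2 := h.ne1
  zero := h.zero
  smul1 := h.smul2
  smul2 := h.smul1
  conj := fun {φ v ψ w} c h1 h2 => by
    have := h.conj (-c) h1 h2
    simpa [sub_eq_add_neg] using this
  add1 := h.add2
  add2 := h.add1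
  heis := fun h1 h2 h3 h4 h5 h6 h7 h8 => h.heis h1 h2 h3 h5 h4 h6 h8 h7
  opp := fun h1 => let ⟨x, ξ, a, b, c⟩ := h.opp h1; ⟨ξ, x, a, c, b⟩

theorem TV.rule (h : TV β T) {u x : V} {ψ φ : W} (h1 : T u ψ) (h2 : T x φ) (h3 : β φ u = 0)
    (h4 : β ψ x ≠ 0) : T u φ := by
  have h5 := h.conj 1 h1 h2
  rw [h3, mul_zero, zero_smul, add_zero, one_mul] at h5
  have h6 := h.add2 h5 (h.smul2 (c := -1) h1 (by simp)) (by
    rw [show ψ - β ψ x • φ + (-1 : k) • ψ = (-β ψ x) • φ by module]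
    exact smul_ne_zero (neg_ne_zero.mpr h4) (h.ne2 h2))
  have h7 := h.smul2 (c := -(β ψ x)⁻¹) h6 (by simpa using h4)
  convert h7 using 1
  rw [show ψ - β ψ x • φ + (-1 : k) • ψ = (-β ψ x) • φ by module, smul_smul]
  simp [h4]

theorem TV.cen_add (h : TV β T) {v w : V} {φ ψ : W} (h1 : T v φ) (h2 : T w ψ) (h3 : β ψ v ≠ 0) :
    ∃ χ, T (v + w) χ := by
  have := h.conj (β ψ v)⁻¹ h1 h2
  rw [inv_mul_cancel₀ h3, one_smul] at this
  exact ⟨_, this⟩

/-- non-commuting pairs -/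
def NC (β : W →ₗ[k] V →ₗ[k] k) (T : V → W → Prop) (a b : V × W) : Prop :=
  T a.1 a.2 ∧ T b.1 b.2 ∧ (β a.2 b.1 ≠ 0 ∨ β b.2 a.1 ≠ 0)

/-- opposite pairs -/
def OP (β : W →ₗ[k] V →ₗ[k] k) (T : V → W → Prop) (a b : V × W) : Prop :=
  T a.1 a.2 ∧ T b.1 b.2 ∧ β a.2 b.1 ≠ 0 ∧ β b.2 a.1 ≠ 0

theorem NC.symm {a b : V × W} (h : NC β T a b) : NC β T b a := ⟨h.2.1, h.1, h.2.2.symm⟩
theorem OP.symm {a b : V × W} (h : OP β T a b) : OP β T b a := ⟨h.2.1, h.1, h.2.2.2, h.2.2.1⟩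

theorem rtg_symm' {α : Type*} {r : α → α → Prop} (hr : ∀ a b, r a b → r b a) {a b : α}
    (h : Relation.ReflTransGen r a b) : Relation.ReflTransGen r b a := by
  induction h with
  | refl => exact Relation.ReflTransGen.refl
  | tail _ h2 ih => exact Relation.ReflTransGen.head (hr _ _ h2) ih

theorem rtg_op_flip {a b : V × W} (h : Relation.ReflTransGen (OP β T) a b) :
    Relation.ReflTransGen (OP β.flip (fun φ v => T v φ)) a.swap b.swap := by
  induction h with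
  | refl => exact Relation.ReflTransGen.refl
  | tail _ e ih => exact ih.tail ⟨e.1, e.2.1, e.2.2.2, e.2.2.1⟩

theorem TV.op_same_axis (h : TV β T) {v w : V} {φ : W} (h1 : T v φ) (h2 : T w φ) :
    Relation.ReflTransGen (OP β T) (v, φ) (w, φ) := by
  obtain ⟨x, ξ, a1, a2, a3⟩ := h.opp h1
  obtain ⟨y, ζ, b1, b2, b3⟩ := h.opp h2
  have s1 : OP β T (v, φ) (x, ξ) := ⟨h1, a1, a3, a2⟩
  have s2 : OP β T (y, ζ) (w, φ) := ⟨b1, h2, b2, b3⟩
  by_cases c1 : β ξ w = 0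
  · by_cases c2 : β ζ v = 0
    · have d1 : β ξ (v + w) ≠ 0 := by simpa [c1] using a2
      have d2 : β ζ (v + w) ≠ 0 := by simpa [c2] using b2
      have h3 := h.add1 h1 h2 (fun e => d1 (by rw [e, map_zero]))
      exact (((Relation.ReflTransGen.single s1).tail (c := (v + w, φ)) ⟨a1, h3, d1, a3⟩).tail
        (c := (y, ζ)) ⟨h3, b1, b3, d2⟩).tail s2
    · exact (Relation.ReflTransGen.single (b := (y, ζ)) ⟨h1, b1, b3, c2⟩).tail s2
  · exact (Relation.ReflTransGen.single s1).tail ⟨a1, h2, c1, a3⟩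

theorem TV.op_same_centre (h : TV β T) {v : V} {φ ψ : W} (h1 : T v φ) (h2 : T v ψ) :
    Relation.ReflTransGen (OP β T) (v, φ) (v, ψ) :=
  rtg_op_flip (h.flip.op_same_axis h1 h2)

theorem TV.op_of_nc (h : TV β T) {a b : V × W} (e : NC β T a b) :
    Relation.ReflTransGen (OP β T) a b := by
  obtain ⟨v, φ⟩ := a
  obtain ⟨w, ψ⟩ := b
  obtain ⟨h1, h2, h3⟩ := e
  by_cases c1 : β φ w = 0
  · have h4 := h.rule h2 h1 c1 (h3.resolve_left (not_not.mpr c1))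
    exact (h.op_same_axis h1 h4).trans (h.op_same_centre h4 h2)
  · by_cases c2 : β ψ v = 0
    · have h4 := h.rule h1 h2 c2 c1
      exact (h.op_same_centre h1 h4).trans (h.op_same_axis h4 h2)
    · exact Relation.ReflTransGen.single ⟨h1, h2, c1, c2⟩

/-- span of the centres -/
def cenSp (k : Type*) [Field k] [Module k V] (T : V → W → Prop) : Submodule k V :=
  Submodule.span k {v | ∃ φ, T v φ}

theorem mem_cenSp {v : V} {φ : W} (h : T v φ) : v ∈ cenSp k T := Submodule.subset_span ⟨φ, h⟩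

theorem exists_ne_of_mem_cenSp {f : V →ₗ[k] k} {s : V} (hs : s ∈ cenSp k T) (hf : f s ≠ 0) :
    ∃ v φ, T v φ ∧ f v ≠ 0 := by
  by_contra hn
  push Not at hn
  have : cenSp k T ≤ LinearMap.ker f := Submodule.span_le.mpr fun v ⟨φ, hv⟩ => hn v φ hv
  exact hf (this hs)

/-- the class of a pair -/
def Cls (β : W →ₗ[k] V →ₗ[k] k) (T : V → W → Prop) (a : V × W) (v : V) (φ : W) : Prop :=
  T v φ ∧ Relation.ReflTransGen (NC β T) a (v, φ)

theorem TV.cls_of_mem (h : TV β T) {a : V × W} {s : V} {η : W} (h1 : T s η)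
    (hs : s ∈ cenSp k (Cls β T a)) : Cls β T a s η := by
  obtain ⟨x, ξ, a1, a2, -⟩ := h.opp h1
  obtain ⟨v, φ, hv, hne⟩ := exists_ne_of_mem_cenSp hs a2
  exact ⟨h1, (hv.2.tail (c := (x, ξ)) ⟨hv.1, a1, Or.inr hne⟩).tail ⟨a1, h1, Or.inl a2⟩⟩

theorem TV.cls (h : TV β T) (a : V × W) : TV β (Cls β T a) where
  ne1 := fun e => h.ne1 e.1
  ne2 := fun e => h.ne2 e.1
  zero := fun e => h.zero e.1
  smul1 := fun e hc => h.cls_of_mem (h.smul1 e.1 hc) (Submodule.smul_mem _ _ (mem_cenSp e))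
  smul2 := fun e hc => h.cls_of_mem (h.smul2 e.1 hc) (mem_cenSp e)
  conj := fun c e e' => h.cls_of_mem (h.conj c e.1 e'.1)
    (Submodule.add_mem _ (mem_cenSp e) (Submodule.smul_mem _ _ (mem_cenSp e')))
  add1 := fun e e' hn => h.cls_of_mem (h.add1 e.1 e'.1 hn)
    (Submodule.add_mem _ (mem_cenSp e) (mem_cenSp e'))
  add2 := fun e e' hn => h.cls_of_mem (h.add2 e.1 e'.1 hn) (mem_cenSp e)
  heis := fun h1 h2 h3 h4 h5 h6 h7 h8 => h.cls_of_mem (h.heis h1.1 h2.1 h3.1 h4 h5 h6 h7 h8) (by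
    simpa using Submodule.sub_mem _ (mem_cenSp h2) (mem_cenSp h1))
  opp := fun e => by
    obtain ⟨x, ξ, a1, a2, a3⟩ := h.opp e.1
    exact ⟨x, ξ, ⟨a1, e.2.tail ⟨e.1, a1, Or.inl a3⟩⟩, a2, a3⟩

/-- connected under opposition -/
def Conn (β : W →ₗ[k] V →ₗ[k] k) (T : V → W → Prop) : Prop :=
  ∀ v φ w ψ, T v φ → T w ψ → Relation.ReflTransGen (OP β T) (v, φ) (w, ψ)

theorem Conn.flip (h : Conn β T) : Conn β.flip (fun φ v => T v φ) := fun _ _ _ _ h1 h2 =>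
  rtg_op_flip (h _ _ _ _ h1 h2)

theorem TV.conn_cls (h : TV β T) (a : V × W) : Conn β (Cls β T a) := by
  have key : ∀ b, Relation.ReflTransGen (NC β T) a b →
      Relation.ReflTransGen (OP β (Cls β T a)) a b := by
    intro b hb
    induction hb with
    | refl => exact Relation.ReflTransGen.refl
    | tail h1 h2 ih =>
      exact ih.trans ((h.cls a).op_of_nc ⟨⟨h2.1, h1⟩, ⟨h2.2.1, h1.tail h2⟩, h2.2.2⟩)
  intro v φ w ψ h1 h2
  exact (rtg_symm' (fun _ _ => OP.symm) (key _ h1.2)).trans (key _ h2.2)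

theorem Conn.induction (h : Conn β T) {P : V → W → Prop} {v : V} {φ : W} (h0 : T v φ) (hP : P v φ)
    (step : ∀ v φ w ψ, T v φ → T w ψ → β φ w ≠ 0 → β ψ v ≠ 0 → P v φ → P w ψ) {w : V} {ψ : W}
    (h1 : T w ψ) : P w ψ := by
  have key : ∀ b, Relation.ReflTransGen (OP β T) (v, φ) b → P b.1 b.2 := by
    intro b hb
    induction hb with
    | refl => exact hP
    | tail _ h2 ih => exact step _ _ _ _ h2.1 h2.2.1 h2.2.2.1 h2.2.2.2 ih
  exact key _ (h _ _ _ _ h0 h1)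

theorem TV.step (h : TV β T) {M : Submodule k V} (hM : ∀ m ∈ M, m ≠ 0 → ∃ χ, T m χ) {v w : V}
    {φ ψ : W} (h1 : T v φ) (hv : v ∈ M) (h2 : T w ψ) (c1 : β φ w ≠ 0) (c2 : β ψ v ≠ 0) {m : V}
    (hm : m ∈ M) (hne : m + w ≠ 0) : ∃ χ, T (m + w) χ := by
  by_cases hm0 : m = 0
  · exact ⟨ψ, by simpa [hm0] using h2⟩
  obtain ⟨χ, h3⟩ := hM m hm hm0
  by_cases d1 : β ψ m = 0
  swap
  · exact h.cen_add h3 h2 d1
  by_cases d2 : β χ w = 0
  swap
  · rw [add_comm]; exact h.cen_add h2 h3 d2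
  by_cases d3 : β φ (m + w) = 0
  swap
  · have h4 := h.conj 1 h2 h1
    rw [one_mul, one_mul] at h4
    have h5 : β (ψ - β ψ v • φ) (m - β φ w • v) ≠ 0 := by
      have : β (ψ - β ψ v • φ) (m - β φ w • v) = -(β ψ v * β φ (m + w)) := by
        simp only [map_sub, map_smul, map_add, LinearMap.sub_apply, LinearMap.smul_apply,
          smul_eq_mul, d1, h.zero h1]
        ring
      rw [this]
      exact neg_ne_zero.mpr (mul_ne_zero c2 d3)
    obtain ⟨χ', h6⟩ := hM _ (M.sub_mem hm (M.smul_mem (β φ w) hv)) (fun e => h5 (by rw [e, map_zero]))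
    have := h.cen_add h6 h4 h5
    rwa [show m - β φ w • v + (w + β φ w • v) = m + w by abel] at this
  have d4 : β φ m = -β φ w := by rw [map_add] at d3; exact eq_neg_of_add_eq_zero_left d3
  have d5 : β φ m ≠ 0 := by rw [d4]; exact neg_ne_zero.mpr c1
  by_cases d6 : β χ v = 0
  · exact ⟨χ, h.add1 h3 (h.rule h2 (h.rule h1 h3 d6 d5) d2 c2) hne⟩
  obtain ⟨χ', h4, e1, e2⟩ : ∃ χ', T m χ' ∧ β χ' v = β ψ v ∧ β χ' w = 0 :=
    ⟨(β ψ v / β χ v) • χ, h.smul2 h3 (div_ne_zero c2 d6), by simp [d6], by simp [d2]⟩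
  by_cases d7 : χ' = ψ
  · exact ⟨ψ, h.add1 (d7 ▸ h4) h2 hne⟩
  have z1 := h.zero h1
  have z2 := h.zero h2
  have z4 := h.zero h4
  have key : ∀ c : k, T (v + (c * β ψ v) • (m + w)) (φ + (c * β φ w) • (χ' - ψ)) := by
    intro c
    have := h.conj c (h.conj c h1 h2) h4
    simp only [map_add, map_smul, map_sub, LinearMap.sub_apply, LinearMap.smul_apply, smul_eq_mul,
      e1, e2, d1, d4, mul_zero, add_zero, sub_zero] at this
    convert this using 1 <;> module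
  have k1 := key 1
  have k2 := key 2
  have := h.heis (s := β ψ v • (m + w)) (η := β φ w • (χ' - ψ)) h1 (by simpa using k1)
    (by convert k2 using 1 <;> module) (by simp [d4]) (by simp [e1]) (by simp [d1, e2, z2, z4])
    (smul_ne_zero c2 hne) (smul_ne_zero c1 (sub_ne_zero.mpr d7))
  have h5 := h.smul1 this (inv_ne_zero c2)
  rw [smul_smul, inv_mul_cancel₀ c2, one_smul] at h5
  exact ⟨_, h5⟩

/-- every non-zero vector of the span of the centres is a centre -/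
theorem TV.centre [FiniteDimensional k V] (h : TV β T) (hc : Conn β T) {u : V}
    (hu : u ∈ cenSp k T) (hu0 : u ≠ 0) : ∃ χ, T u χ := by
  obtain ⟨v, φ, h0⟩ : ∃ v φ, T v φ := by
    by_contra hn
    push Not at hn
    have : cenSp k T ≤ ⊥ := Submodule.span_le.mpr fun v ⟨φ, hv⟩ => (hn v φ hv).elim
    exact hu0 (this hu)
  obtain ⟨M, hle, hM⟩ := exists_maximal_ge_of_wellFoundedGT
    (fun M : Submodule k V => ∀ m ∈ M, m ≠ 0 → ∃ χ, T m χ) (Submodule.span k {v}) (by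
      intro m hm hm0
      obtain ⟨c, rfl⟩ := Submodule.mem_span_singleton.mp hm
      exact ⟨φ, h.smul1 h0 fun e => hm0 (by simp [e])⟩)
  have key : ∀ w ψ, T w ψ → w ∈ M := by
    intro w ψ hw
    refine hc.induction (P := fun w _ => w ∈ M) h0 (hle (Submodule.mem_span_singleton_self v))
      (fun v φ w ψ h1 h2 c1 c2 hv => ?_) hw
    refine hM.2 (y := M ⊔ Submodule.span k {w}) ?_ le_sup_left
      (Submodule.mem_sup_right (Submodule.mem_span_singleton_self w))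
    intro x hx hx0
    obtain ⟨m, hm, y, hy, rfl⟩ := Submodule.mem_sup.mp hx
    obtain ⟨c, rfl⟩ := Submodule.mem_span_singleton.mp hy
    by_cases hc0 : c = 0
    · exact hM.1 _ (by simpa [hc0] using hm) hx0
    · have e : m + c • w = c • (c⁻¹ • m + w) := by
        rw [smul_add, smul_smul, mul_inv_cancel₀ hc0, one_smul]
      obtain ⟨χ, h3⟩ := h.step hM.1 h1 hv h2 c1 c2 (M.smul_mem c⁻¹ hm)
        (fun e0 => hx0 (by rw [e, e0, smul_zero]))
      exact ⟨χ, e ▸ h.smul1 h3 hc0⟩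
  have hle2 : cenSp k T ≤ M := Submodule.span_le.mpr fun w ⟨ψ, hw⟩ => key w ψ hw
  exact hM.1 u (hle2 hu) hu0

/-- two independent axes -/
def Two (k : Type*) [Field k] [Module k W] (T : V → W → Prop) (u : V) : Prop :=
  ∃ φ φ', T u φ ∧ T u φ' ∧ ∀ c : k, φ' ≠ c • φ

theorem TV.two_kill (h : TV β T) {u : V} (h2 : Two k T u) (y : V) : ∃ θ, T u θ ∧ β θ y = 0 := by
  obtain ⟨φ, φ', a1, a2, a3⟩ := h2
  by_cases c1 : β φ y = 0
  · exact ⟨φ, a1, c1⟩
  by_cases c2 : β φ' y = 0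
  · exact ⟨φ', a2, c2⟩
  refine ⟨_, h.add2 a2 (h.smul2 (c := -(β φ' y / β φ y)) a1 (by simp [c1, c2])) fun e => ?_,
    by simp [c1]⟩
  exact a3 (β φ' y / β φ y) (by rw [← sub_eq_zero, ← e]; module)

theorem TV.two_all (h : TV β T) (hc : Conn β T) {u : V} (h2 : Two k T u) {w : V} {ψ : W}
    (hw : T w ψ) : Two k T w := by
  obtain ⟨φ, -, a1, -⟩ := id h2
  refine hc.induction (P := fun w _ => Two k T w) a1 h2 (fun v φ y ζ h1 h3 _ c2 hv => ?_) hw
  obtain ⟨θ, b1, b2⟩ := h.two_kill hv y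
  refine ⟨θ, ζ, h.rule h3 b1 b2 c2, h3, fun c e => c2 ?_⟩
  rw [e]; simp [h.zero b1]

theorem TV.full [FiniteDimensional k V] [Finite V] (h : TV β T) (hc : Conn β T) {u : V}
    (h2 : Two k T u) {y : V} {θ : W} (hy : T y θ) {x : V} (hx : x ∈ cenSp k T) (hx0 : x ≠ 0)
    (hθ : β θ x = 0) : T x θ := by
  obtain ⟨Z, -, hZ⟩ := exists_maximal_ge_of_wellFoundedGT
    (fun Z : Set V => ∃ z φ, T z φ ∧ Z = {x | T x φ}) {x | T x θ} ⟨y, θ, hy, rfl⟩
  obtain ⟨z₀, φ, hz₀, rfl⟩ := hZ.1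
  have hfull : ∀ x ∈ cenSp k T, x ≠ 0 → β φ x = 0 → T x φ := by
    intro x hx hx0 hφ
    by_contra hn
    obtain ⟨χ, h3⟩ := h.centre hc hx hx0
    obtain ⟨a, _, a1, -, a2⟩ := h.opp hz₀
    obtain ⟨b, _, b1, -, b2⟩ := h.opp h3
    obtain ⟨y, hy, c1, c2⟩ := H27.exists_mem_both_ne_zero (cenSp k T) (β φ) (β χ)
      ⟨a, mem_cenSp a1, a2⟩ ⟨b, mem_cenSp b1, b2⟩
    obtain ⟨ζ, h4⟩ := h.centre hc hy (fun e => c1 (by rw [e, map_zero]))
    obtain ⟨ζ', h5, h6⟩ := h.two_kill (h.two_all hc h2 h4) x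
    have h7 := h.rule h3 h5 h6 c2
    have h8 : {x | T x φ} ⊆ {x | T x ζ'} := by
      intro z hz
      by_cases d : β ζ' z = 0
      · exact h.rule hz h5 d c1
      · exact (hn (h.rule h7 hz hφ d)).elim
    exact c1 (h.zero (hZ.2 ⟨y, ζ', h5, rfl⟩ h8 h5))
  refine hc.induction (P := fun _ θ => ∀ x ∈ cenSp k T, x ≠ 0 → β θ x = 0 → T x θ) hz₀ hfull
    (fun z φ y θ _ h3 c1 _ ih => ?_) hy x hx hx0 hθ
  have k1 : ∀ x ∈ cenSp k T, x ≠ 0 → β θ x = 0 → β φ x = 0 → T x θ := fun x hx hx0 d1 d2 =>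
    h.rule (ih x hx hx0 d2) h3 d1 c1
  intro x hx hx0 d1
  by_cases d2 : β φ x = 0
  · exact k1 x hx hx0 d1 d2
  have h4 := h.smul1 h3 (div_ne_zero d2 c1)
  by_cases d3 : x - (β φ x / β φ y) • y = 0
  · rw [sub_eq_zero.mp d3]; exact h4
  · have h5 := k1 _ (Submodule.sub_mem _ hx (Submodule.smul_mem _ _ (mem_cenSp h3))) d3
      (by simp [d1, h.zero h3]) (by simp [c1])
    have := h.add1 h5 h4 (by simpa using hx0)
    simpa using this

section Sp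

variable (h : TV β T) (h2 : ∀ u, ¬ Two k T u)
include h h2

theorem TV.prop {u : V} {φ φ' : W} (a1 : T u φ) (a2 : T u φ') : ∃ c : k, φ' = c • φ := by
  by_contra hn
  push Not at hn
  exact h2 u ⟨φ, φ', a1, a2, hn⟩

theorem TV.sym0 {u w : V} {φ ψ : W} (a1 : T u φ) (a2 : T w ψ) (e : β φ w = 0) : β ψ u = 0 := by
  by_contra hn
  obtain ⟨c, rfl⟩ := h.prop h2 (h.rule a2 a1 e hn) a2
  exact hn (by simp [h.zero a1])

theorem TV.triangle {a b c : V} {α φ γ : W} (h1 : T a α) (h3 : T b φ) (h4 : T c γ)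
    (r1 : β α b = -β φ a) (r2 : β α c = -β γ a) (n1 : β α b ≠ 0) (n2 : β α c ≠ 0) :
    β φ c = -β γ b := by
  have e1 : β φ a = -β α b := by rw [r1, neg_neg]
  have e2 : β γ a = -β α c := by rw [r2, neg_neg]
  have h5 := h.conj (β φ c / (β α c * β α b)) h4 h1
  have h6 := h.sym0 h2 h3 h5 (by
    simp only [map_add, map_smul, smul_eq_mul, e1]
    field_simp
    ring)
  simp only [map_sub, map_smul, LinearMap.sub_apply, LinearMap.smul_apply, smul_eq_mul, e2] at h6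
  field_simp at h6
  linear_combination h6

theorem TV.exists_alt [FiniteDimensional k V] (hc : Conn β T) :
    ∃ f : V → W, (∀ u ∈ cenSp k T, u ≠ 0 → T u (f u)) ∧
      ∀ u ∈ cenSp k T, ∀ w ∈ cenSp k T, β (f u) w = -β (f w) u := by
  classical
  by_cases h0 : ∃ a α, T a α
  swap
  · push Not at h0
    have : cenSp k T ≤ ⊥ := Submodule.span_le.mpr fun v ⟨φ, hv⟩ => (h0 v φ hv).elim
    exact ⟨fun _ => 0, fun u hu hu0 => (hu0 (this hu)).elim, by simp⟩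
  obtain ⟨a, α, ha⟩ := h0
  let G : V → W → Prop := fun w ψ => T w ψ ∧ β α w ≠ 0 ∧ β α w = -β ψ a
  have hG : ∀ w ∈ cenSp k T, β α w ≠ 0 → ∃ ψ, G w ψ := by
    intro w hw hne
    obtain ⟨ψ, h1⟩ := h.centre hc hw (fun e => hne (by rw [e, map_zero]))
    have h3 : β ψ a ≠ 0 := fun e => hne (h.sym0 h2 h1 ha e)
    exact ⟨_, h.smul2 (c := -(β α w / β ψ a)) h1 (by simp [hne, h3]), hne, by simp [h3]⟩
  have hGG : ∀ w ψ w' ψ', G w ψ → G w' ψ' → β ψ w' = -β ψ' w := fun w ψ w' ψ' g g' =>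
    h.triangle h2 ha g.1 g'.1 g.2.2 g'.2.2 g.2.1 g'.2.1
  let S : V → W → Prop := fun u φ => ∀ w ψ, G w ψ → β φ w = -β ψ u
  have hS2 : ∀ u y ζ ζ₁, G y ζ → G (u + y) ζ₁ → S u (ζ₁ - ζ) := by
    intro u y ζ ζ₁ g g1 w ψ g2
    simp only [map_sub, LinearMap.sub_apply, hGG _ _ _ _ g1 g2, hGG _ _ _ _ g g2, map_add]
    ring
  obtain ⟨y₀, _, b1, -, b2⟩ := h.opp ha
  have hy₀ := mem_cenSp (k := k) b1
  have huniq : ∀ u φ φ', S u φ → S u φ' → ∀ x ∈ cenSp k T, β φ x = β φ' x := by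
    intro u φ φ' s1 s2 x hx
    have k1 : ∀ x ∈ cenSp k T, β α x ≠ 0 → β φ x = β φ' x := fun x hx hne => by
      obtain ⟨ψ, g⟩ := hG x hx hne
      rw [s1 _ _ g, s2 _ _ g]
    by_cases d : β α x = 0
    · have e1 := k1 (x + y₀) (Submodule.add_mem _ hx hy₀) (by simpa [d] using b2)
      rw [map_add, map_add, k1 y₀ hy₀ b2] at e1
      exact add_right_cancel e1
    · exact k1 x hx d
  have hex : ∀ u ∈ cenSp k T, ∃ φ, S u φ ∧ (u ≠ 0 → T u φ) := by
    intro u hu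
    by_cases hu0 : u = 0
    · exact ⟨0, fun w ψ _ => by simp [hu0], fun e => (e hu0).elim⟩
    by_cases d : β α u = 0
    · obtain ⟨χ, h3⟩ := h.centre hc hu hu0
      obtain ⟨b, _, c1, -, c2⟩ := h.opp h3
      obtain ⟨y, hy, d1, d2⟩ := H27.exists_mem_both_ne_zero (cenSp k T) (β α) (β χ)
        ⟨y₀, hy₀, b2⟩ ⟨b, mem_cenSp c1, c2⟩
      obtain ⟨ζ, g⟩ := hG y hy d1
      obtain ⟨ζ₁, g1⟩ := hG (u + y) (Submodule.add_mem _ hu hy) (by simpa [d] using d1)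
      have d3 : β ζ u ≠ 0 := fun e => d2 (h.sym0 h2 g.1 h3 e)
      refine ⟨_, hS2 u y ζ ζ₁ g g1, fun _ => ?_⟩
      have := h.conj (-(β ζ u)⁻¹) g1.1 g.1
      rw [hGG _ _ _ _ g1 g, map_add, h.zero g.1, add_zero, neg_mul, neg_mul_neg,
        inv_mul_cancel₀ d3] at this
      simpa using this
    · obtain ⟨ψ, g⟩ := hG u hu d
      exact ⟨ψ, fun w ψ' g' => hGG _ _ _ _ g g', fun _ => g.1⟩
  choose! f hf using hex
  refine ⟨f, fun u hu => (hf u hu).2, fun u hu w hw => ?_⟩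
  by_cases d : β α w = 0
  · obtain ⟨ζ, g⟩ := hG y₀ hy₀ b2
    obtain ⟨ζ₁, g1⟩ := hG (w + y₀) (Submodule.add_mem _ hw hy₀) (by simpa [d] using b2)
    rw [huniq w _ _ (hf w hw).1 (hS2 w y₀ ζ ζ₁ g g1) u hu]
    have e1 := (hf u hu).1 _ _ g
    have e2 := (hf u hu).1 _ _ g1
    simp only [map_add, map_sub, LinearMap.sub_apply] at e2 ⊢
    linear_combination e2 - e1
  · obtain ⟨ψ, g⟩ := hG w hw d
    rw [huniq w _ _ (hf w hw).1 (fun w' ψ' g' => hGG _ _ _ _ g g') u hu, (hf u hu).1 _ _ g]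

end Sp

end Cfsg.Agent.H36
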