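import Mathlib
import Cfsg.Agent.H36.McL1
import Cfsg.Agent.H26.SLBasic
import Cfsg.Agent.H9.BaerSuzuki

set_option autoImplicit false
set_option linter.unusedSectionVars false

/-! Groups generated by transvections over a prime field: the centre-axis relation. -/

namespace Cfsg.Agent.H36

open Module

section SL

variable {k V : Type*} [Field k] [AddCommGroup V] [Module k V]

theorem det_one_mem_of_transv [FiniteDimensional k V] (G : Subgroup (V ≃ₗ[k] V))
    (hG : ∀ (θ : Dual k V) (u : V) (h : θ u = 0), LinearEquiv.transvection h ∈ G)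
    (f : V ≃ₗ[k] V) (hf : LinearMap.det (f : V →ₗ[k] V) = 1) : f ∈ G := by
  classical
  let b := Module.finBasis k V
  let e := Matrix.SpecialLinearGroup.toLin_equiv b
  let f' : SpecialLinearGroup k V := ⟨f, by ext; simpa using hf⟩
  have key : ∀ A, ((e A : SpecialLinearGroup k V) : V ≃ₗ[k] V) ∈ G := by
    intro A
    refine H26.sl_transvection_induction (fun A => ((e A : SpecialLinearGroup k V) : V ≃ₗ[k] V) ∈ G)
      ?_ ?_ ?_ A
    · simp only [map_one]; exact G.one_mem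
    · intro i j hij c
      have h0 : (b.coord j) (c • b i) = 0 := by simp [hij]
      convert hG _ _ h0 using 1
      apply LinearEquiv.toLinearMap_injective
      rw [Matrix.SpecialLinearGroup.toLin_equiv.toLinearMap_eq]
      apply b.ext
      intro l
      rw [Matrix.toLin_self, Matrix.SpecialLinearGroup.transvection_coe]
      simp only [Matrix.add_apply, add_smul, Finset.sum_add_distrib, Matrix.one_apply,
        Matrix.single_apply, ite_smul, zero_smul, one_smul, Finset.sum_ite_eq', Finset.mem_univ,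
        if_true, LinearEquiv.transvection.coe_toLinearMap, LinearMap.transvection.apply,
        Basis.coord_apply, Basis.repr_self, Finsupp.single_apply]
      by_cases hl : l = j
      · simp [hl]
      · simp [hl, Ne.symm hl]
    · intro A B hA hB
      simp only [map_mul]
      exact G.mul_mem hA hB
  have := key (e.symm f')
  rwa [MulEquiv.apply_symm_apply] at this

/-- `g` is the map `x ↦ x + φ x • v` -/
def IsTv (g : V ≃ₗ[k] V) (v : V) (φ : Dual k V) : Prop := ∀ x, g x = x + φ x • v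

theorem IsTv.inv {g : V ≃ₗ[k] V} {v : V} {φ : Dual k V} (h : IsTv g v φ) (h0 : φ v = 0) :
    IsTv g⁻¹ v (-φ) := fun x => by
  rw [LinearEquiv.coe_inv, LinearEquiv.symm_apply_eq, h]
  simp [h0]

theorem IsTv.pow {g : V ≃ₗ[k] V} {v : V} {φ : Dual k V} (h : IsTv g v φ) (h0 : φ v = 0) (n : ℕ) :
    IsTv (g ^ n) v ((n : k) • φ) := by
  induction n with
  | zero => intro x; simp
  | succ n ih =>
    intro x
    rw [pow_succ, LinearEquiv.mul_apply, ih, h]
    simp only [map_add, map_smul, LinearMap.smul_apply, smul_eq_mul, h0, Nat.cast_succ]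
    module

theorem IsTv.conj {g : V ≃ₗ[k] V} {v : V} {φ : Dual k V} (h : IsTv g v φ) (e : V ≃ₗ[k] V) :
    IsTv (e * g * e⁻¹) (e v) (φ ∘ₗ (e⁻¹ : V ≃ₗ[k] V)) := fun x => by
  rw [LinearEquiv.mul_apply, LinearEquiv.mul_apply, h]
  simp

theorem IsTv.ext {g g' : V ≃ₗ[k] V} {v : V} {φ : Dual k V} (h : IsTv g v φ) (h' : IsTv g' v φ) :
    g = g' := LinearEquiv.ext fun x => by rw [h, h']

theorem pow_apply_of_fix (y : V ≃ₗ[k] V) {z u : V} (h1 : y z = z + u) (h2 : y u = u) (n : ℕ) :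
    (y ^ n) z = z + (n : k) • u := by
  induction n with
  | zero => simp
  | succ n ih =>
    rw [pow_succ', LinearEquiv.mul_apply, ih, map_add, map_smul, h1, h2, Nat.cast_succ]
    module

/-- stabilising the flag `0 < ⟨s⟩ < ⟨s, x⟩ < V` -/
def Flag (s x : V) (y : V ≃ₗ[k] V) : Prop :=
  y s = s ∧ (∃ c : k, y x = x + c • s) ∧ ∀ z, ∃ a b : k, y z = z + (a • s + b • x)

theorem Flag.one (s x : V) : Flag s x (1 : V ≃ₗ[k] V) :=
  ⟨rfl, ⟨0, by simp⟩, fun z => ⟨0, 0, by simp⟩⟩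

theorem Flag.mul {s x : V} {y y' : V ≃ₗ[k] V} (h : Flag s x y) (h' : Flag s x y') :
    Flag s x (y * y') := by
  obtain ⟨h1, ⟨c, h2⟩, h3⟩ := h
  obtain ⟨h1', ⟨c', h2'⟩, h3'⟩ := h'
  refine ⟨by simp [h1, h1'], ⟨c + c', by simp only [LinearEquiv.mul_apply, h2', map_add, map_smul, h1, h2]; module⟩,
    fun z => ?_⟩
  obtain ⟨a, b, e⟩ := h3 z
  obtain ⟨a', b', e'⟩ := h3' z
  exact ⟨a + a' + b' * c, b + b', by
    simp only [LinearEquiv.mul_apply, e', map_add, map_smul, h1, h2, e]; module⟩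

theorem Flag.pow {s x : V} {y : V ≃ₗ[k] V} (h : Flag s x y) (n : ℕ) : Flag s x (y ^ n) := by
  induction n with
  | zero => exact Flag.one s x
  | succ n ih => rw [pow_succ]; exact ih.mul h

theorem Flag.pow_eq_one {p : ℕ} (hp : (p : k) = 0) {s x : V} {y : V ≃ₗ[k] V} (h : Flag s x y) :
    y ^ (p ^ 2) = 1 := by
  obtain ⟨h1, ⟨c, h2⟩, -⟩ := id h
  obtain ⟨g1, -, g3⟩ := h.pow p
  have g2 : (y ^ p) x = x := by
    rw [pow_apply_of_fix y h2 (by rw [map_smul, h1]), hp, zero_smul, add_zero]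
  ext z
  obtain ⟨a, b, e⟩ := g3 z
  rw [pow_two, pow_mul, pow_apply_of_fix _ e (by rw [map_add, map_smul, map_smul, g1, g2]), hp]
  simp

theorem IsTv.flag1 {g : V ≃ₗ[k] V} {s : V} {φ : Dual k V} (h : IsTv g s φ) (h0 : φ s = 0) (x : V) :
    Flag s x g := ⟨by rw [h, h0]; simp, ⟨_, h x⟩, fun z => ⟨φ z, 0, by rw [h]; simp⟩⟩

theorem IsTv.flag2 {g : V ≃ₗ[k] V} {x s : V} {φ : Dual k V} (h : IsTv g x φ) (h0 : φ x = 0)
    (h1 : φ s = 0) : Flag s x g :=
  ⟨by rw [h, h1]; simp, ⟨0, by rw [h, h0]; simp⟩, fun z => ⟨0, φ z, by rw [h]; simp⟩⟩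

theorem isPGroup_of_flag {p : ℕ} (hp : (p : k) = 0) {H : Subgroup (V ≃ₗ[k] V)} {g g' : H} {s x : V}
    {η ξ : Dual k V} (h : IsTv (g : V ≃ₗ[k] V) s η) (h' : IsTv (g' : V ≃ₗ[k] V) x ξ) (h0 : η s = 0)
    (h0' : ξ x = 0) (h1 : ξ s = 0) : IsPGroup p (Subgroup.closure ({g, g'} : Set H)) := by
  rintro ⟨y, hy⟩
  refine ⟨2, Subtype.ext (Subtype.ext ?_)⟩
  have : Flag s x (y : V ≃ₗ[k] V) := by
    induction hy using Subgroup.closure_induction'' with
    | one => exact Flag.one s x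
    | mem y hy =>
      rcases hy with rfl | rfl
      · exact h.flag1 h0 x
      · exact h'.flag2 h0' h1
    | inv_mem y hy =>
      rcases hy with rfl | rfl
      · exact (h.inv h0).flag1 (by simp [h0]) x
      · exact (h'.inv h0').flag2 (by simp [h0']) (by simp [h1])
    | mul a b _ _ ha hb => exact ha.mul hb
  simpa using this.pow_eq_one hp

/-- centre-axis pairs of the transvections of `H` -/
def TH (H : Subgroup (V ≃ₗ[k] V)) (v : V) (φ : Dual k V) : Prop :=
  v ≠ 0 ∧ φ ≠ 0 ∧ φ v = 0 ∧ ∃ g ∈ H, IsTv g v φ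

theorem TH.conj {H : Subgroup (V ≃ₗ[k] V)} {v : V} {φ : Dual k V} (h : TH H v φ) {e : V ≃ₗ[k] V}
    (he : e ∈ H) : TH H (e v) (φ ∘ₗ (e⁻¹ : V ≃ₗ[k] V)) := by
  obtain ⟨h1, h2, h3, g, hg, h4⟩ := h
  refine ⟨by simpa using h1, fun e0 => h2 ?_, by simpa using h3, _,
    H.mul_mem (H.mul_mem he hg) (H.inv_mem he), h4.conj e⟩
  ext x
  simpa using LinearMap.congr_fun e0 (e x)

end SL

section ZModp

variable {p : ℕ} [Fact p.Prime] {V : Type*} [AddCommGroup V] [Module (ZMod p) V]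

theorem TH.smul2 {H : Subgroup (V ≃ₗ[ZMod p] V)} {v : V} {φ : Dual (ZMod p) V} {c : ZMod p}
    (h : TH H v φ) (hc : c ≠ 0) : TH H v (c • φ) := by
  obtain ⟨h1, h2, h3, g, hg, h4⟩ := h
  refine ⟨h1, smul_ne_zero hc h2, by simp [h3], g ^ c.val, H.pow_mem hg _, ?_⟩
  simpa using h4.pow h3 c.val

theorem tv_TH [Finite V] (hp : Odd p) {H : Subgroup (V ≃ₗ[ZMod p] V)} (hOp : Cfsg.pCore p ↥H = ⊥) :
    TV (LinearMap.id : Dual (ZMod p) V →ₗ[ZMod p] V →ₗ[ZMod p] ZMod p) (TH H) where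
  ne1 := fun h => h.1
  ne2 := fun h => h.2.1
  zero := fun h => h.2.2.1
  smul1 := fun {v φ c} h hc => by
    obtain ⟨h1, h2, h3, g, hg, h4⟩ := h.smul2 hc
    refine ⟨smul_ne_zero hc h1, h.2.1, by simp [h.2.2.1], g, hg, fun x => ?_⟩
    rw [h4, LinearMap.smul_apply, smul_smul, smul_eq_mul, mul_comm]
  smul2 := fun h hc => h.smul2 hc
  conj := fun {v φ w ψ} c h h' => by
    by_cases hc : c = 0
    · simpa [hc] using h
    obtain ⟨-, -, h3, e, he, h4⟩ := h'.smul2 hc
    have := h.conj he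
    convert this using 1
    · rw [h4]; simp
    · ext x
      have := h4.inv h3 x
      simp only [LinearMap.comp_apply, LinearEquiv.coe_coe, this]
      simp
      ring
  add1 := fun {v v' φ} h h' hn => by
    obtain ⟨h1, h2, h3, g, hg, h4⟩ := h
    obtain ⟨h1', h2', h3', g', hg', h4'⟩ := h'
    refine ⟨hn, h2, by simp [h3, h3'], g * g', H.mul_mem hg hg', fun x => ?_⟩
    rw [LinearEquiv.mul_apply, h4', h4]
    simp only [map_add, map_smul, h3', smul_eq_mul]
    module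
  add2 := fun {v φ φ'} h h' hn => by
    obtain ⟨h1, h2, h3, g, hg, h4⟩ := h
    obtain ⟨h1', h2', h3', g', hg', h4'⟩ := h'
    refine ⟨h1, hn, by simp [h3, h3'], g * g', H.mul_mem hg hg', fun x => ?_⟩
    rw [LinearEquiv.mul_apply, h4', h4]
    simp only [map_add, map_smul, h3, smul_eq_mul, LinearMap.add_apply]
    module
  heis := fun {v φ s η} h0 h1 h2 a b c hs hη => by
    have two : (2 : ZMod p) ≠ 0 := by
      intro e
      have : p ∣ 2 := (ZMod.natCast_eq_zero_iff 2 p).mp (by exact_mod_cast e)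
      have := (Nat.prime_dvd_prime_iff_eq Fact.out Nat.prime_two).mp this
      subst this
      exact absurd hp (by decide)
    simp only [LinearMap.id_apply] at a b c
    obtain ⟨-, -, d, g0, hg0, e0⟩ := h0
    obtain ⟨-, -, d1, g1, hg1, e1⟩ := h1
    obtain ⟨-, -, -, g2, hg2, e2⟩ := h2
    have e1' := e1.inv d1
    have : TH H s ((2 : ZMod p) • η) := by
      refine ⟨hs, smul_ne_zero two hη, by simp [c], g2 * g1⁻¹ * g1⁻¹ * g0,
        H.mul_mem (H.mul_mem (H.mul_mem hg2 (H.inv_mem hg1)) (H.inv_mem hg1)) hg0, fun x => ?_⟩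
      rw [LinearEquiv.mul_apply, LinearEquiv.mul_apply, LinearEquiv.mul_apply, e0, e1', e1', e2]
      simp only [map_add, map_smul, LinearMap.add_apply, LinearMap.neg_apply, LinearMap.smul_apply,
        a, b, c, d, smul_eq_mul]
      module
    simpa [smul_smul, two] using this.smul2 (inv_ne_zero two)
  opp := fun {s η} h => by
    by_contra hn
    push Not at hn
    obtain ⟨h1, h2, h3, g, hg, h4⟩ := id h
    have : Finite (V ≃ₗ[ZMod p] V) :=
      Finite.of_injective (fun f : V ≃ₗ[ZMod p] V => (f : V → V)) DFunLike.coe_injective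
    have hp0 : ((p : ℕ) : ZMod p) = 0 := by simp
    have : (⟨g, hg⟩ : H) ∈ Cfsg.pCore p ↥H := by
      refine H9.mem_pCore_of_pairs fun e => ?_
      have h5 := h.conj e.2
      have h6 := h4.conj (e : V ≃ₗ[ZMod p] V)
      by_cases h7 : (η ∘ₗ ((e : V ≃ₗ[ZMod p] V)⁻¹ : V ≃ₗ[ZMod p] V)) s = 0
      · exact isPGroup_of_flag hp0 h4 h6 h3 h5.2.2.1 h7
      · rw [Set.pair_comm]
        exact isPGroup_of_flag hp0 h6 h4 h5.2.2.1 h3 (hn _ _ h5 h7)
    rw [hOp, Subgroup.mem_bot] at this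
    have h5 : g = 1 := congrArg Subtype.val this
    apply h2
    ext x
    have := h4 x
    rw [h5] at this
    simpa [h1] using this

theorem exists_TH [Finite V] {H : Subgroup (V ≃ₗ[ZMod p] V)} {t : V ≃ₗ[ZMod p] V} (ht : t ∈ H)
    (h1 : orderOf t = p)
    (h2 : finrank (ZMod p) ↥(LinearMap.ker ((t : V →ₗ[ZMod p] V) - LinearMap.id)) + 1 =
      finrank (ZMod p) V) : ∃ v φ, TH H v φ ∧ IsTv t v φ := by
  set f := (t : V →ₗ[ZMod p] V) - LinearMap.id with hf
  have h3 : finrank (ZMod p) (LinearMap.range f) = 1 := by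
    have := LinearMap.finrank_range_add_finrank_ker f
    omega
  obtain ⟨⟨v, hv⟩, hv0, hall⟩ := finrank_eq_one_iff'.mp h3
  have hv0' : v ≠ 0 := fun e => hv0 (Subtype.ext e)
  have h4 : ∀ x, f x ∈ Submodule.span (ZMod p) {v} := fun x => by
    obtain ⟨c, hc⟩ := hall ⟨f x, LinearMap.mem_range_self f x⟩
    exact Submodule.mem_span_singleton.mpr ⟨c, congrArg Subtype.val hc⟩
  let φ : Dual (ZMod p) V :=
    (LinearEquiv.coord (ZMod p) V v hv0').toLinearMap ∘ₗ f.codRestrict _ h4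
  have h5 : IsTv t v φ := fun x => by
    have := LinearEquiv.coord_apply_smul (ZMod p) V v hv0' ⟨f x, h4 x⟩
    change φ x • v = f x at this
    rw [this, hf]; simp
  have h6 : φ v = 0 := by
    have e1 : ∀ n : ℕ, (t ^ n) v = (1 + φ v) ^ n • v := by
      intro n
      induction n with
      | zero => simp
      | succ n ih => rw [pow_succ', LinearEquiv.mul_apply, ih, map_smul, h5]; module
    have e2 := e1 p
    have e3 : t ^ p = 1 := by have := pow_orderOf_eq_one t; rwa [h1] at this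
    rw [ZMod.pow_card, e3, add_smul, one_smul] at e2
    simpa [hv0'] using e2
  refine ⟨v, φ, ⟨hv0', fun e => ?_, h6, t, ht, h5⟩, h5⟩
  have : t = 1 := LinearEquiv.ext fun x => by rw [h5, e]; simp
  rw [this, orderOf_one] at h1
  exact (Fact.out : p.Prime).one_lt.ne h1

end ZModp

end Cfsg.Agent.H36
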