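import Cfsg.Agent.H15.O8B

/-! Frames for the large Ree groups: uniqueness of the centraliser and the action of the torus. -/

set_option autoImplicit false
set_option linter.unusedSimpArgs false
set_option linter.unnecessarySeqFocus false

namespace Cfsg.Agent.H36.O8T

open Cfsg.Agent.H39 Cfsg.Agent.H83 Cfsg.Agent.H15.O8 Subgroup

variable {K : Type*} [Field K] {T : Tits K} {G : Type*} [Group G] {G' : Type*} [Group G']

/-- A subgroup of a product which is the graph of an isomorphism. -/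
theorem graph_equiv (P : Subgroup (G × G')) {A : Subgroup G} {B : Subgroup G'}
    (hA : P.map (MonoidHom.fst G G') = A) (hB : P.map (MonoidHom.snd G G') = B)
    (h1 : ∀ g ∈ P, g.1 = 1 → g = 1) (h2 : ∀ g ∈ P, g.2 = 1 → g = 1) :
    ∃ e : A ≃* B, ∀ g ∈ P, ∀ h : g.1 ∈ A, (e ⟨g.1, h⟩ : G') = g.2 := by
  subst hA hB
  have b1 : Function.Bijective ((MonoidHom.fst G G').subgroupMap P) :=
    ⟨(injective_iff_map_eq_one _).2 fun g hg => Subtype.ext (h1 g g.2 (congrArg Subtype.val hg)),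
      MonoidHom.subgroupMap_surjective _ _⟩
  have b2 : Function.Bijective ((MonoidHom.snd G G').subgroupMap P) :=
    ⟨(injective_iff_map_eq_one _).2 fun g hg => Subtype.ext (h2 g g.2 (congrArg Subtype.val hg)),
      MonoidHom.subgroupMap_surjective _ _⟩
  refine ⟨(MulEquiv.ofBijective _ b1).symm.trans (MulEquiv.ofBijective _ b2), fun g hg h => ?_⟩
  have : (MulEquiv.ofBijective _ b1).symm ⟨g.1, h⟩ = ⟨g, hg⟩ :=
    (MulEquiv.symm_apply_eq _).2 rfl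
  rw [MulEquiv.trans_apply, this]
  rfl

theorem act_l (F : CF T G) (u : U T) {q : U T} (hq : q ∈ Q T) :
    F.n * F.φ u * F.n * F.φ q * (F.n * F.φ u * F.n)⁻¹ = F.φ (w8 (u * w8 q * u⁻¹)) := by
  rw [← F.n_conj (nQ.conj_mem _ (w8_mem q) u), map_mul, map_mul, map_inv, ← F.n_conj hq]
  group

theorem act_r (F : CF T G) (a b : U T) (c : Kˣ) {q : U T} (hq : q ∈ Q T) :
    F.φ a * F.d c * F.n * F.φ b * F.φ q * (F.φ a * F.d c * F.n * F.φ b)⁻¹ =
      F.φ (a * tor T (1, c) (w8 (b * q * b⁻¹)) * a⁻¹) := by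
  rw [map_mul, map_mul, map_inv, ← F.dφ, ← F.n_conj (nQ.conj_mem _ hq b), map_mul, map_mul, map_inv]
  group

theorem same (F : CF T G) (F' : CF T G') {u a b : U T} {c : Kˣ} (hu : u ∈ U8 T) (ha : a ∈ U8 T)
    (hb : b ∈ U8 T) (e : F.n * F.φ u * F.n = F.φ a * F.d c * F.n * F.φ b) :
    F'.n * F'.φ u * F'.n = F'.φ a * F'.d c * F'.n * F'.φ b := by
  have u1 : u ≠ 1 := fun k => F.n_not (by
    rw [k, map_one, mul_one, F.nn] at e
    have : F.n = (F.φ a * F.d c)⁻¹ * (F.φ a * F.d c * F.n * F.φ b) * (F.φ b)⁻¹ := by group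
    rw [this, ← e]
    exact mul_mem (mul_mem (inv_mem (mul_mem (F.φ_mem_B a) (F.d_mem_B c))) (one_mem _))
      (inv_mem (F.φ_mem_B b)))
  obtain ⟨a', ha', b', hb', c', e'⟩ := F'.rk u hu u1
  have mem : ∀ a b c, F.φ a * F.d c * F.n * F.φ b ∈ F.C := fun a b c =>
    mul_mem (mul_mem (mul_mem (F.φ_mem a) (F.d_mem c)) F.n_mem) (F.φ_mem b)
  obtain ⟨z, hz, ez⟩ := F.cQ _ (mul_mem (inv_mem (mem a b c)) (mem a' b' c')) fun q hq => by
    have h1 := act_l F' u hq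
    rw [e', act_r F' _ _ _ hq] at h1
    have h2 := act_l F u hq
    rw [e, ← F'.inj h1, ← act_r F _ _ _ hq] at h2
    calc _ = (F.φ a * F.d c * F.n * F.φ b)⁻¹ * (F.φ a' * F.d c' * F.n * F.φ b' * F.φ q *
        (F.φ a' * F.d c' * F.n * F.φ b')⁻¹) * (F.φ a' * F.d c' * F.n * F.φ b') := by group
      _ = _ := by rw [← h2]; group
  have cz : F.φ z * (F.φ a * F.d c * F.n * F.φ b) = F.φ a * F.d c * F.n * F.φ b * F.φ z :=
    F.cZ (mem a b c) _ ⟨z, hz, rfl⟩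
  have e1 : F.φ a' * F.d c' * F.n * F.φ b' = F.φ z * (F.φ a * F.d c * F.n * F.φ b) := by
    rw [cz, ez]; group
  have e2 : F.n * F.φ (b' * b⁻¹) * F.n = (F.φ a' * F.d c')⁻¹ * (F.φ z * (F.φ a * F.d c)) := by
    calc _ = (F.φ a' * F.d c')⁻¹ * (F.φ a' * F.d c' * F.n * F.φ b') * (F.φ b)⁻¹ * F.n := by
          rw [map_mul, map_inv]; group
      _ = (F.φ a' * F.d c')⁻¹ * (F.φ z * (F.φ a * F.d c)) * (F.n * F.n) := by rw [e1]; group
      _ = _ := by rw [F.nn, mul_one]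
  obtain rfl : b' = b := mul_inv_eq_one.1 (eq_one_of_U8_Q (mul_mem hb' (inv_mem hb))
    (F.mem_Q_of_conj (e2 ▸ mul_mem (inv_mem (mul_mem (F.φ_mem_B _) (F.d_mem_B _)))
      (mul_mem (F.φ_mem_B _) (mul_mem (F.φ_mem_B _) (F.d_mem_B _))))))
  have e3 : F.φ a' * F.d c' = F.φ z * (F.φ a * F.d c) := by
    have : F.φ a' * F.d c' * (F.n * F.φ b') = F.φ z * (F.φ a * F.d c) * (F.n * F.φ b') := by
      simpa [mul_assoc] using e1
    exact mul_right_cancel this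
  obtain rfl : c' = c := mul_inv_eq_one.1 (F.eq_one_of_d ⟨a'⁻¹ * z * a, by
    rw [map_mul, map_mul, map_mul, map_inv, map_inv]
    calc _ = (F.φ a')⁻¹ * (F.φ z * (F.φ a * F.d c)) * (F.d c)⁻¹ := by group
      _ = _ := by rw [← e3]; group⟩)
  have e4 : a' = z * a := F.inj (by
    rw [map_mul]
    exact mul_right_cancel (b := F.d c') (by rw [e3, mul_assoc]))
  have : z = 1 := eq_one_of_U8_Q (by
    rw [← mul_inv_eq_iff_eq_mul.2 e4]; exact mul_mem ha' (inv_mem ha)) (W_le_Q (Z_le_W hz))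
  rw [e', e4, this, one_mul]

/-- The product of two frames of the centraliser. -/
def cprod (F : CF T G) (F' : CF T G') : CF T (G × G') where
  φ := F.φ.prod F'.φ
  inj _ _ h := F.inj (congrArg Prod.fst h)
  n := (F.n, F'.n)
  d := F.d.prod F'.d
  nn := Prod.ext F.nn F'.nn
  nφ u hu := Prod.ext (F.nφ u hu) (F'.nφ u hu)
  dφ c u := Prod.ext (F.dφ c u) (F'.dφ c u)
  nd c := Prod.ext (F.nd c) (F'.nd c)
  rk u hu h := by
    obtain ⟨a, ha, b, hb, c, e⟩ := F.rk u hu h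
    exact ⟨a, ha, b, hb, c, Prod.ext e (same F F' hu ha hb e)⟩

/-- The image of the centraliser under a homomorphism matching two frames. -/
theorem map_C_of (F : CF T G) (F' : CF T G') (f : G →* G') (h1 : f.comp F.φ = F'.φ)
    (h2 : f.comp F.d = F'.d) (h3 : f F.n = F'.n) : F.B.map f = F'.B ∧ F.C.map f = F'.C := by
  have : F.B.map f = F'.B := by
    rw [CF.B, CF.B, Subgroup.map_sup, ← MonoidHom.range_comp, ← MonoidHom.range_comp, h1, h2]
  exact ⟨this, by rw [CF.C, CF.C, Subgroup.map_sup, this, MonoidHom.map_zpowers, h3]⟩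

theorem inj_C_of (F : CF T G) (F' : CF T G') (f : G →* G') (h1 : f.comp F.φ = F'.φ)
    (h2 : f.comp F.d = F'.d) (h3 : f F.n = F'.n) (g : G) (hg : g ∈ F.C) (e : f g = 1) : g = 1 := by
  have k1 : ∀ u, f (F.φ u) = F'.φ u := fun u => DFunLike.congr_fun h1 u
  have k2 : ∀ u, f (F.d u) = F'.d u := fun u => DFunLike.congr_fun h2 u
  rcases F.mem_C g hg with hb | ⟨b, hb, v, -, rfl⟩
  · obtain ⟨u, c, rfl⟩ := (F.mem_B g).1 hb
    rw [map_mul, k1, k2] at e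
    obtain rfl : c = 1 := F'.eq_one_of_d ⟨u⁻¹, by rw [map_inv, inv_eq_of_mul_eq_one_right e]⟩
    rw [map_one, mul_one] at e ⊢
    rw [F'.inj (e.trans (map_one _).symm), map_one]
  · rw [map_mul, map_mul, k1, h3] at e
    have hb' : f b ∈ F'.B := (map_C_of F F' f h1 h2 h3).1 ▸ mem_map_of_mem f hb
    refine absurd ?_ F'.n_not
    have : F'.n = (f b)⁻¹ * (f b * F'.n * F'.φ v) * (F'.φ v)⁻¹ := by group
    rw [this, e, mul_one]
    exact mul_mem (inv_mem hb') (inv_mem (F'.φ_mem_B v))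

theorem cf_uniq (F : CF T G) (F' : CF T G') : ∃ e : F.C ≃* F'.C,
    (∀ u, e ⟨F.φ u, F.φ_mem u⟩ = ⟨F'.φ u, F'.φ_mem u⟩) ∧ e ⟨F.n, F.n_mem⟩ = ⟨F'.n, F'.n_mem⟩ ∧
      ∀ c, e ⟨F.d c, F.d_mem c⟩ = ⟨F'.d c, F'.d_mem c⟩ := by
  obtain ⟨e, he⟩ := graph_equiv (cprod F F').C
    (map_C_of (cprod F F') F (MonoidHom.fst G G') rfl rfl rfl).2
    (map_C_of (cprod F F') F' (MonoidHom.snd G G') rfl rfl rfl).2
    (inj_C_of (cprod F F') F (MonoidHom.fst G G') rfl rfl rfl)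
    (inj_C_of (cprod F F') F' (MonoidHom.snd G G') rfl rfl rfl)
  exact ⟨e, fun u => Subtype.ext (he _ ((cprod F F').φ_mem u) _),
    Subtype.ext (he _ (cprod F F').n_mem _), fun c => Subtype.ext (he _ ((cprod F F').d_mem c) _)⟩

theorem h_n8 (M : PF T G) (c : Kˣ × Kˣ) :
    M.h c * M.n8 * (M.h c)⁻¹ = M.h (1, c.2 ^ 2 / θu T c.1) * M.n8 := by
  obtain ⟨a, b⟩ := c
  have i8 : M.n8⁻¹ = M.n8 := inv_eq_of_mul_eq_one_right M.n8n8
  calc _ = M.h (a, b) * (M.n8 * M.h (a, b) * M.n8)⁻¹ * M.n8 := by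
        rw [mul_inv_rev, mul_inv_rev, i8, mul_assoc, mul_assoc, mul_assoc, mul_assoc, M.n8n8,
          mul_one]
    _ = _ := by
        rw [M.n8h, ← map_inv, ← map_mul]
        congr 2
        ext <;> simp [pow_two, div_eq_mul_inv, mul_assoc]

theorem h_comm (M : PF T G) (c e : Kˣ × Kˣ) : M.h c * M.h e * (M.h c)⁻¹ = M.h e := by
  rw [← map_mul, mul_comm, map_mul, mul_inv_cancel_right]

theorem h_norm_C (M : PF T G) (c : Kˣ × Kˣ) : M.h c ∈ normalizer (M.cf.C : Set G) := by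
  have key : ∀ c, M.cf.C ≤ cj (M.h c)⁻¹ M.cf.C := fun c => M.cf.C_le
    (fun u => mem_cj.2 (by rw [inv_inv]; exact M.hφ c u ▸ M.cf.φ_mem _))
    (fun e => mem_cj.2 (by rw [inv_inv]; exact (h_comm M c _).symm ▸ M.cf.d_mem e))
    (mem_cj.2 (by
      rw [inv_inv]
      exact (h_n8 M c).symm ▸ mul_mem (M.cf.d_mem _) M.cf.n_mem))
  refine cj_eq_self_iff.1 (le_antisymm (cj_le_iff.2 (key c)) ?_)
  have := key c⁻¹
  rwa [map_inv, inv_inv] at this

theorem hasTor (M : PF T G') (F : CF T G) : F.HasTor := by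
  obtain ⟨e, e1, e2, e3⟩ := cf_uniq M.cf F
  let τ := (MulAut.congr e).toMonoidHom.comp
    (M.cf.C.normalizerMonoidHom.comp (M.h.codRestrict _ (h_norm_C M)))
  have key : ∀ c (x y : M.cf.C), M.h c * x * (M.h c)⁻¹ = y → τ c (e x) = e y := fun c x y k => by
    show e (M.cf.C.normalizerMonoidHom ⟨_, h_norm_C M c⟩ (e.symm (e x))) = e y
    rw [e.symm_apply_apply]
    exact congrArg e (Subtype.ext k)
  refine ⟨τ, fun c u => ?_, fun c => ?_, fun c a => ?_⟩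
  · rw [← e1, key c _ ⟨_, M.cf.φ_mem (tor T c u)⟩ (M.hφ c u), e1]
  · rw [← e2, key c _ (⟨_, M.cf.d_mem _⟩ * ⟨_, M.cf.n_mem⟩) (h_n8 M c), map_mul, e2, e3]
    rfl
  · rw [← e3, key c _ ⟨_, M.cf.d_mem a⟩ (h_comm M c _), e3]

theorem mem_X_φ (M : PF T G) (u : U T) : M.φ u ∈ M.X :=
  mem_sup_left (mem_sup_left (mem_sup_left ⟨u, rfl⟩))

theorem mem_X_h (M : PF T G) (c : Kˣ × Kˣ) : M.h c ∈ M.X :=
  mem_sup_left (mem_sup_left (mem_sup_right ⟨c, rfl⟩))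

theorem mem_X_n1 (M : PF T G) : M.n1 ∈ M.X := mem_sup_left (mem_sup_right (mem_zpowers _))

theorem mem_X_n8 (M : PF T G) : M.n8 ∈ M.X := mem_sup_right (mem_zpowers _)

theorem X_le_of (M : PF T G) {H : Subgroup G} (h1 : ∀ u, M.φ u ∈ H) (h2 : ∀ c, M.h c ∈ H)
    (h3 : M.n1 ∈ H) (h4 : M.n8 ∈ H) : M.X ≤ H :=
  sup_le (sup_le (sup_le (fun _ ⟨u, e⟩ => e ▸ h1 u) fun _ ⟨c, e⟩ => e ▸ h2 c) (zpowers_le.2 h3))
    (zpowers_le.2 h4)

theorem C_le_X (M : PF T G) : M.cf.C ≤ M.X :=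
  M.cf.C_le (mem_X_φ M) (fun _ => mem_X_h M _) (mem_X_n8 M)

theorem n1_eq (M : PF T G) :
    M.n1 = (M.φ (x1 T 1))⁻¹ * (M.n1 * M.φ (x1 T 1) * M.n1) * (M.φ (x1 T 1))⁻¹ := by
  have := M.rk1 1
  simp only [inv_one, Units.val_one, map_one, div_one, Prod.mk_one_one, mul_one] at this
  rw [this]
  group

theorem X_le (M : PF T G) (H : Subgroup G) (h : ∀ g ∈ M.X, cj g M.cf.C ≤ H) : M.X ≤ H := by
  have h0 : M.cf.C ≤ H := cj_one M.cf.C ▸ h 1 (one_mem _)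
  have i1 : M.n1⁻¹ = M.n1 := inv_eq_of_mul_eq_one_right M.n1n1
  have h1 : ∀ x ∈ M.cf.C, M.n1 * x * M.n1 ∈ H := fun x hx => by
    have := h _ (mem_X_n1 M) (conj_mem_cj hx)
    rwa [i1] at this
  refine X_le_of M (fun u => h0 (M.cf.φ_mem u)) (fun c => ?_) ?_ (h0 M.cf.n_mem)
  · have : M.h c = M.n1 * M.h (1, c.1) * M.n1 * M.h (1, c.2) := by
      rw [M.n1h, ← map_mul]; simp
    rw [this]
    exact mul_mem (h1 _ (M.cf.d_mem _)) (h0 (M.cf.d_mem _))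
  · rw [n1_eq M]
    exact mul_mem (mul_mem (inv_mem (h0 (M.cf.φ_mem _))) (h1 _ (M.cf.φ_mem _)))
      (inv_mem (h0 (M.cf.φ_mem _)))

end Cfsg.Agent.H36.O8T
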