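import Cfsg.Agent.H36.NonDeg

/-! Odd transpositions: basic facts, common neighbours in the commuting graph. -/

set_option autoImplicit false

namespace Cfsg.Agent.H36

open Cfsg

universe u

variable {G : Type u} [Group G] {D : Set G}

/-- relative version of a set of odd transpositions -/
structure OT (D : Set G) : Prop where
  ri : RI D
  opp : ∀ a ∈ D, ∀ b ∈ D, a * b ≠ b * a → Opp a b

theorem OT.of (h : IsOddTranspositionSet D) : OT D :=
  ⟨RI.of h.1, fun a ha b hb hab => by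
    by_contra ho
    exact h.2 a ha b hb ((RI.of h.1).order_four ha hb ho hab)⟩

theorem Cl_mono {S S' : Set G} (h : S ⊆ S') (x : G) : Cl S x ⊆ Cl S' x := by
  rintro _ ⟨g, hg, rfl⟩
  exact ⟨g, Subgroup.closure_mono h hg, rfl⟩

theorem CE.comm_of_connected (h : CE D) {D' : Set G} (hs : D' ⊆ D)
    (hc : IsConnectedSet (CommAdj D') D') {a b : G} (ha : a ∈ D') (hb : b ∈ D') : a * b = b * a := by
  have := hc a ha b hb
  clear hb
  induction this with
  | refl => rfl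
  | tail _ e ih => exact h a (hs ha) _ (hs e.1) _ (hs e.2.1) ih e.2.2.2

/-- the kernel of the action on the commuting classes -/
def Ker (hD : RI D) (h : CE D) : Subgroup G where
  carrier := {g | g ∈ Subgroup.closure D ∧ ∀ e ∈ D, Nz g e}
  one_mem' := ⟨Subgroup.one_mem _, fun e _ => by simp [Nz]⟩
  mul_mem' := by
    rintro a b ⟨ha, ha'⟩ ⟨hb, hb'⟩
    refine ⟨Subgroup.mul_mem _ ha hb, fun e he => ?_⟩
    have h1 := hD.conj_mem hb he
    have := h _ (hD.conj_mem ha h1) _ h1 _ he (ha' _ h1) (hb' e he)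
    simpa [Nz, mul_assoc] using this
  inv_mem' := by
    rintro a ⟨ha, ha'⟩
    refine ⟨Subgroup.inv_mem _ ha, fun e he => ?_⟩
    have := ha' _ (hD.conj_mem (Subgroup.inv_mem _ ha) he)
    simpa [Nz, mul_assoc] using this.symm

theorem Ker.conj {hD : RI D} {h : CE D} {g k : G} (hg : g ∈ Subgroup.closure D) (hk : k ∈ Ker hD h) :
    g * k * g⁻¹ ∈ Ker hD h := by
  refine ⟨Subgroup.mul_mem _ (Subgroup.mul_mem _ hg hk.1) (Subgroup.inv_mem _ hg), fun e he => ?_⟩
  have := comm_conj (hk.2 _ (hD.conj_mem (Subgroup.inv_mem _ hg) he)) g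
  simpa [Nz, mul_assoc] using this

theorem mem_E_self {d : G} (hd : d ∈ D) : d ∈ sameCommutingClass D d := ⟨hd, rfl⟩

theorem E_comm {d e c : G} (he : e ∈ sameCommutingClass D d) (hc : c ∈ D) :
    c * d = d * c ↔ c * e = e * c := (mem_sameCommutingClass.mp he).2 c hc

namespace OT

variable (hD : OT D)
include hD

theorem cl {S : Set G} (hS : S ⊆ D) {x : G} (hx : x ∈ S) : OT (Cl S x) := by
  have hs := hD.ri.Cl_subset hS (hS hx)
  exact ⟨hD.ri.ri_Cl hS hx fun a ha b hb h h' => (h (hD.opp a (hs ha) b (hs hb) h')).elim,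
    fun a ha b hb => hD.opp a (hs ha) b (hs hb)⟩

/-- a member centralising a product of two different commuting members commutes with both -/
theorem comm_of_prod {a b c : G} (ha : a ∈ D) (hb : b ∈ D) (hab : a * b = b * a) (hne : a ≠ b)
    (hc : c ∈ D) (h : c * (a * b) = (a * b) * c) : c * a = a * c ∧ c * b = b * c := by
  have k : ∀ a b : G, a ∈ D → b ∈ D → a * b = b * a → a ≠ b → c * (a * b) = (a * b) * c →
      c * a = a * c := fun a b ha hb hab hne h => by
    by_contra hn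
    refine hne ?_
    have := hD.ri.lemB ha hc (hD.opp c hc a ha hn) (w := a * b)
      (by rw [← pow_two]; exact four_of_comm (hD.ri.sq ha) (hD.ri.sq hb) hab)
      (by rw [mul_assoc, ← hab]) h.symm (by rw [sq' (hD.ri.sq ha)]; exact hb)
    rw [← hD.ri.inv hb] at this
    exact mul_inv_eq_one.mp this
  exact ⟨k a b ha hb hab hne h, k b a hb ha hab.symm hne.symm (hab ▸ h)⟩

theorem mem_E_of_subset [Finite G] (h1 : OneClass D) {a b : G} (ha : a ∈ D) (hb : b ∈ D)
    (h : ∀ c ∈ D, c * a = a * c → c * b = b * c) : b ∈ sameCommutingClass D a := by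
  refine (hD.ri.mem_E_iff h1 ha).mpr ⟨hb, (hD.ri.AA_eq_of_subset h1 hb ha ?_).symm⟩
  rintro c ⟨hc, ho⟩
  exact ⟨hc, hD.opp c hc a ha fun e => ho.not_comm (hD.ri.sq hc) (hD.ri.sq hb) (h c hc e)⟩

/-- a product in `D` lies in one class `E` with its factors -/
theorem mem_E_of_prod [Finite G] (h1 : OneClass D) {a b : G} (ha : a ∈ D) (hb : b ∈ D)
    (hab : a * b = b * a) (hm : a * b ∈ D) :
    a ∈ sameCommutingClass D (a * b) ∧ b ∈ sameCommutingClass D (a * b) := by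
  have hne : a ≠ b := fun e => hD.ri.ne_one hm (by rw [← e, hD.ri.sq ha])
  exact ⟨hD.mem_E_of_subset h1 hm ha fun c hc h => (hD.comm_of_prod ha hb hab hne hc h).1,
    hD.mem_E_of_subset h1 hm hb fun c hc h => (hD.comm_of_prod ha hb hab hne hc h).2⟩

theorem exists_E_prod [Finite G] (h1 : OneClass D) (hp : HasProd D) {d : G} (hd : d ∈ D) :
    ∃ e ∈ sameCommutingClass D d, d * e = e * d ∧ d * e ∈ sameCommutingClass D d := by
  obtain ⟨b, hb, h, hm⟩ := hD.ri.exists_prod h1 hp hd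
  have h2 : b * (d * b) = d := by rw [h, sq' (hD.ri.sq hb)]
  have := hD.mem_E_of_prod h1 hb hm (by rw [← mul_assoc, h]) (h2.symm ▸ hd)
  rw [h2] at this
  exact ⟨b, this.1, h, this.2⟩

/-- the `O`-case -/
theorem ocase {a b x : G} (ha : a ∈ D) (hb : b ∈ D) (hab : a * b = b * a) (hne : a ≠ b) (hx : x ∈ D)
    (h : ¬ Nz (a * b) x) : ∃ f ∈ D, f * a = a * f ∧ f * b = b * f ∧
      (a * b * f) * x = x * (a * b * f) := by
  have hu : (a * b) * (a * b) = 1 := by
    rw [← pow_two]; exact four_of_comm (hD.ri.sq ha) (hD.ri.sq hb) hab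
  have hg : a * b ∈ Subgroup.closure D :=
    Subgroup.mul_mem _ (Subgroup.subset_closure ha) (Subgroup.subset_closure hb)
  have hx' := hD.ri.conj_mem hg hx
  have ho := (hD.opp _ hx' x hx h).symm
  rw [inv_of_sq hu] at ho hx'
  obtain ⟨y, y1, y2, y3, -, k, hk⟩ := dih (hD.ri.sq hx) hu ho.2
  have hf : a * b * y ∈ D := hk ▸ hD.ri.conj_mem (Subgroup.pow_mem _
    (Subgroup.mul_mem _ (Subgroup.subset_closure hx) (Subgroup.subset_closure hx')) k) hx
  obtain ⟨f1, f2⟩ := hD.comm_of_prod ha hb hab hne hf (by rw [mul_assoc _ y, y3])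
  exact ⟨_, hf, f1, f2, by rw [sq' hu, y2]⟩

/-- at most one member of a line is of type `S` -/
theorem not_S_S {c d e x : G} (hc : c ∈ D) (hd : d ∈ D) (he : e ∈ D) (hde : d * e = e * d)
    (hm : d * e ∈ D) (hcd : c * d = d * c) (hce : c * e = e * c) (hx : x ∈ D)
    (hn : x * (d * e) ≠ (d * e) * x) (h1 : Nz (c * d) x) : ¬ Nz (c * e) x := fun h2 => by
  have m := fun (a : G) (ha : a ∈ D) => (Subgroup.subset_closure ha : a ∈ Subgroup.closure D)
  have q := fun (a : G) (ha : a ∈ D) => hD.ri.sq ha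
  have k : ∀ d : G, d ∈ D → Nz (c * d) x → (c * x * c⁻¹) * (d * x * d⁻¹) = (d * x * d⁻¹) * (c * x * c⁻¹) :=
    fun d hd h => by
      have := comm_conj h c
      simpa [mul_assoc, sq' (q c hc), hD.ri.inv hc, q c hc] using this.symm
  -- `x^c` centralises `⟨x^d, x^e⟩`, which contains `de`
  have ho := hD.opp x hx _ hm hn
  have hx' := hD.ri.conj_mem (m _ hm) hx
  have hn' : x * (d * e * x * (d * e)⁻¹) ≠ (d * e * x * (d * e)⁻¹) * x := fun h => by
    refine ho.four_ne (q _ hm) ?_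
    have := four_of_comm (q x hx) (q _ hx') h
    rw [hD.ri.inv hm] at this
    rw [← this]
    simp only [pow_succ, pow_zero, one_mul, mul_assoc]
  obtain ⟨j, hj⟩ := exists_conj_of_odd (q x hx) (q _ hm) ho.2
  obtain ⟨n, hn2⟩ := exists_pow_eq_self_of_coprime (x := x * (d * e)) (n := 2)
    (Nat.coprime_two_left.mpr ho.2)
  have e2 : (x * (d * e)) ^ 2 = x * (d * e * x * (d * e)⁻¹) := by
    rw [hD.ri.inv hm, pow_two]; simp only [mul_assoc]
  have z1 : Commute (d * (c * x * c⁻¹) * d⁻¹) x := by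
    have := comm_conj (k d hd h1) d
    have e : d * (d * x * d⁻¹) * d⁻¹ = x := by simp [mul_assoc, hD.ri.inv hd, sq' (q d hd), q d hd]
    rwa [e] at this
  have z2 : Commute (d * (c * x * c⁻¹) * d⁻¹) (d * e * x * (d * e)⁻¹) := by
    have := comm_conj (k e he h2) d
    rwa [show d * (e * x * e⁻¹) * d⁻¹ = d * e * x * (d * e)⁻¹ by group] at this
  have z3 : Commute (d * (c * x * c⁻¹) * d⁻¹) (x * (d * e)) := by
    rw [← hn2, e2]; exact (z1.mul_right z2).pow_right n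
  have z4 : Commute (d * (c * x * c⁻¹) * d⁻¹) (d * e) := by
    have := z1.inv_right.mul_right z3
    rwa [inv_mul_cancel_left] at this
  have z5 := comm_conj z4.eq (d * c)⁻¹
  have e3 : (d * c)⁻¹ * (d * e) * (d * c)⁻¹⁻¹ = d * e := by
    refine conj_eq_of_comm (Commute.inv_left (Commute.mul_left ?_ ?_)).eq
    · exact (Commute.refl d).mul_right hde
    · exact Commute.mul_right hcd hce
  rw [e3, show (d * c)⁻¹ * (d * (c * x * c⁻¹) * d⁻¹) * (d * c)⁻¹⁻¹ = x by group] at z5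
  exact hn z5

/-- fibres over the kernel -/
theorem fibre [Finite G] (h : CE D) {c d x : G} (hc : c ∈ D) (hd : d ∈ D) (hx : x ∈ D)
    (hn : x * c ≠ c * x) (hdc : d * c = c * d) (hk : d * c ∈ Ker hD.ri h) :
    ∃ w ∈ Ker hD.ri h, w * x = x * w ∧ d = w * c * w⁻¹ := by
  have m := fun (a : G) (ha : a ∈ D) => (Subgroup.subset_closure ha : a ∈ Subgroup.closure D)
  have q := fun (a : G) (ha : a ∈ D) => hD.ri.sq ha
  let F : Set G := {a | a ∈ D ∧ a * c = c * a ∧ a * c ∈ Ker hD.ri h}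
  let w : G → G := fun a => x * (a * c * x * (a * c)⁻¹)
  have w1 : ∀ a ∈ F, w a ∈ Ker hD.ri h := fun a ha => by
    have := Subgroup.mul_mem _ (Ker.conj (m x hx) ha.2.2) (Subgroup.inv_mem _ ha.2.2)
    rw [hD.ri.inv hx] at this
    simpa [w, mul_assoc] using this
  have x1 : ∀ a ∈ F, a * c * x * (a * c)⁻¹ ∈ D := fun a ha => hD.ri.conj_mem ha.2.2.1 hx
  have x2 : ∀ a ∈ F, Nz (a * c) x := fun a ha => ha.2.2.2 x hx
  have w2 : ∀ a ∈ F, w a * x = x * w a := fun a ha => by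
    simp only [w]; rw [mul_assoc x, x2 a ha]
  have maps : Set.MapsTo (fun a => w a * c * (w a)⁻¹) F F := fun a ha =>
    ⟨hD.ri.conj_mem (w1 a ha).1 hc, (w1 a ha).2 c hc, by
      have := Subgroup.mul_mem _ (w1 a ha) (Ker.conj (m c hc) (Subgroup.inv_mem _ (w1 a ha)))
      rw [hD.ri.inv hc] at this
      simpa [mul_assoc] using this⟩
  have inj : Set.InjOn (fun a => w a * c * (w a)⁻¹) F := fun a ha b hb e => by
    have e1 : a * c * x * (a * c)⁻¹ = b * c * x * (b * c)⁻¹ := by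
      by_contra hne
      have h2 := h _ (x1 a ha) x hx _ (x1 b hb) (x2 a ha) (x2 b hb).symm
      refine hn (h x hx _ (x1 a ha) c hc (x2 a ha).symm
        (hD.comm_of_prod (x1 b hb) (x1 a ha) h2.symm (Ne.symm hne) hc ?_).2.symm)
      have e2 : (w b)⁻¹ * w a = (b * c * x * (b * c)⁻¹) * (a * c * x * (a * c)⁻¹) := by
        simp only [w]
        rw [mul_inv_rev, hD.ri.inv (x1 b hb), mul_assoc, inv_mul_cancel_left]
      rw [← e2]
      simp only at e
      calc c * ((w b)⁻¹ * w a) = (w b)⁻¹ * (w b * c * (w b)⁻¹) * w a := by group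
        _ = _ := by rw [← e]; group
    by_contra hne
    have h2 := h a ha.1 c hc b hb.1 ha.2.1 hb.2.1.symm
    refine hn (h x hx a ha.1 c hc (hD.comm_of_prod hb.1 ha.1 h2.symm (Ne.symm hne) hx ?_).2 ha.2.1)
    have e2 : (b * c)⁻¹ * (a * c) = b * a := by
      rw [mul_inv_rev, hD.ri.inv hb.1, hD.ri.inv hc, ha.2.1, ← hb.2.1, mul_assoc, sq' (q c hc)]
    rw [← e2]
    calc x * ((b * c)⁻¹ * (a * c)) = (b * c)⁻¹ * (b * c * x * (b * c)⁻¹) * (a * c) := by group
      _ = _ := by rw [← e1]; group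
  obtain ⟨a, ha, e⟩ := ((Set.toFinite F).injOn_iff_bijOn_of_mapsTo maps).mp inj |>.surjOn
    (show d ∈ F from ⟨hd, hdc, hk⟩)
  exact ⟨w a, w1 a ha, w2 a ha, e.symm⟩

end OT

/-- the generating set `E_n ∪ E_d ∪ {x}` -/
def SX (D : Set G) (n d x : G) : Set G := sameCommutingClass D n ∪ sameCommutingClass D d ∪ {x}

theorem SX_subset {n d x : G} (hx : x ∈ D) : SX D n d x ⊆ D := by
  rintro a ((h | h) | rfl)
  exacts [h.1, h.1, hx]

theorem x_mem_SX (n d x : G) : x ∈ SX D n d x := Or.inr rfl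

theorem OT.SX_subset_Cl (hD : OT D) {n d x : G} (hx : x ∈ D) (hn : x * n ≠ n * x)
    (hd : x * d ≠ d * x) : SX D n d x ⊆ Cl (SX D n d x) x := by
  intro a ha
  have k : a ∈ D → x * a ≠ a * x → a ∈ Cl (SX D n d x) x := fun h1 h2 =>
    hD.ri.mem_Cl_of_opp hx h1 (Subgroup.subset_closure (x_mem_SX _ _ _)) (Subgroup.subset_closure ha)
      (hD.opp x hx a h1 h2)
  rcases ha with (h | h) | rfl
  · exact k h.1 fun e => hn ((E_comm h hx).mpr e)
  · exact k h.1 fun e => hd ((E_comm h hx).mpr e)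
  · exact self_mem_Cl _ _

theorem OT.hasProd_Cl [Finite G] (hD : OT D) (h1 : OneClass D) (hp : HasProd D) {n d x : G}
    (hd' : d ∈ D) (hx : x ∈ D) (hn : x * n ≠ n * x) (hd : x * d ≠ d * x) :
    HasProd (Cl (SX D n d x) x) := by
  obtain ⟨e, he, h, hm⟩ := hD.exists_E_prod h1 hp hd'
  have hs := hD.SX_subset_Cl hx hn hd
  exact ⟨d, hs (Or.inl (Or.inr (mem_E_self hd'))), e, hs (Or.inl (Or.inr he)), h,
    hs (Or.inl (Or.inr hm))⟩

/-- Lemma L1 -/
theorem OT.mem_E_Cl [Finite G] (hD : OT D) (h1 : OneClass D) (hp : HasProd D) {n d x : G}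
    (hn' : n ∈ D) (hd' : d ∈ D) (hx : x ∈ D) (hn : x * n ≠ n * x) (hd : x * d ≠ d * x)
    (hnd : n * d = d * n) : n ∈ sameCommutingClass (Cl (SX D n d x) x) d := by
  have hs := hD.SX_subset_Cl hx hn hd
  have hsub := hD.ri.Cl_subset (SX_subset (n := n) (d := d) hx) hx
  have hnX := hs (Or.inl (Or.inl (mem_E_self hn')))
  have hX := hD.cl (SX_subset (n := n) (d := d) hx) (x_mem_SX n d x)
  have key : ∀ e ∈ sameCommutingClass D d, ¬ Nz (n * e) x → n ≠ e →
      n ∈ sameCommutingClass (Cl (SX D n d x) x) d := by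
    intro e he hS hne
    have heX := hs (Or.inl (Or.inr he))
    have hne' := (E_comm he hn').mp hnd
    obtain ⟨f, hf, f1, f2, f3⟩ := hX.ocase hnX heX hne' hne (self_mem_Cl _ _) hS
    have hz : ∀ s ∈ SX D n d x, (n * e * f) * s = s * (n * e * f) := by
      rintro s ((h | h) | rfl)
      · exact (Commute.mul_left (Commute.mul_left ((E_comm h hn').mp rfl)
          ((E_comm h he.1).mp hne'.symm)) ((E_comm h (hsub hf)).mp f1)).eq
      · exact (Commute.mul_left (Commute.mul_left ((E_comm h hn').mp hnd)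
          ((E_comm h he.1).mp ((E_comm he hd').mp rfl).symm))
          ((E_comm h (hsub hf)).mp ((E_comm he (hsub hf)).mpr f2))).eq
      · exact f3
    have hef : e ≠ f := fun e1 => hn (by
      rw [← e1, mul_assoc n e e, hD.ri.sq he.1, mul_one] at f3; exact f3.symm)
    have := hX.mem_E_of_subset (oneClass_Cl (x_mem_SX _ _ _) hs) hnX heX fun c hc h => by
      refine (hX.comm_of_prod heX hf f2.symm hef hc ?_).1
      have e1 := comm_closure hz (Cl.mem_closure (x_mem_SX _ _ _) hc)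
      have e2 : e * f = n * (n * e * f) := by rw [mul_assoc n e f, sq' (hD.ri.sq hn')]
      rw [e2]
      exact (Commute.mul_right h e1.symm).eq
    refine mem_sameCommutingClass.mpr ⟨hnX, fun c hc => ?_⟩
    rw [E_comm he (hsub hc), E_comm this hc]
  by_cases hE : n ∈ sameCommutingClass D d
  · exact mem_sameCommutingClass.mpr ⟨hnX, fun c hc => E_comm hE (hsub hc)⟩
  obtain ⟨e, he, h, hm⟩ := hD.exists_E_prod h1 hp hd'
  by_cases hS : Nz (n * d) x
  · exact key e he (hD.not_S_S hn' hd' he.1 h hm.1 hnd ((E_comm he hn').mp hnd) hx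
      (fun e1 => hd ((E_comm hm hx).mpr e1)) hS) fun e1 => hE (e1 ▸ he)
  · exact key d (mem_E_self hd') hS fun e1 => hE (by rw [e1]; exact mem_E_self hd')

theorem exists_comm_aux [Finite G] (k : ℕ) : ∀ D : Set G, D.ncard = k → OT D → OneClass D →
    HasProd D → IsConnectedSet (CommAdj D) D → ∀ d ∈ D, ∀ x ∈ D,
    ∃ e ∈ D, e * d = d * e ∧ e * x = x * e := by
  induction k using Nat.strong_induction_on with
  | _ k ih =>
  intro D hk hD h1 hp hc d₀ hd₀ x hx
  by_contra hcon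
  obtain ⟨c, d, ⟨hc', hd, -, hcd⟩, hTc, hTd⟩ := rtg_exists_step
    (T := fun d => ¬ ∃ e ∈ D, e * d = d * e ∧ e * x = x * e) (hc x hx d₀ hd₀)
    (fun h => h ⟨x, hx, rfl, rfl⟩) hcon
  obtain ⟨y, hy, hyc, hyx⟩ := not_not.mp hTc
  have m := fun (S : Set G) (a : G) (ha : a ∈ S) =>
    (Subgroup.subset_closure ha : a ∈ Subgroup.closure S)
  have nx : ∀ n ∈ D, n * d = d * n → x * n ≠ n * x := fun n hn h e => hTd ⟨n, hn, h, e.symm⟩
  have xd := nx d hd rfl
  have xc := nx c hc' hcd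
  have sub := fun n d => hD.ri.Cl_subset (SX_subset (n := n) (d := d) hx) hx
  have ot := fun n d => hD.cl (SX_subset (n := n) (d := d) hx) (x_mem_SX n d x)
  have A : ∀ n ∈ D, n * d = d * n → n ∉ sameCommutingClass D d → DCS (Cl (SX D n d x) x) := by
    intro n hn h hE
    have hs := hD.SX_subset_Cl hx (nx n hn h) xd
    have hp' := hD.hasProd_Cl h1 hp hd hx (nx n hn h) xd
    refine (ot n d).ri.dcs hp' fun hcn => ?_
    have hne : Cl (SX D n d x) x ≠ D := fun e =>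
      hE (e ▸ hD.mem_E_Cl h1 hp hn hd hx (nx n hn h) xd h)
    obtain ⟨e, he, e1⟩ := ih _ (hk ▸ Set.ncard_lt_ncard
      (Set.ssubset_iff_subset_ne.mpr ⟨sub n d, hne⟩)) _ rfl (ot n d)
      (oneClass_Cl (x_mem_SX _ _ _) hs) hp' hcn d (hs (Or.inl (Or.inr (mem_E_self hd)))) x
      (self_mem_Cl _ _)
    exact hTd ⟨e, sub n d he, e1⟩
  have hcE : c ∉ sameCommutingClass D d := fun h => hTd ⟨y, hy, (E_comm h hy).mpr hyc, hyx⟩
  have X := A c hc' hcd hcE
  have hsX := hD.SX_subset_Cl hx xc xd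
  have cX := hsX (Or.inl (Or.inl (mem_E_self hc')))
  have dX := hsX (Or.inl (Or.inr (mem_E_self hd)))
  have xX : x ∈ Cl (SX D c d x) x := self_mem_Cl _ _
  have B : ∀ a ∈ D, x * a ≠ a * x → SX D a a x ⊆ SX D c d x → ∃ r ∈ Subgroup.closure (SX D a a x),
      (∃ k : ℕ, r ^ 2 ^ k = 1) ∧ Nz r a ∧ (r * x * r⁻¹) * (x * a * x⁻¹) = (x * a * x⁻¹) * (r * x * r⁻¹) := by
    intro a ha xa hs
    have hs' := hD.SX_subset_Cl hx xa xa
    have aX := hs' (Or.inl (Or.inl (mem_E_self ha)))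
    have := ((ot a a).ri.dcs (hD.hasProd_Cl h1 hp ha hx xa xa) fun hcn =>
      xa (X.ce.comm_of_connected (Cl_mono hs x) hcn (self_mem_Cl _ _) aX)).ex a aX x (self_mem_Cl _ _)
      _ (Cl.conj aX (m _ x (x_mem_SX _ _ _))) xa fun e => (hD.opp x hx a ha xa).four_ne (hD.ri.sq ha) (by
        have := four_of_comm (hD.ri.sq (hD.ri.conj_mem (m _ x hx) ha)) (hD.ri.sq ha) e
        rw [hD.ri.inv hx] at this
        rw [← this]
        simp only [pow_succ, pow_zero, one_mul, mul_assoc])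
    rwa [closure_Cl (x_mem_SX _ _ _) hs'] at this
  have s1 : SX D d d x ⊆ SX D c d x := by
    rintro a ((h | h) | h)
    exacts [Or.inl (Or.inr h), Or.inl (Or.inr h), Or.inr h]
  have s2 : SX D c c x ⊆ SX D c d x := by
    rintro a ((h | h) | h)
    exacts [Or.inl (Or.inl h), Or.inl (Or.inl h), Or.inr h]
  obtain ⟨r, hr, r1, r2, r3⟩ := B d hd xd s1
  obtain ⟨r', hr', r1', r2', r3'⟩ := B c hc' xc s2
  have cl := closure_Cl (x_mem_SX c d x) hsX
  have hrX : r ∈ Subgroup.closure (Cl (SX D c d x) x) := cl ▸ Subgroup.closure_mono s1 hr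
  have hrX' : r' ∈ Subgroup.closure (Cl (SX D c d x) x) := cl ▸ Subgroup.closure_mono s2 hr'
  have R := (ot c d).ri
  have xX' := m _ x xX
  have hν : r⁻¹ * r' ∈ Ker R X.ce := ⟨Subgroup.mul_mem _ (Subgroup.inv_mem _ hrX) hrX',
    X.uniq d dX x xX xd r hrX r' hrX' r1 r1' r2
      (X.ce _ (R.conj_mem hrX' dX) c cX d dX (X.ce _ (R.conj_mem hrX' dX) _ (R.conj_mem hrX' cX) c cX
        (comm_conj hcd.symm r') r2') hcd)
      (X.ce _ (R.conj_mem hrX xX) _ (R.conj_mem xX' dX) _ (R.conj_mem hrX' xX) r3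
        (X.ce _ (R.conj_mem xX' dX) _ (R.conj_mem xX' cX) _ (R.conj_mem hrX' xX)
          (comm_conj hcd.symm x) r3'.symm))⟩
  have t : ∀ r a : G, (r * x * r⁻¹) * (x * a * x⁻¹) = (x * a * x⁻¹) * (r * x * r⁻¹) →
      (x⁻¹ * (r * x * r⁻¹) * x⁻¹⁻¹) * a = a * (x⁻¹ * (r * x * r⁻¹) * x⁻¹⁻¹) := fun r a h => by
    have := comm_conj h x⁻¹
    rwa [show x⁻¹ * (x * a * x⁻¹) * x⁻¹⁻¹ = a by group] at this
  have u : ∀ (S : Set G) (r : G), x ∈ S → r ∈ Subgroup.closure S →
      x⁻¹ * (r * x * r⁻¹) * x⁻¹⁻¹ ∈ Cl S x := fun S r h hr =>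
    Cl.conj (Cl.conj (self_mem_Cl _ _) hr) (Subgroup.inv_mem _ (m _ x h))
  have d1 := u _ r (x_mem_SX _ _ _) hr
  have c1 := u _ r' (x_mem_SX _ _ _) hr'
  have d2 := t r d r3
  have c2 := t r' c r3'
  have hk' : (x⁻¹ * (r * x * r⁻¹) * x⁻¹⁻¹) * (x⁻¹ * (r' * x * r'⁻¹) * x⁻¹⁻¹) ∈ Ker R X.ce := by
    have := Ker.conj (Subgroup.mul_mem _ (Subgroup.inv_mem _ xX') hrX)
      (Subgroup.mul_mem _ (Ker.conj xX' hν) (Subgroup.inv_mem _ hν))
    rw [hD.ri.inv hx] at this ⊢
    convert this using 1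
    rw [mul_inv_rev x r, hD.ri.inv hx]
    simp [mul_assoc, sq' (hD.ri.sq hx)]
  generalize x⁻¹ * (r * x * r⁻¹) * x⁻¹⁻¹ = d' at d1 d2 hk'
  generalize x⁻¹ * (r' * x * r'⁻¹) * x⁻¹⁻¹ = c' at c1 c2 hk'
  have d'X := Cl_mono s1 x d1
  have c'X := Cl_mono s2 x c1
  have hdE : d' ∈ sameCommutingClass D d := hD.mem_E_of_subset h1 hd (sub _ _ d1) fun n hn h => by
    have k2 : ∀ n ∈ D, n * d = d * n → n ∉ sameCommutingClass D d → ∀ e ∈ Cl (SX D n d x) x,
        e * d = d * e → e * d' = d' * e := fun n hn h hE e he h' => by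
      have hs := hD.SX_subset_Cl hx (nx n hn h) xd
      refine (A n hn h hE).ce e he d (hs (Or.inl (Or.inr (mem_E_self hd)))) d' (Cl_mono ?_ x d1) h' d2.symm
      rintro a ((h | h) | h)
      exacts [Or.inl (Or.inr h), Or.inl (Or.inr h), Or.inr h]
    by_cases hE : n ∈ sameCommutingClass D d
    · exact k2 c hc' hcd hcE n (hsX (Or.inl (Or.inr hE))) h
    · exact k2 n hn h hE n (hD.SX_subset_Cl hx (nx n hn h) xd (Or.inl (Or.inl (mem_E_self hn)))) h
  have hyc' : y * c' = c' * y := comm_closure (S := SX D c c x) (by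
    rintro a ((h | h) | rfl)
    exacts [(E_comm h hy).mp hyc, (E_comm h hy).mp hyc, hyx]) (Cl.mem_closure (x_mem_SX _ _ _) c1)
  obtain ⟨w, hw, w1, w2⟩ := (ot c d).fibre X.ce c'X d'X xX
    (fun e => xc (X.ce x xX c' c'X c cX e c2))
    (X.ce d' d'X d dX c' c'X d2 (X.ce d dX c cX c' c'X hcd.symm c2.symm)) hk'
  have hy' := hD.ri.conj_mem (Subgroup.closure_mono (sub c d) hw.1) hy
  refine hTd ⟨_, hy', (E_comm hdE hy').mpr (w2 ▸ comm_conj hyc' w), ?_⟩
  have := comm_conj hyx w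
  rwa [conj_eq_of_comm w1] at this

/-- any two members have a common neighbour -/
theorem OT.exists_comm [Finite G] (hD : OT D) (h1 : OneClass D) (hp : HasProd D)
    (hc : IsConnectedSet (CommAdj D) D) {d x : G} (hd : d ∈ D) (hx : x ∈ D) :
    ∃ e ∈ D, e * d = d * e ∧ e * x = x * e :=
  exists_comm_aux _ D rfl hD h1 hp hc d hd x hx

end Cfsg.Agent.H36
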