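import Cfsg.Agent.H89.OlDefs

/-!
# The Cartan form on all generalized characters, in the case of an automizer of order five
-/

set_option autoImplicit false

namespace Cfsg.Agent.H36.OlE5c

open Subgroup Cfsg.Agent.H18 Cfsg.Agent.H17 Cfsg.Agent.H89.Ol MonoidAlgebra
open Cfsg.Agent.H19 (kk)
open scoped Classical ComplexConjugate

universe u

variable {G : Type u} [Group G] [Fintype G] {M : Ideal AlgInt} {B : Set (IrrCharacter G)}
  {p : ℕ} [Fact p.Prime]

theorem ctr_congr (hM : IsPModular p M) (hB : IsPBlock M B) {η θ : G → ℂ}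
    (h : pRegularPart p (blockPart B η) = pRegularPart p θ) :
    H20.ctr p B 1 1 η η = H20.ctr p B 1 1 θ θ := by
  have h1 : pRegularPart p (blockPart B θ) = pRegularPart p (blockPart B η) := by
    rw [← H21.blockPart_preg hM hB, ← h, H21.blockPart_preg hM hB, H21.blockPart_blockPart]
  rw [H21.ctr_one_eq, H21.ctr_one_eq, ← H21.preg_preg (blockPart B η),
    ← H21.preg_preg (blockPart B θ), H21.classInner_preg_comm (pRegularPart p (blockPart B η)),
    H21.classInner_preg_comm (pRegularPart p (blockPart B θ)), h1]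

theorem exists_inv {z : G} (hz : ∀ g, z * g = g * z) (hp : IsPGroup p (zpowers z)) {θ : G → ℂ}
    (hθ : IsGeneralizedCharacter G θ) : ∃ θ' : G → ℂ, IsGeneralizedCharacter G θ' ∧
      (∀ g, θ' (z * g) = θ' g) ∧ pRegularPart p θ = pRegularPart p θ' := by
  have hn : (zpowers z).Normal := ⟨fun a ha g => by
    obtain ⟨k, rfl⟩ := ha
    have : Commute g (z ^ k) := Commute.zpow_right (hz g).symm k
    rw [this.eq, mul_inv_cancel_right]
    exact ⟨k, rfl⟩⟩
  obtain ⟨ζ, hζ, h1⟩ := H21.exists_isGen_descend (p := p) (f := QuotientGroup.mk' (zpowers z))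
    (QuotientGroup.mk'_surjective _) (by rwa [QuotientGroup.ker_mk'])
    (fun y _ => by rw [QuotientGroup.ker_mk']; exact mem_Cz_zpowers.2 (hz y)) hθ
  refine ⟨fun g => ζ (QuotientGroup.mk' (zpowers z) g), H11.isGen_comp hζ _, fun g => ?_, ?_⟩
  · have : QuotientGroup.mk' (zpowers z) z = 1 := by
      rw [← MonoidHom.mem_ker, QuotientGroup.ker_mk']; exact mem_zpowers z
    simp only [map_mul, this, one_mul]
  · ext g
    rw [H21.preg_apply, H21.preg_apply]
    split_ifs with h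
    · rfl
    · exact (h1 g h).symm

theorem mlt_eq_zero {z : G} (hz : ∀ g, z * g = g * z) {θ : G → ℂ}
    (hθ : IsGeneralizedCharacter G θ) (h : ∀ g, θ (z * g) = θ g) {ξ : IrrCharacter G}
    (hξ : H20.cw ξ z ≠ 1) : H20.mlt θ ξ = 0 := by
  have h1 : ∑ g, θ g * conj (ξ.1 g) = conj (H20.cw ξ z) * ∑ g, θ g * conj (ξ.1 g) := by
    rw [Finset.mul_sum, ← Equiv.sum_comp (Equiv.mulLeft z)]
    refine Finset.sum_congr rfl fun g _ => ?_
    rw [Equiv.coe_mulLeft, h, H20.irr_mul_eq_cw ξ hz, map_mul]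
    ring
  have h2 : conj (H20.cw ξ z) ≠ 1 := fun h3 => hξ (by
    rw [← Complex.conj_conj (H20.cw ξ z), h3, map_one])
  have h3 : ∑ g, θ g * conj (ξ.1 g) = 0 := by
    by_contra h4
    exact h2 (mul_right_cancel₀ h4 (by rw [← h1, one_mul]))
  have h4 := H20.cast_mlt hθ ξ
  rw [H11.classInner_def, h3, mul_zero] at h4
  exact_mod_cast h4

theorem qf_eq {ι : Type*} (X : Finset ι) (d : Fin 3 → ι → ℤ) (y : ι → ℤ) :
    ∑ χ ∈ X, ∑ ψ ∈ X, y χ * y ψ * ((if χ = ψ then 16 else 0) - ∑ i, d i χ * d i ψ) =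
      qf X d y := by
  have h1 : ∀ i, (∑ x ∈ X, y x * d i x) ^ 2 = ∑ χ ∈ X, ∑ ψ ∈ X, y χ * y ψ * (d i χ * d i ψ) :=
    fun i => by
      rw [sq, Finset.sum_mul_sum]
      exact Finset.sum_congr rfl fun _ _ => Finset.sum_congr rfl fun _ _ => by ring
  rw [qf, Finset.sum_congr rfl fun i _ => h1 i, Finset.sum_comm (s := Finset.univ),
    Finset.mul_sum, ← Finset.sum_sub_distrib]
  refine Finset.sum_congr rfl fun χ hχ => ?_
  simp only [mul_sub, Finset.sum_sub_distrib, mul_ite, mul_zero, Finset.sum_ite_eq, if_pos hχ,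
    Finset.mul_sum]
  rw [Finset.sum_comm (s := Finset.univ), mul_comm]

theorem e5c : E5CStmt.{u} := by
  intro G _ _ _ M B P e t z d h hd η hη
  have s := h.bs
  have hp : IsPGroup 2 (zpowers z) := s.pair.isP.to_le (zpowers_le.2 h.mem)
  obtain ⟨θ, hθ, h1, h2⟩ := exists_inv h.cen hp (H21.blockPart_isGen B hη)
  refine ⟨H20.mlt θ, ?_⟩
  rw [ctr_congr s.hM s.hB h2, H20.ctr_one_one s.hM B hθ hθ, ← qf_eq]
  congr 1
  have h3 : ∀ ξ, ξ ∈ fs B → ξ ∉ Xz B z → H20.mlt θ ξ = 0 := fun ξ h3 h4 =>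
    mlt_eq_zero h.cen hθ h1 fun h5 => h4 (Finset.mem_filter.2 ⟨h3, h5⟩)
  rw [← Finset.sum_subset (s₁ := Xz B z) (Finset.filter_subset _ _) fun ξ h4 h5 => by
    simp [h3 ξ h4 h5]]
  refine Finset.sum_congr rfl fun χ hχ => ?_
  rw [← Finset.sum_subset (s₁ := Xz B z) (Finset.filter_subset _ _) fun ξ h4 h5 => by
    simp [h3 ξ h4 h5]]
  refine Finset.sum_congr rfl fun ψ hψ => ?_
  congr 1
  have hχB : χ ∈ B := mem_fs.1 (Finset.mem_filter.1 hχ).1
  have h4 := hd χ hχ ψ hψ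
  have h5 : ((2 : ℕ) : ℂ) ^ blockDefect 2 B = 32 := by
    rw [← Nat.cast_pow, ← s.card_eq, h.card]; norm_num
  rw [s.mc_one hχB, ← h5, ← H21.contr_def, ← H21.cast_cZ s.hM hχB] at h4
  exact_mod_cast h4

end Cfsg.Agent.H36.OlE5c
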