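import Cfsg.Agent.H36.RkC1
import Cfsg.Agent.H51.Thompson
import Cfsg.Agent.S0028
import Cfsg.Agent.S0058
import Cfsg.Agent.S0205
import Cfsg.Agent.S0664
import Cfsg.Agent.S3071

/-! The last configuration of conjugate type rank five does not occur. -/

set_option autoImplicit false
set_option linter.unusedSectionVars false

namespace Cfsg.Agent.H36.RkC

open Subgroup Cfsg.Agent.H92 Cfsg.Agent.H14.Rk
open scoped Pointwise

universe u

variable {G : Type u} [Group G] [Finite G] {p : ℕ} {P₁ H : Subgroup G}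

theorem no_sec {N : Subgroup G} (hN : Odd (Nat.card N)) {X : Type*} [Group X] {x : X}
    (x1 : x ≠ 1) (xx : x ^ 2 = 1) :
    ¬ ∃ (A K : Subgroup G) (_ : (K.subgroupOf A).Normal), A ≤ N ∧
      Nonempty ((A ⧸ K.subgroupOf A) ≃* X) := by
  rintro ⟨A, K, _, hA, ⟨e⟩⟩
  have h1 : 2 ∣ Nat.card X := orderOf_eq_prime xx x1 ▸ orderOf_dvd_natCard x
  rw [← Nat.card_congr e.toEquiv] at h1
  have h2 := (h1.trans (card_quotient_dvd_card _)).trans (card_dvd_of_le hA)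
  exact Nat.not_even_iff_odd.2 hN (even_iff_two_dvd.2 h2)

theorem two_ne [Fact p.Prime] (p2 : p ≠ 2) : (-1 : ZMod p) ≠ 1 := fun e => by
  have : ((2 : ℕ) : ZMod p) = 0 := by
    have : (1 : ZMod p) + 1 = 0 := by nth_rw 1 [← e]; ring
    rw [← this]; push_cast; ring
  exact p2 ((Nat.prime_dvd_prime_iff_eq Fact.out Nat.prime_two).1
    ((ZMod.natCast_eq_zero_iff 2 p).1 this))

theorem sl_inv [Fact p.Prime] (p2 : p ≠ 2) :
    ∃ x : Matrix.SpecialLinearGroup (Fin 2) (ZMod p), x ≠ 1 ∧ x ^ 2 = 1 := by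
  let m : Matrix.SpecialLinearGroup (Fin 2) (ZMod p) :=
    ⟨!![-1, 0; 0, -1], by simp [Matrix.det_fin_two]⟩
  refine ⟨m, fun e => two_ne p2 ?_, ?_⟩
  · simpa [m] using congrArg (fun M : Matrix.SpecialLinearGroup (Fin 2) (ZMod p) => M.1 0 0) e
  · rw [pow_two]
    refine Subtype.ext ?_
    rw [Matrix.SpecialLinearGroup.coe_mul, Matrix.SpecialLinearGroup.coe_one]
    ext i j
    fin_cases i <;> fin_cases j <;> simp [m]

theorem qd_inv [Fact p.Prime] (p2 : p ≠ 2) : ∃ x : qd p, x ≠ 1 ∧ x ^ 2 = 1 := by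
  let m : Matrix.SpecialLinearGroup (Fin 3) (ZMod p) :=
    ⟨!![-1, 0, 0; 0, -1, 0; 0, 0, 1], by simp [Matrix.det_fin_three]⟩
  refine ⟨⟨m, subset_closure ⟨rfl, rfl, rfl⟩⟩, fun e => two_ne p2 ?_, Subtype.ext ?_⟩
  · simpa [m] using congrArg (fun M : qd p => M.1.1 0 0) e
  · show m ^ 2 = 1
    rw [pow_two]
    refine Subtype.ext ?_
    rw [Matrix.SpecialLinearGroup.coe_mul, Matrix.SpecialLinearGroup.coe_one]
    ext i j
    fin_cases i <;> fin_cases j <;> simp [m]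

theorem cyc_mem (hp : p.Prime) {V : Subgroup G} (hV : IsCyclic V) {a b : G} (ha : a ∈ V)
    (hb : b ∈ V) (a1 : a ≠ 1) (ap : a ^ p = 1) (bp : b ^ p = 1) : b ∈ zpowers a := by
  classical
  have : Fact p.Prime := ⟨hp⟩
  have := Fintype.ofFinite V
  have o : orderOf (⟨a, ha⟩ : V) = p :=
    orderOf_eq_prime (Subtype.ext ap) fun e => a1 (congrArg Subtype.val e)
  have h1 := IsCyclic.card_pow_eq_one_le (α := V) hp.pos
  have h2 : (Finset.univ.filter fun x : V => x ∈ zpowers (⟨a, ha⟩ : V)) ⊆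
      Finset.univ.filter fun x : V => x ^ p = 1 := fun x hx => by
    obtain ⟨n, rfl⟩ := (Finset.mem_filter.1 hx).2
    refine Finset.mem_filter.2 ⟨Finset.mem_univ _, ?_⟩
    show ((⟨a, ha⟩ : V) ^ n) ^ p = 1
    rw [← zpow_natCast, ← zpow_mul, mul_comm, zpow_mul, zpow_natCast, ← o, pow_orderOf_eq_one,
      one_zpow]
  have h3 : (Finset.univ.filter fun x : V => x ∈ zpowers (⟨a, ha⟩ : V)).card = p := by
    rw [← Fintype.card_subtype, ← Nat.card_eq_fintype_card, Nat.card_zpowers, o]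
  have h4 := Finset.eq_of_subset_of_card_le h2 (h3 ▸ h1)
  have h5 : (⟨b, hb⟩ : V) ∈ Finset.univ.filter fun x : V => x ^ p = 1 :=
    Finset.mem_filter.2 ⟨Finset.mem_univ _, Subtype.ext bp⟩
  rw [← h4] at h5
  obtain ⟨n, hn⟩ := (Finset.mem_filter.1 h5).2
  exact ⟨n, congrArg Subtype.val hn⟩

theorem mem_zp_of_pow (hp : p.Prime) {a : G} (ap : a ^ p = 1) {n : ℤ} (h1 : a ^ n ≠ 1) :
    a ∈ zpowers (a ^ n) :=
  cyc_mem hp (V := zpowers a) inferInstance (zpow_mem (mem_zpowers a) n) (mem_zpowers a) h1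
    (by rw [← zpow_natCast, ← zpow_mul, mul_comm, zpow_mul, zpow_natCast, ap, one_zpow]) ap

/-- Counting conjugates of a subgroup with trivial intersections. -/
theorem count {M N E E₁ : Subgroup G} (NM : N ≤ M) (hE : M ≤ normalizer (E : Set G))
    (h1 : E₁ ≤ E) (hN : N ≤ normalizer (E₁ : Set G))
    (hc : ∀ u ∈ E, ∃ m ∈ M, m * u * m⁻¹ ∈ E₁)
    (ti : ∀ m ∈ M, ∀ v ∈ E₁, v ≠ 1 → m * v * m⁻¹ ∈ E₁ → m ∈ N) :
    Nat.card M * (Nat.card E₁ - 1) = (Nat.card E - 1) * Nat.card N := by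
  choose! c cM cE using hc
  have cd : ∀ K : Subgroup G, Nat.card {x : K // x ≠ 1} = Nat.card K - 1 := fun K => by
    classical
    have := Fintype.ofFinite K
    rw [Nat.card_eq_fintype_card, Nat.card_eq_fintype_card, Fintype.card_subtype_compl,
      Fintype.card_subtype_eq]
  rw [← cd, ← cd, ← Nat.card_prod, ← Nat.card_prod]
  let f : {x : E // x ≠ 1} × N → M × {x : E₁ // x ≠ 1} := fun q =>
    (⟨q.2 * c q.1.1, mul_mem (NM q.2.2) (cM _ q.1.1.2)⟩,
      ⟨⟨q.2 * (c q.1.1 * q.1.1 * (c q.1.1)⁻¹) * (q.2 : G)⁻¹, cj (hN q.2.2) (cE _ q.1.1.2)⟩,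
        fun e => cj_ne (cj_ne fun k => q.1.2 (Subtype.ext k)) (congrArg Subtype.val e)⟩)
  refine (Nat.card_congr (Equiv.ofBijective f ⟨?_, ?_⟩)).symm
  · rintro ⟨⟨⟨u, hu⟩, u1⟩, ⟨n, hn⟩⟩ ⟨⟨⟨u', hu'⟩, u1'⟩, ⟨n', hn'⟩⟩ e
    have e1 : n * c u = n' * c u' := congrArg (fun q : M × {x : E₁ // x ≠ 1} => (q.1 : G)) e
    have e2 : n * (c u * u * (c u)⁻¹) * n⁻¹ = n' * (c u' * u' * (c u')⁻¹) * n'⁻¹ :=
      congrArg (fun q : M × {x : E₁ // x ≠ 1} => (q.2.1 : G)) e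
    have e3 : u = u' := by
      have : (n * c u) * u * (n * c u)⁻¹ = (n' * c u') * u' * (n' * c u')⁻¹ := by
        simpa [mul_assoc] using e2
      rw [e1] at this
      simpa using this
    subst e3
    obtain rfl : n = n' := mul_right_cancel e1
    rfl
  · rintro ⟨⟨m, hm⟩, ⟨⟨v, hv⟩, v1⟩⟩
    have v1' : v ≠ 1 := fun e => v1 (Subtype.ext e)
    have hu : m⁻¹ * v * m⁻¹⁻¹ ∈ E := cj (inv_mem (hE hm)) (h1 hv)
    set u := m⁻¹ * v * m⁻¹⁻¹ with hu'
    have hn : c u * m⁻¹ ∈ N := ti _ (mul_mem (cM u hu) (inv_mem hm)) v hv v1' (by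
      have := cE u hu
      rw [hu'] at this ⊢
      simpa [mul_assoc] using this)
    refine ⟨(⟨⟨u, hu⟩, fun e => cj_ne v1' (congrArg Subtype.val e)⟩, ⟨_, inv_mem hn⟩), ?_⟩
    refine Prod.ext (Subtype.ext ?_) (Subtype.ext (Subtype.ext ?_))
    · show (c u * m⁻¹)⁻¹ * c u = m
      group
    · show (c u * m⁻¹)⁻¹ * (c u * u * (c u)⁻¹) * (c u * m⁻¹)⁻¹⁻¹ = v
      rw [show ∀ x : G, (c u * m⁻¹)⁻¹ * (c u * x * (c u)⁻¹) * (c u * m⁻¹)⁻¹⁻¹ = m * x * m⁻¹ from
        fun x => by group, hu']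
      group

section
variable (h : OddS G p P₁ H)
include h

theorem oddC {u : G} (u1 : u ≠ 1) (hu : ∃ k, u ^ p ^ k = 1) : Odd (Nat.card Ce[u]) := by
  refine (h.odd (zpowers u) (mt zpowers_eq_bot.1 u1) (zp_pg hu)).of_dvd_nat (card_dvd_of_le ?_)
  refine fun g hg => centralizer_le_normalizer _ fun x hx => ?_
  exact (C_le_C_of_mem_zpowers hx hg : g ∈ Ce[x]) x rfl

theorem C_le_L {u : G} (hu : u ∈ P₁) (u1 : u ≠ 1) (hF : pPrimeCore p Ce[u] ≠ ⊥) :
    Ce[u] ≤ normalizer ((P₁ ⊔ H : Subgroup G) : Set G) := by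
  have n : Ce[u] ≤ normalizer (((pPrimeCore p Ce[u]).map Ce[u].subtype : Subgroup G) : Set G) :=
    le_normalizer.trans (H3.normalizer_le_normalizer_map_pPrimeCore _)
  have FH := ordK h hu u1 (map_subtype_le _) (H3.map_pPrimeCore_coprime _)
    (.inr ((le_sup_right.trans (W_C h (mem_sup_left hu))).trans n))
  obtain ⟨⟨f, hf⟩, f1⟩ := ne_bot_iff_exists_ne_one.1 hF
  have hf' : (f : G) ∈ (pPrimeCore p Ce[u]).map Ce[u].subtype := mem_map_of_mem _ hf
  exact fun g hg => memL h (FH hf') (fun e => f1 (Subtype.ext (Subtype.ext e)))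
    (FH (cj (n hg) hf'))

theorem C_le_L' {y : G} (hy : y ∈ P₁)
    (hB : Ce[y] ≤ normalizer ((P₁ ⊔ H : Subgroup G) : Set G)) {u : G} (hu : u ∈ P₁) (u1 : u ≠ 1) :
    Ce[u] ≤ normalizer ((P₁ ⊔ H : Subgroup G) : Set G) := by
  have : Fact p.Prime := ⟨h.pp⟩
  refine C_le_L h hu u1 fun hF => ?_
  have := S0205.result (oddC h u1 (pel_of h.pg hu))
  have hc := H3.centralizer_pCore_le hF
  have WX := W_C h (mem_sup_left hu)
  set U := (pCore p Ce[u]).map Ce[u].subtype with hU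
  have n : Ce[u] ≤ normalizer (U : Set G) :=
    le_normalizer.trans (H3.normalizer_le_normalizer_map_pCore _)
  have pU : IsPGroup p U := H3.map_pCore_isPGroup _
  have UH := H3.inf_eq_bot_of_isPGroup_of_coprime pU (Hcop h)
  have key := S0028.result p (zpowers y) H U (zp_pg (pel_of h.pg hy)) (Hcop h) pU
    ((zpowers_le.2 (mem_sup_left hy)).trans (W_nrm h le_sup_right))
    ((zpowers_le.2 (WX (mem_sup_left hy))).trans n) ((le_sup_right.trans WX).trans n) (by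
      rintro x ⟨hx, hx'⟩ a ha
      have x1 : x ∈ normalizer (H : Set G) :=
        L_nH h (hB (mem_C'.2 (hx' y (mem_zpowers y))))
      have c1 : x * a * x⁻¹ * a⁻¹ ∈ H := mul_mem (cj x1 ha) (inv_mem ha)
      have c2 : x * a * x⁻¹ * a⁻¹ ∈ U := by
        have := mul_mem hx (cj (n (WX (mem_sup_right ha))) (inv_mem hx))
        simpa [mul_assoc] using this
      have c3 : x * a * x⁻¹ * a⁻¹ = 1 := mem_bot.1 (UH ▸ mem_inf.2 ⟨c2, c1⟩)
      calc a * x = (x * a * x⁻¹ * a⁻¹) * a * x := by rw [c3, one_mul]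
        _ = x * a := by group)
  refine h.H_ne (eq_bot_iff.2 fun a ha => UH ▸ mem_inf.2 ⟨?_, ha⟩)
  refine ⟨⟨a, WX (mem_sup_right ha)⟩, hc fun x hx => Subtype.ext ?_, rfl⟩
  exact key ha x (mem_map_of_mem _ hx)

theorem TI (hC : ∀ u ∈ P₁, u ≠ 1 → Ce[u] ≤ normalizer ((P₁ ⊔ H : Subgroup G) : Set G))
    {u g : G} (hu : u ∈ P₁) (u1 : u ≠ 1) (hg : g * u * g⁻¹ ∈ P₁) :
    g ∈ normalizer ((P₁ ⊔ H : Subgroup G) : Set G) := by
  have K1 : MulAut.conj g • H ≤ Ce[g * u * g⁻¹] := fun x hx =>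
    mem_C_conj.2 (W_C h (mem_sup_left hu) (mem_sup_right (mem_conj_smul.1 hx)))
  have := ordK h hg (cj_ne u1) K1 (by rw [card_conj_smul]; exact Hcop h)
    (.inl (K1.trans ((hC _ hg (cj_ne u1)).trans (L_nH h))))
  obtain ⟨⟨a, ha⟩, a1⟩ := ne_bot_iff_exists_ne_one.1 h.H_ne
  exact memL h ha (fun e => a1 (Subtype.ext e)) (this (mem_conj_smul.2 (by simpa [mul_assoc])))

theorem cyc {V : Subgroup G} (hV : V ≤ normalizer (H : Set G)) (pV : IsPGroup p V)
    (cV : IsMulCommutative V) (hi : ∀ v ∈ V, v ∈ P₁ → v = 1) : IsCyclic V := by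
  have : Fact p.Prime := ⟨h.pp⟩
  by_contra hc
  have := S0058.result V H hc hV (H3.coprime_card_of_isPGroup pV (Hcop h).symm)
  refine h.H_ne (this ▸ eq_bot_iff.2 (iSup₂_le fun a ha x hx => ?_))
  by_contra x1
  refine ha.2 (hi a ha.1 (memP h ?_ (pel_of pV ha.1)))
  rw [← h.cent x hx.1 x1]
  exact mem_C_comm.1 hx.2

theorem fus [Fact p.Prime] (P : Sylow p G) (hP : P₁ ≤ P) {y : G} (hy : y ∈ P₁) (y1 : y ≠ 1)
    (PB : (P : Subgroup G) ≤ Ce[y]) {u : G} (hu : u ∈ (P : Subgroup G)) :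
    ∃ m ∈ normalizer (centerThompsonAOf (P : Subgroup G) : Set G), m * u * m⁻¹ ∈ P₁ := by
  obtain ⟨w, hw⟩ := h.cover u (ord_of h.pp (pel_of P.2 hu))
  obtain ⟨x, x1, xx⟩ := sl_inv h.p2
  obtain ⟨m, hm, e⟩ := (S3071.result h.p2 P (fun Q h1 h2 => no_sec (h.odd Q (fun e => y1 (by
    have := h1 ⟨hP hy, le_C_iff.1 PB⟩
    rwa [e, mem_bot] at this)) (P.2.to_le h2)) x1 xx) u hu _ (hP hw)).1 ⟨w, rfl⟩
  exact ⟨m, hm, e ▸ hw⟩

theorem case4 [Fact p.Prime] (hMB : MBStmt.{u}) (P : Sylow p G) (hP : P₁ ≤ P) {y τ : G}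
    (hy : y ∈ P₁) (y1 : y ≠ 1) (PB : (P : Subgroup G) ≤ Ce[y]) (τP : τ ∈ (P : Subgroup G))
    (τL : τ ∈ normalizer (H : Set G)) (τW : τ ∉ P₁ ⊔ H) (hF : pPrimeCore p Ce[y] = ⊥) :
    False := by
  set J := centerThompsonAOf (P : Subgroup G) with hJ
  set M := normalizer (J : Set G) with hM
  have JP : J ≤ P := inf_le_left.trans (map_subtype_le _)
  have yJ : y ∈ J := H51.center_le_centerThompsonAOf _ ⟨hP hy, le_C_iff.1 PB⟩
  have pJ : IsPGroup p J := P.2.to_le JP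
  have oM : Odd (Nat.card M) := h.odd J (fun e => y1 (by rwa [e, mem_bot] at yJ)) pJ
  have oB := oddC h y1 (pel_of h.pg hy)
  have := S0205.result oB
  obtain ⟨x, x1, xx⟩ := qd_inv h.p2
  have nJ := S0664.result (G := Ce[y]) h.p2 (fun ⟨A, K, n, e⟩ =>
    no_sec (N := ⊤) (by rwa [card_top]) x1 xx ⟨A, K, n, le_top, e⟩)
    (H3.centralizer_pCore_le hF) (P.subtype PB)
  have eJ : (centerThompsonAOf ((P.subtype PB : Sylow p Ce[y]) : Subgroup Ce[y])).map
      Ce[y].subtype = J := by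
    rw [hJ, H51.centerThompsonAOf_eq, H51.centerThompsonAOf_eq,
      H51.map_centerThompsonOf _ _ (subtype_injective _), Sylow.coe_subtype,
      subgroupOf_map_subtype, inf_eq_left.2 PB]
  have BM : Ce[y] ≤ M := fun b hb => nrm_of fun z hz => by
    rw [← eJ] at hz ⊢
    obtain ⟨z, hz, rfl⟩ := hz
    exact ⟨_, nJ.conj_mem z hz ⟨b, hb⟩, rfl⟩
  have WM : P₁ ⊔ H ≤ M := (W_C h (mem_sup_left hy)).trans BM
  have PM : (P : Subgroup G) ≤ M := PB.trans BM
  have cH : Nat.card (H.subgroupOf M) = Nat.card H := by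
    rw [H3.card_subgroupOf, inf_eq_left.2 (le_sup_right.trans WM)]
  have eW : (P₁ ⊔ H).subgroupOf M = P₁.subgroupOf M ⊔ H.subgroupOf M :=
    subgroupOf_sup (le_sup_left.trans WM) (le_sup_right.trans WM)
  refine hMB M p (P₁.subgroupOf M) (H.subgroupOf M) ⟨τ, PM τP⟩ (S0205.result oM) h.pp ?_
    h.pg.comap_subtype (fun e => h.H_ne (card_eq_one.1 (by rw [← cH, e, card_bot])))
    (cH ▸ h.H_cop) ?_ (fun a ha a1 => ?_) (fun g hg => ?_) (nrm_of fun a ha => cj (S := H) (x := a) τL ha)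
    (eW ▸ τW) fun r g hr rp rH g1 ⟨k, hk⟩ hd => ?_
  · have : (J.subgroupOf M).Normal := normal_in_normalizer
    have y2 : (⟨y, BM (self_mem_C y)⟩ : M) ∈ pCore p M :=
      H3.le_pCore (N := J.subgroupOf M) pJ.comap_subtype yJ
    have F1 : (pPrimeCore p M).map M.subtype ≤ Ce[y] := by
      rintro _ ⟨f, hf, rfl⟩
      exact mem_C'.2 (congrArg Subtype.val (H3.pPrimeCore_le_centralizer_pCore p M hf _ y2))
    have F2 := H3.le_map_pPrimeCore (H3.map_pPrimeCore_coprime (p := p) M) F1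
      (BM.trans (le_normalizer.trans (H3.normalizer_le_normalizer_map_pPrimeCore _)))
    rw [hF, Subgroup.map_bot, le_bot_iff] at F2
    exact (map_eq_bot_iff_of_injective _ (subtype_injective _)).1 F2
  · rw [cH]
    exact h.H_hall.coprime_dvd_right (relIndex_dvd_index_of_le (le_sup_right.trans WM))
  · rw [C_subgroup, h.cent a ha fun e => a1 (Subtype.ext e), eW]
  · obtain ⟨m, hm, e⟩ := fus h P hP hy y1 PB (u := g) (H3.pCore_le_sylow (P.subtype PM) hg)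
    exact ⟨⟨m, hm⟩, e⟩
  · refine not_dvd_C h (k := k) hr rp (cH ▸ rH) (y := g) (fun e => g1 (Subtype.ext e))
      (by rw [Subgroup.orderOf_coe, hk]; exact dvd_mul_right _ _) (hd.trans ?_)
    rw [C_subgroup, H3.card_subgroupOf]
    exact card_dvd_of_le inf_le_left

theorem case5 [Fact p.Prime] (P : Sylow p G) (hP : P₁ ≤ P) {y : G}
    (hy : y ∈ P₁) (y1 : y ≠ 1) (yp : y ^ p = 1) (PB : (P : Subgroup G) ≤ Ce[y])
    (hn : ¬ (P : Subgroup G) ≤ P₁) (hF : pPrimeCore p Ce[y] ≠ ⊥) : False := by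
  set J := centerThompsonAOf (P : Subgroup G) with hJ
  set M := normalizer (J : Set G) with hM
  set L := normalizer ((P₁ ⊔ H : Subgroup G) : Set G) with hL
  have JP : J ≤ P := inf_le_left.trans (map_subtype_le _)
  have yJ : y ∈ J := H51.center_le_centerThompsonAOf _ ⟨hP hy, le_C_iff.1 PB⟩
  have pJ : IsPGroup p J := P.2.to_le JP
  have cJ : IsMulCommutative J := H51.isMulCommutative_iff_forall.2 fun a ha b hb => hb.2 a ha.1
  have oM : Odd (Nat.card M) := h.odd J (fun e => y1 (by rwa [e, mem_bot] at yJ)) pJ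
  have BL : Ce[y] ≤ L := C_le_L h hy y1 hF
  have ti : ∀ {u g : G}, u ∈ P₁ → u ≠ 1 → g * u * g⁻¹ ∈ P₁ → g ∈ L :=
    TI h fun u hu u1 => C_le_L' h hy BL hu u1
  have cy : ∀ V ≤ J, (∀ v ∈ V, v ∈ P₁ → v = 1) → IsCyclic V := fun V hV =>
    cyc h (hV.trans (JP.trans (PB.trans (BL.trans (L_nH h))))) (pJ.to_le hV)
      (H51.isMulCommutative_of_le cJ hV)
  obtain ⟨m, mM, mL⟩ : ∃ m ∈ M, m ∉ L := by
    by_contra hc
    push Not at hc
    refine hn fun u hu => ?_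
    obtain ⟨m, hm, e⟩ := fus h P hP hy y1 PB hu
    exact cj' (L_nP h (hc m hm)) e
  set E := omegaOne p J with hE
  have mE : ∀ {x : G}, x ∈ E ↔ x ∈ J ∧ x ^ p = 1 := H51.mem_omegaOne_iff_of_comm cJ
  have ME : M ≤ normalizer (E : Set G) := H51.normalizer_le_normalizer_omegaOne p J
  have yE : y ∈ E := mE.2 ⟨yJ, yp⟩
  have E1 : ∀ v ∈ E, v ∈ P₁ → v ∈ zpowers y := fun v hv vP => by
    have c := cy (MulAut.conj m • (J ⊓ P₁)) (fun x hx => by
      simpa [mul_assoc] using cj mM (mem_conj_smul.1 hx).1) fun x hx xP => by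
        by_contra x1
        exact mL (ti (mem_conj_smul.1 hx).2 (by simpa using cj_ne (g := m⁻¹) x1)
          (by simpa [mul_assoc] using xP))
    obtain ⟨n, e⟩ := cyc_mem h.pp c (a := m * y * m⁻¹) (b := m * v * m⁻¹)
      (mem_conj_smul.2 (by simpa [mul_assoc] using ⟨yJ, hy⟩))
      (mem_conj_smul.2 (by simpa [mul_assoc] using ⟨(mE.1 hv).1, vP⟩)) (cj_ne y1)
      (by rw [conj_pow, yp]; group) (by rw [conj_pow, (mE.1 hv).2]; group)
    exact ⟨n, by simpa [conj_zpow] using e⟩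
  set y' := m * y * m⁻¹ with hy'
  have y'E : y' ∈ E := cj (ME mM) yE
  have y'P : y' ∉ P₁ := fun e => mL (ti hy y1 e)
  have y'1 : ∀ n : ℤ, y' ^ n ∈ P₁ → y' ^ n = 1 := fun n e => by
    by_contra k
    exact y'P (zpowers_le.2 e (mem_zp_of_pow h.pp (mE.1 y'E).2 k))
  have cm : ∀ a ∈ E, ∀ b ∈ E, zpowers a ≤ normalizer (zpowers b : Set G) := fun a ha b hb =>
    (zpowers_le.2 (mE.1 ha).1).trans ((H51.isMulCommutative_iff_le_centralizer.1 cJ).trans
      ((centralizer_le (zpowers_le.2 (mE.1 hb).1)).trans (centralizer_le_normalizer _)))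
  have E2 : E = zpowers y ⊔ zpowers y' := by
    refine le_antisymm (fun u hu => ?_) (sup_le (zpowers_le.2 yE) (zpowers_le.2 y'E))
    by_contra k
    have VE : zpowers y' ⊔ zpowers u ≤ E := sup_le (zpowers_le.2 y'E) (zpowers_le.2 hu)
    have c := cy (zpowers y' ⊔ zpowers u) (VE.trans (H51.omegaOne_le p J)) fun v hv vP => by
      have v2 := E1 v (VE hv) vP
      have : v ∈ ((zpowers y' ⊔ zpowers u : Subgroup G) : Set G) := hv
      rw [coe_mul_of_left_le_normalizer_right _ _ (cm _ y'E _ hu)] at this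
      obtain ⟨_, ⟨i, rfl⟩, _, ⟨j, rfl⟩, rfl⟩ := this
      have uj : u ^ j = 1 := by
        by_contra k'
        refine k (zpowers_le.2 ?_ (mem_zp_of_pow h.pp (mE.1 hu).2 k'))
        have := mul_mem (inv_mem (mem_sup_right (S := zpowers y) (zpow_mem (mem_zpowers y') i)))
          (mem_sup_left v2)
        simpa using this
      simp only [uj, mul_one] at vP ⊢
      exact y'1 i vP
    exact k (mem_sup_right (cyc_mem h.pp c (mem_sup_left (mem_zpowers y'))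
      (mem_sup_right (mem_zpowers u)) (cj_ne y1) (mE.1 y'E).2 (mE.1 hu).2))
  have oy : orderOf y = p := orderOf_eq_prime yp y1
  have cE : Nat.card E = p * p := by
    have := H3.card_sup_mul_card_inf_of_le_normalizer (cm _ yE _ y'E)
    rw [← E2, show zpowers y ⊓ zpowers y' = ⊥ from eq_bot_iff.2 (by
      rintro _ ⟨k, n, rfl⟩
      exact y'1 n (zpowers_le.2 hy k)), card_bot, mul_one, Nat.card_zpowers, Nat.card_zpowers,
      hy', H92.orderOf_conj, oy] at this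
    exact this
  have key := count (M := M) (N := M ⊓ L) (E := E) (E₁ := zpowers y) inf_le_left ME
    (zpowers_le.2 yE) (fun g hg => nrm_of fun x hx => E1 _ (cj (ME hg.1) (zpowers_le.2 yE hx))
      (cj (L_nP h hg.2) (zpowers_le.2 hy hx))) (fun u hu => by
        obtain ⟨g, hg, e⟩ := fus h P hP hy y1 PB (JP (mE.1 hu).1)
        exact ⟨g, hg, E1 _ (cj (ME hg) hu) e⟩)
    fun g hg v hv v1 e => ⟨hg, ti (zpowers_le.2 hy hv) v1 (zpowers_le.2 hy e)⟩
  rw [Nat.card_zpowers, oy, cE] at key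
  obtain ⟨q, hq⟩ := h.pp.odd_of_ne_two h.p2
  have q0 : 0 < 2 * q := by have := h.pp.two_le; omega
  have e1 : p - 1 = 2 * q := by omega
  have e2 : p * p - 1 = 2 * q * (2 * (q + 1)) := by
    rw [hq]
    exact Nat.sub_eq_of_eq_add (by ring)
  rw [e1, e2, mul_comm, mul_assoc (2 * q)] at key
  have e3 := Nat.eq_of_mul_eq_mul_left q0 key
  rw [e3, mul_assoc] at oM
  exact Nat.not_odd_iff_even.2 (even_two_mul _) oM

end

theorem oddCS (hMB : MBStmt.{u}) : OddCStmt.{u} := by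
  intro G _ _ _ hG p P₁ H h
  have : Fact p.Prime := ⟨h.pp⟩
  obtain ⟨T, hT, PT, TL, TW⟩ := exists_tau h hG
  obtain ⟨y₀, hy₀, y01, hc⟩ := H87.exists_fixed_mem hT h.pg
    (fun x hx w hw => cj (L_nP h (TL hx)) hw) h.P_ne
  obtain ⟨k, hk⟩ := ord_of h.pp (pel_of h.pg hy₀)
  have pd : p ∣ orderOf y₀ := by
    rcases k with _ | k
    · exact absurd (orderOf_eq_one_iff.1 hk) y01
    · rw [hk]; exact dvd_pow_self p k.succ_ne_zero
  have o : orderOf (y₀ ^ (orderOf y₀ / p)) = p := orderOf_pow_orderOf_div (orderOf_pos y₀).ne' pd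
  have TB : T ≤ Ce[y₀ ^ (orderOf y₀ / p)] :=
    le_trans (fun x hx => mem_C.2 (hc x hx)) (C_le_C_pow y₀ _)
  have hy : y₀ ^ (orderOf y₀ / p) ∈ P₁ := pow_mem hy₀ _
  set y := y₀ ^ (orderOf y₀ / p)
  have y1 : y ≠ 1 := fun e => h.pp.one_lt.ne' (by rw [← o, e, orderOf_one])
  have np : ¬ p ∣ cs[y] := by
    refine (h.size y y1 ⟨1, by rw [o, pow_one]⟩).2.resolve_left fun e => TW ?_
    rw [eq_of_le_of_card_ge (W_C h (mem_sup_left hy)) e.le]
    exact TB
  obtain ⟨P, TP, PB⟩ := exists_sylow_between np hT TB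
  obtain ⟨τ, τT, τW⟩ := SetLike.not_le_iff_exists.1 TW
  by_cases hF : pPrimeCore p Ce[y] = ⊥
  · exact case4 h hMB P (PT.trans TP) hy y1 PB (TP τT) (L_nH h (TL τT)) τW hF
  · exact case5 h P (PT.trans TP) hy y1 (by rw [← o, pow_orderOf_eq_one]) PB
      (fun e => τW (mem_sup_left (e (TP τT)))) hF

end Cfsg.Agent.H36.RkC
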