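import Mathlib
import Cfsg.Agent.H4.Schmidt
import Cfsg.Agent.H4.CoprimeAction
import Cfsg.Agent.H3.Frattini
import Cfsg.Agent.H3.Primitive

/-!
The normal Sylow subgroup of a minimal non-nilpotent group is abelian or semi-extraspecial.
-/

set_option autoImplicit false

open Subgroup
open scoped commutatorElement Pointwise

namespace Cfsg.Agent.H36

/-- Properties of a nonabelian normal Sylow subgroup of a minimal non-nilpotent group. -/
structure SE (p : ℕ) {G : Type*} [Group G] (P : Subgroup G) : Prop where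
  cls : ∀ a ∈ P, ∀ b ∈ P, ⁅a, b⁆ ∈ centralizer (P : Set G)
  pw : ∀ a ∈ P, a ^ p ∈ centralizer (P : Set G)
  zp : ∀ z ∈ P, z ∈ centralizer (P : Set G) → z ^ p = 1
  semi : ∀ u ∈ P, u ∉ centralizer (P : Set G) → ∀ z ∈ P, z ∈ centralizer (P : Set G) →
    ∃ g ∈ P, ⁅g, u⁆ = z
  noab : p < 5 → ∀ T ≤ P, T.relIndex P = p → IsElementaryAbelian p T → False

theorem SE.of_equiv {p : ℕ} {G X : Type*} [Group G] [Group X] {S : Subgroup G} {P : Subgroup X}
    (h : SE p P) (e : S ≃* P) : SE p S := by
  have key : ∀ s : S, (s : G) ∈ centralizer (S : Set G) ↔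
      ((e s : P) : X) ∈ centralizer (P : Set X) := by
    intro s
    simp only [mem_centralizer_iff, SetLike.mem_coe]
    constructor
    · intro hs x hx
      obtain ⟨t, ht⟩ := e.surjective ⟨x, hx⟩
      have h1 : t * s = s * t := Subtype.ext (hs t t.2)
      have h2 := congrArg (fun y => ((e y : P) : X)) h1
      simpa [ht] using h2
    · intro hs x hx
      have h1 : e ⟨x, hx⟩ * e s = e s * e ⟨x, hx⟩ := Subtype.ext (hs _ (e ⟨x, hx⟩).2)
      rw [← map_mul, ← map_mul] at h1
      exact congrArg Subtype.val (e.injective h1)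
  refine ⟨fun a ha b hb => ?_, fun a ha => ?_, fun z hz hzc => ?_, fun u hu huc z hz hzc => ?_,
    fun hp T hT hi hE => ?_⟩
  · have := (key ⁅(⟨a, ha⟩ : S), (⟨b, hb⟩ : S)⁆).2 (by
      rw [map_commutatorElement]
      exact h.cls _ (e ⟨a, ha⟩).2 _ (e ⟨b, hb⟩).2)
    exact this
  · have := (key ((⟨a, ha⟩ : S) ^ p)).2 (by
      rw [map_pow]
      exact h.pw _ (e ⟨a, ha⟩).2)
    exact this
  · have h1 := h.zp _ (e ⟨z, hz⟩).2 ((key ⟨z, hz⟩).1 hzc)
    have h2 : e (⟨z, hz⟩ ^ p) = e 1 := by
      rw [map_pow, map_one]; exact Subtype.ext h1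
    exact congrArg Subtype.val (e.injective h2)
  · obtain ⟨g, hg, hgu⟩ := h.semi _ (e ⟨u, hu⟩).2 (fun hc => huc ((key ⟨u, hu⟩).2 hc)) _
      (e ⟨z, hz⟩).2 ((key ⟨z, hz⟩).1 hzc)
    obtain ⟨t, ht⟩ := e.surjective ⟨g, hg⟩
    refine ⟨t, t.2, ?_⟩
    have h2 : e ⁅t, ⟨u, hu⟩⁆ = e ⟨z, hz⟩ := by
      rw [map_commutatorElement, ht]; exact Subtype.ext hgu
    exact congrArg Subtype.val (e.injective h2)
  · refine h.noab hp (((T.subgroupOf S).map (e : S →* P)).map P.subtype) (map_subtype_le _) ?_ ⟨?_, ?_⟩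
    · rw [relIndex, ← hi, relIndex]
      have : (((T.subgroupOf S).map (e : S →* P)).map P.subtype).subgroupOf P =
          (T.subgroupOf S).map (e : S →* P) := by
        rw [subgroupOf, comap_map_eq_self_of_injective P.subtype_injective]
      rw [this, index_map_equiv]
    · have := hE.1
      refine ⟨⟨?_⟩⟩
      rintro ⟨_, _, ⟨a, ha, rfl⟩, rfl⟩ ⟨_, _, ⟨b, hb, rfl⟩, rfl⟩
      apply Subtype.ext
      have h1 : a * b = b * a := Subtype.ext (mul_comm_of_mem_isMulCommutative T ha hb)
      have h2 := congrArg (fun y => ((e y : P) : X)) h1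
      simpa using h2
    · rintro _ ⟨_, ⟨a, ha, rfl⟩, rfl⟩
      have h1 : a ^ p = 1 := Subtype.ext (hE.2 _ ha)
      rw [← map_pow, ← map_pow, h1, map_one, map_one]

section Schmidt

variable {X : Type*} [Group X] [Finite X] {p q : ℕ} [Fact p.Prime] [Fact q.Prime]

/-- The data of a Schmidt group. -/
structure SchData (p q : ℕ) (P : Subgroup X) (x : X) : Prop where
  ne : p ≠ q
  pP : IsPGroup p P
  qD : IsPGroup q (zpowers x)
  sup : P ⊔ zpowers x = ⊤
  nc : x ∉ centralizer (P : Set X)
  nil : ∀ H : Subgroup X, H ≠ ⊤ → Group.IsNilpotent H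

variable {P : Subgroup X} [P.Normal] {x : X}

theorem SchData.cop (h : SchData p q P x) {K : Subgroup X} (hK : K ≤ P) :
    (Nat.card (zpowers x)).Coprime (Nat.card K) := by
  obtain ⟨a, ha⟩ := (h.pP.to_le hK).exists_card_eq
  obtain ⟨b, hb⟩ := h.qD.exists_card_eq
  rw [ha, hb]
  exact Nat.coprime_pow_primes _ _ Fact.out Fact.out h.ne.symm

theorem SchData.s1 (h : SchData p q P x) {K : Subgroup X} (hK : K ≤ P) (hne : K ≠ P)
    (hn : zpowers x ≤ normalizer (K : Set X)) : K ≤ centralizer (zpowers x : Set X) := by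
  have h1 : K ⊔ zpowers x ≠ ⊤ := by
    intro ht
    refine hne (le_antisymm hK fun g hg => ?_)
    obtain ⟨k, hk, a, ha, rfl⟩ := (H4.mem_sup_iff_of_le_normalizer hn).1 (ht ▸ mem_top g)
    have ha' : a ∈ P := by simpa using P.mul_mem (P.inv_mem (hK hk)) hg
    have : a ∈ zpowers x ⊓ P := ⟨ha, ha'⟩
    rw [disjoint_iff.1 (disjoint_of_coprime_natCard (h.cop le_rfl)), mem_bot] at this
    simpa [this] using hk
  exact H4.le_centralizer_of_isNilpotent_of_coprime (h.nil _ h1) le_sup_left le_sup_right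
    (h.cop hK).symm

theorem SchData.s2 (h : SchData p q P x) : ⁅P, zpowers x⁆ = P := by
  by_contra hne
  have hn : zpowers x ≤ normalizer (P : Set X) := le_normalizer_of_normal
  have h1 := h.s1 (H4.commutator_le_left_of_le_normalizer hn) hne
    (H4.le_normalizer_commutator hn le_normalizer)
  have h2 := H4.le_centralizer_of_commutator_le_centralizer hn (h.cop le_rfl)
    (Or.inr (H4.isSolvable_of_isPGroup h.pP)) h1
  exact h.nc (le_centralizer_iff.1 h2 (mem_zpowers x))

theorem SchData.s3 (h : SchData p q P x) {K : Subgroup X} [K.Normal] (hK : K ≤ P) (hne : K ≠ P) :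
    K ≤ centralizer (P : Set X) := by
  have h1 := le_centralizer_iff.1 (h.s1 hK hne le_normalizer_of_normal)
  rw [le_centralizer_iff, ← h.s2]
  exact (commutator_mono le_rfl h1).trans (commutator_le_right _ _)

theorem SchData.ne_bot (h : SchData p q P x) : P ≠ ⊥ := by
  rintro rfl
  exact h.nc (by simp [mem_centralizer_iff])

theorem SchData.frat (h : SchData p q P x) :
    (frattini P).map P.subtype ≤ centralizer (P : Set X) := by
  have := H3.map_frattini_normal P
  exact h.s3 (map_subtype_le _) (H3.map_frattini_lt h.ne_bot).ne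

theorem SchData.cls (h : SchData p q P x) {a b : X} (ha : a ∈ P) (hb : b ∈ P) :
    ⁅a, b⁆ ∈ P ⊓ centralizer (P : Set X) :=
  ⟨P.mul_mem (P.mul_mem (P.mul_mem ha hb) (P.inv_mem ha)) (P.inv_mem hb),
    h.frat (H3.commutator_le_map_frattini h.pP (commutator_mem_commutator ha hb))⟩

theorem SchData.zc (h : SchData p q P x) (hna : ¬ IsMulCommutative P) :
    P ⊓ centralizer (P : Set X) ≤ centralizer (zpowers x : Set X) :=
  h.s1 inf_le_left (fun he => hna (le_centralizer_iff_isMulCommutative.1 (he.ge.trans inf_le_right)))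
    le_normalizer_of_normal

theorem SchData.irr (h : SchData p q P x) {K : Subgroup X}
    (hZ : P ⊓ centralizer (P : Set X) ≤ K) (hK : K ≤ P) (hn : x ∈ normalizer (K : Set X)) :
    K = P ∨ K ≤ centralizer (P : Set X) := by
  by_cases hne : K = P
  · exact Or.inl hne
  have : K.Normal := by
    rw [← normalizer_eq_top_iff, eq_top_iff, ← h.sup, sup_le_iff]
    refine ⟨fun g hg => ?_, (zpowers_le).2 hn⟩
    refine mem_normalizer_fintype fun k hk => ?_
    have h1 := K.mul_mem (hZ (h.cls hg (hK hk))) hk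
    simpa [commutatorElement_def] using h1
  exact Or.inr (h.s3 hK hne)

omit [Finite X] [P.Normal] in
theorem comm_of_sup_zpowers {Z : Subgroup X} (hZ : Z ≤ centralizer (P : Set X)) {u : X}
    (hu : u ∈ P) (h : Z ⊔ zpowers u = P) : IsMulCommutative P := by
  have hZP : Z ≤ P := h ▸ le_sup_left
  rw [← le_centralizer_iff_isMulCommutative]
  nth_rewrite 1 [← h]
  refine sup_le hZ (zpowers_le.2 ?_)
  have : P ≤ centralizer ({u} : Set X) := by
    rw [← h]
    refine sup_le (fun z hz => ?_) (zpowers_le.2 ?_)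
    · rw [mem_centralizer_singleton_iff]
      exact (hZ hz u hu).symm
    · rw [mem_centralizer_singleton_iff]
  intro g hg
  exact mem_centralizer_singleton_iff.1 (this hg)

theorem SchData.fix (h : SchData p q P x) (hna : ¬ IsMulCommutative P) {u : X} (hu : u ∈ P)
    (hf : u⁻¹ * (x * u * x⁻¹) ∈ P ⊓ centralizer (P : Set X)) : u ∈ centralizer (P : Set X) := by
  set Z := P ⊓ centralizer (P : Set X) with hZ
  have hn : x ∈ normalizer ((Z ⊔ zpowers u : Subgroup X) : Set X) := by
    refine mem_normalizer_fintype fun k hk => ?_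
    have : Z ⊔ zpowers u ≤ (Z ⊔ zpowers u).comap (MulAut.conj x).toMonoidHom := by
      refine sup_le (fun z hz => ?_) (zpowers_le.2 ?_)
      · exact mem_sup_left ((inferInstance : Z.Normal).conj_mem z hz x)
      · have := mul_mem (mem_sup_right (mem_zpowers u) : u ∈ Z ⊔ zpowers u) (mem_sup_left hf)
        simpa using this
    exact this hk
  rcases h.irr le_sup_left (sup_le inf_le_left (zpowers_le.2 hu)) hn with h1 | h1
  · exact absurd (comm_of_sup_zpowers inf_le_right hu h1) hna
  · exact h1 (mem_sup_right (mem_zpowers u))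

theorem SchData.z_le (h : SchData p q P x) (hna : ¬ IsMulCommutative P) :
    P ⊓ centralizer (P : Set X) ≤ ⁅P, P⁆ := by
  intro z hz
  let π := QuotientGroup.mk' ⁅P, P⁆
  have : IsMulCommutative (P.map π) := by
    rw [← commutator_self_eq_bot_iff, ← map_commutator, Subgroup.map_eq_bot_iff,
      QuotientGroup.ker_mk']
  have hN : (P.map π).Normal := Normal.map inferInstance _ (QuotientGroup.mk'_surjective _)
  have h1 := H4.centralizer_inf_commutator_eq_bot (A := (zpowers x).map π) (V := P.map π)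
    le_normalizer_of_normal
    (((h.cop le_rfl).coprime_dvd_left (card_map_dvd _ _)).coprime_dvd_right (card_map_dvd _ _))
  rw [← map_commutator, h.s2] at h1
  have h2 : π z ∈ centralizer (((zpowers x).map π : Subgroup _) : Set _) ⊓ P.map π := by
    refine ⟨?_, mem_map_of_mem _ hz.1⟩
    rintro _ ⟨d, hd, rfl⟩
    rw [← map_mul, ← map_mul, h.zc hna hz d hd]
  rw [h1, mem_bot] at h2
  exact (QuotientGroup.eq_one_iff z).1 h2

omit [Finite X] [P.Normal] in
theorem comm_mul_left {a b u : X} (h : ⁅b, u⁆ * a = a * ⁅b, u⁆) :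
    ⁅a * b, u⁆ = ⁅b, u⁆ * ⁅a, u⁆ := by
  have : ⁅a * b, u⁆ = a * ⁅b, u⁆ * a⁻¹ * ⁅a, u⁆ := by
    simp only [commutatorElement_def]; group
  rw [this, ← h]; group

omit [Finite X] [P.Normal] in
theorem comm_mul_right {g v w : X} (h : ⁅g, w⁆ * v = v * ⁅g, w⁆) :
    ⁅g, v * w⁆ = ⁅g, v⁆ * ⁅g, w⁆ := by
  have : ⁅g, v * w⁆ = ⁅g, v⁆ * (v * ⁅g, w⁆ * v⁻¹) := by
    simp only [commutatorElement_def]; group
  rw [this, ← h]; group

omit [Finite X] [P.Normal] in
theorem comm_pow_left {a u : X} (h : ⁅a, u⁆ * a = a * ⁅a, u⁆) (n : ℕ) :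
    ⁅a ^ n, u⁆ = ⁅a, u⁆ ^ n := by
  induction n with
  | zero => simp
  | succ n ih =>
    rw [pow_succ, comm_mul_left, ih, pow_succ']
    exact (Commute.pow_right h n)

theorem SchData.semi (h : SchData p q P x) (hna : ¬ IsMulCommutative P) {u : X} (hu : u ∈ P)
    (huc : u ∉ centralizer (P : Set X)) {z : X} (hz : z ∈ P ⊓ centralizer (P : Set X)) :
    ∃ g ∈ P, ⁅g, u⁆ = z := by
  let N : Subgroup X :=
    { carrier := {z | ∃ g ∈ P, ⁅g, u⁆ = z}
      one_mem' := ⟨1, P.one_mem, by simp⟩
      mul_mem' := by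
        rintro _ _ ⟨a, ha, rfl⟩ ⟨b, hb, rfl⟩
        exact ⟨b * a, P.mul_mem hb ha, comm_mul_left ((h.cls ha hu).2 b hb).symm⟩
      inv_mem' := by
        rintro _ ⟨a, ha, rfl⟩
        refine ⟨a⁻¹, P.inv_mem ha, ?_⟩
        have := comm_mul_left (a := a⁻¹) (b := a) (u := u) ((h.cls ha hu).2 _ (P.inv_mem ha)).symm
        rw [inv_mul_cancel, commutatorElement_one_left] at this
        exact (eq_inv_of_mul_eq_one_right this.symm) }
  let K : Subgroup X :=
    { carrier := {v | v ∈ P ∧ ∀ g ∈ P, ⁅g, v⁆ ∈ N}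
      one_mem' := ⟨P.one_mem, fun g _ => by simpa using N.one_mem⟩
      mul_mem' := by
        rintro v w ⟨hv, hv'⟩ ⟨hw, hw'⟩
        refine ⟨P.mul_mem hv hw, fun g hg => ?_⟩
        rw [comm_mul_right ((h.cls hg hw).2 v hv).symm]
        exact N.mul_mem (hv' g hg) (hw' g hg)
      inv_mem' := by
        rintro v ⟨hv, hv'⟩
        refine ⟨P.inv_mem hv, fun g hg => ?_⟩
        have := comm_mul_right (g := g) (v := v⁻¹) (w := v) ((h.cls hg hv).2 _ (P.inv_mem hv)).symm
        rw [inv_mul_cancel, commutatorElement_one_right] at this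
        rw [eq_inv_of_mul_eq_one_left this.symm]
        exact N.inv_mem (hv' g hg) }
  have hn : x ∈ normalizer (K : Set X) := by
    refine mem_normalizer_fintype fun v hv => ⟨(inferInstance : P.Normal).conj_mem v hv.1 x,
      fun g hg => ?_⟩
    have hg' : x⁻¹ * g * x ∈ P := by simpa using (inferInstance : P.Normal).conj_mem g hg x⁻¹
    have h1 := h.zc hna (h.cls hg' hv.1) x (mem_zpowers x)
    have h2 : ⁅g, x * v * x⁻¹⁆ = x * ⁅x⁻¹ * g * x, v⁆ * x⁻¹ := by
      simp only [commutatorElement_def]; group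
    rw [h2, h1, mul_inv_cancel_right]
    exact hv.2 _ hg'
  have hZK : P ⊓ centralizer (P : Set X) ≤ K := fun z hz => ⟨hz.1, fun g hg => by
    rw [commutatorElement_eq_one_iff_mul_comm.2 (hz.2 g hg)]; exact N.one_mem⟩
  rcases h.irr hZK (fun v hv => hv.1) hn with h1 | h1
  · have : ⁅P, P⁆ ≤ N := commutator_le.2 fun a ha b hb => (h1.ge hb).2 a ha
    exact this (h.z_le hna hz)
  · exact absurd (h1 ⟨hu, fun g hg => ⟨g, hg, rfl⟩⟩) huc

theorem SchData.noab (h : SchData p q P x) (hna : ¬ IsMulCommutative P) (hp : p < 5)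
    {T : Subgroup X} (hT : T ≤ P) (hi : T.relIndex P = p) (hE : IsElementaryAbelian p T) :
    False := by
  have hpp : p.Prime := Fact.out
  have hqq : q.Prime := Fact.out
  have := hE.1
  set Z := P ⊓ centralizer (P : Set X) with hZ
  -- `T` is maximal in `P`
  have hmax : ∀ K : Subgroup X, T ≤ K → K ≤ P → K = T ∨ K = P := by
    intro K hTK hKP
    have h1 := relIndex_mul_relIndex T K P hTK hKP
    rw [hi] at h1
    rcases (Nat.dvd_prime hpp).1 (Dvd.intro_left _ h1) with h2 | h2
    · exact Or.inr (le_antisymm hKP (relIndex_eq_one.1 h2))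
    · rw [h2] at h1
      have : T.relIndex K = 1 := by
        have := hpp.pos
        nlinarith
      exact Or.inl (le_antisymm (relIndex_eq_one.1 this) hTK)
  have hTP : T ≠ P := by
    rintro rfl
    exact hna this
  have hZT : Z ≤ T := by
    rcases hmax (T ⊔ Z) le_sup_left (sup_le hT inf_le_left) with h1 | h1
    · exact h1 ▸ le_sup_right
    · exfalso
      apply hna
      rw [← le_centralizer_iff_isMulCommutative]
      nth_rewrite 1 [← h1]
      refine sup_le ?_ inf_le_right
      rw [le_centralizer_iff, ← h1]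
      exact sup_le (le_centralizer T) (le_centralizer_iff.1 (hT.trans (le_centralizer_iff.1
        (inf_le_right))))
  have hnx : x ∉ normalizer (T : Set X) := by
    intro hn
    rcases h.irr hZT hT hn with h1 | h1
    · exact hTP h1
    · obtain ⟨u, hu, huT⟩ := SetLike.not_le_iff_exists.1 fun hle => hTP (le_antisymm hT hle)
      rcases hmax (T ⊔ zpowers u) le_sup_left (sup_le hT (zpowers_le.2 hu)) with h2 | h2
      · exact huT (h2 ▸ mem_sup_right (mem_zpowers u))
      · exact hna (comm_of_sup_zpowers h1 hu h2)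
  set T' := T.map (MulAut.conj x).toMonoidHom with hT'
  have hT'P : T' ≤ P := by
    rintro _ ⟨t, ht, rfl⟩
    exact (inferInstance : P.Normal).conj_mem t (hT ht) x
  have hPmap : P.map (MulAut.conj x).toMonoidHom = P := by
    rw [← H4.conj_smul_eq_map]
    exact H4.mem_normalizer_iff_conj_smul.1 (le_normalizer_of_normal (mem_top x) |> fun h => h)
  have hi' : T'.relIndex P = p := by
    rw [← hi, ← hPmap, hT', relIndex_map_map_of_injective _ _ (MulAut.conj x).injective, hPmap]
  have hsup : T ⊔ T' = P := by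
    rcases hmax (T ⊔ T') le_sup_left (sup_le hT hT'P) with h1 | h1
    · exfalso
      apply hnx
      exact mem_normalizer_fintype fun t ht => h1.le (mem_sup_right ⟨t, ht, rfl⟩)
    · exact h1
  have hinf : T ⊓ T' ≤ Z := by
    intro t ht
    refine ⟨hT ht.1, ?_⟩
    have : P ≤ centralizer ({t} : Set X) := by
      rw [← hsup]
      refine sup_le (fun s hs => ?_) (fun s hs => ?_)
      · exact mem_centralizer_singleton_iff.2 (mul_comm_of_mem_isMulCommutative T hs ht.1)
      · exact mem_centralizer_singleton_iff.2 (mul_comm_of_mem_isMulCommutative T' hs ht.2)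
    exact fun g hg => mem_centralizer_singleton_iff.1 (this hg)
  have hT'p : ∀ t ∈ T', t ^ p = 1 := by
    rintro _ ⟨t, ht, rfl⟩
    rw [← map_pow, hE.2 t ht, map_one]
  have hp23 : p = 2 ∨ p = 3 := by
    have := hpp.two_le
    interval_cases p
    · exact Or.inl rfl
    · exact Or.inr rfl
    · exact absurd hpp (by decide)
  rcases hp23 with rfl | rfl
  · -- an element of order four
    have : ∃ v ∈ P, v ^ 2 ≠ 1 := by
      by_contra hc
      push Not at hc
      apply hna
      refine ⟨⟨fun a b => Subtype.ext ?_⟩⟩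
      have h1 := hc _ a.2
      have h2 := hc _ b.2
      have h3 := hc _ (P.mul_mem a.2 b.2)
      rw [pow_two] at h1 h2 h3
      have e1 := eq_inv_of_mul_eq_one_left h1
      have e2 := eq_inv_of_mul_eq_one_left h2
      have e3 := eq_inv_of_mul_eq_one_left h3
      rw [mul_inv_rev, ← e1, ← e2] at e3
      exact e3
    obtain ⟨v, hv, hv2⟩ := this
    have hw : x * v * x⁻¹ ∈ P := (inferInstance : P.Normal).conj_mem v hv x
    have hw2 : (x * v * x⁻¹) ^ 2 ≠ 1 := by
      rw [conj_pow]; simpa using hv2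
    have hvi2 : v⁻¹ ^ 2 ≠ 1 := by simpa using hv2
    have aux : ∀ K : Subgroup X, K.relIndex P = 2 → (∀ t ∈ K, t ^ 2 = 1) →
        v⁻¹ * (x * v * x⁻¹) ∈ K := by
      intro K hK hK2
      have := (mul_mem_iff_of_index_two hK (a := ⟨v⁻¹, P.inv_mem hv⟩) (b := ⟨_, hw⟩)).2
        (iff_of_false (fun hh => hvi2 (hK2 _ hh)) (fun hh => hw2 (hK2 _ hh)))
      exact this
    have h1 := h.fix hna hv (hinf ⟨aux T hi hE.2, aux T' hi' hT'p⟩)
    exact hv2 (hE.2 v (hZT ⟨hv, h1⟩))
  · have hfix : P ⊓ centralizer (zpowers x : Set X) = Z := by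
      refine le_antisymm (fun u hu => ⟨hu.1, h.fix hna hu.1 ?_⟩) (le_inf inf_le_left (h.zc hna))
      rw [hu.2 x (mem_zpowers x)]
      simpa using Z.one_mem
    have h1 := H3.card_modEq_card_inf_centralizer h.qD (L := P) le_normalizer_of_normal
    rw [hfix, ← H3.card_mul_relIndex (inf_le_left : Z ≤ P)] at h1
    have hcZ : (Nat.card Z).Coprime q := by
      obtain ⟨a, ha⟩ := (h.pP.to_le (inf_le_left : Z ≤ P)).exists_card_eq
      rw [ha]
      exact Nat.Coprime.pow_left _ ((Nat.coprime_primes hpp hqq).2 h.ne)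
    have h2 : Z.relIndex P ≡ 1 [MOD q] := by
      refine Nat.ModEq.cancel_left_of_coprime (c := Nat.card Z) hcZ.symm ?_
      rw [mul_one]
      exact h1
    have h3 : Z.relIndex P ≤ 9 := by
      have := relIndex_inf_le (H := T) (K := T') (L := P)
      rw [hi, hi'] at this
      refine le_trans (Nat.le_of_dvd (Nat.pos_of_ne_zero ?_) (relIndex_dvd_of_le_left P hinf)) this
      exact index_ne_zero_of_finite
    have h4 : Z.relIndex P ≠ 1 := fun he => hTP (le_antisymm hT ((relIndex_eq_one.1 he).trans hZT))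
    obtain ⟨a, ha⟩ := h.pP.exists_card_eq
    obtain ⟨k, -, hk⟩ := (Nat.dvd_prime_pow hpp).1 (ha ▸ relIndex_dvd_card Z P)
    have hq2 : q = 2 := by
      rw [hk] at h2 h3 h4
      have hk2 : k ≤ 2 := by
        by_contra hc
        have : 3 ^ 3 ≤ 3 ^ k := Nat.pow_le_pow_right (by norm_num) (by omega)
        omega
      have h5 := (Nat.modEq_iff_dvd' (Nat.one_le_pow _ _ (by norm_num))).1 h2.symm
      interval_cases k
      · simp at h4
      · exact (Nat.prime_dvd_prime_iff_eq hqq Nat.prime_two).1 h5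
      · exact (Nat.prime_dvd_prime_iff_eq hqq Nat.prime_two).1
          (hqq.dvd_of_dvd_pow (n := 3) h5)
    subst hq2
    have hx1 : x ≠ 1 := by
      rintro rfl
      exact h.nc (one_mem _)
    have hx2 : P ⊔ zpowers (x ^ 2) ≠ ⊤ := by
      intro ht
      obtain ⟨k, hk, a, ha, hka⟩ := (H4.mem_sup_iff_of_le_normalizer
        (le_normalizer_of_normal : zpowers (x ^ 2) ≤ normalizer (P : Set X))).1 (ht ▸ mem_top x)
      have hle : zpowers (x ^ 2) ≤ zpowers x := zpowers_le.2 (pow_mem (mem_zpowers x) 2)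
      have : k ∈ zpowers x ⊓ P := ⟨by
        have := mul_mem (mem_zpowers x) (inv_mem (hle ha))
        rwa [← hka, mul_inv_cancel_right, hka] at this, hk⟩
      rw [disjoint_iff.1 (disjoint_of_coprime_natCard (h.cop le_rfl)), mem_bot] at this
      rw [this, one_mul] at hka
      rw [hka, mem_zpowers_pow_iff] at ha
      obtain ⟨b, hb⟩ := h.qD.exists_card_eq
      rw [Nat.card_zpowers] at hb
      rcases b with _ | b
      · exact hx1 (orderOf_eq_one_iff.1 (by simpa using hb))
      · rw [hb, pow_succ] at ha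
        have := Nat.dvd_gcd (dvd_refl 2) (Dvd.intro_left (2 ^ b) rfl)
        omega
    have hc2 := H4.le_centralizer_of_isNilpotent_of_coprime (h.nil _ hx2) le_sup_left le_sup_right
      ((h.cop le_rfl).symm.coprime_dvd_right (card_dvd_of_le (zpowers_le.2
        (pow_mem (mem_zpowers x) 2))))
    apply hnx
    refine mem_normalizer_fintype fun t ht => ?_
    have htP := hT ht
    have hw : x * t * x⁻¹ ∈ P := (inferInstance : P.Normal).conj_mem t htP x
    have h5 := hc2 htP (x ^ 2) (mem_zpowers _)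
    have h6 := h.fix hna (P.mul_mem htP hw) (by
      have : (t * (x * t * x⁻¹))⁻¹ * (x * (t * (x * t * x⁻¹)) * x⁻¹) =
          ⁅(x * t * x⁻¹)⁻¹, t⁻¹⁆ := by
        have e : x * x * t = t * (x * x) := by simpa [pow_two] using h5
        calc _ = (x * t * x⁻¹)⁻¹ * t⁻¹ * (x * t * x⁻¹) * (x * x * t * (x * x)⁻¹) := by group
          _ = _ := by rw [e]; simp only [commutatorElement_def]; group
      rw [this]
      exact h.cls (P.inv_mem hw) (P.inv_mem htP))
    simpa using T.mul_mem (T.inv_mem ht) (hZT ⟨P.mul_mem htP hw, h6⟩)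

theorem SchData.se (h : SchData p q P x) (hna : ¬ IsMulCommutative P) : SE p P := by
  refine ⟨fun a ha b hb => (h.cls ha hb).2, fun a ha => h.frat (H3.pow_mem_map_frattini h.pP ha),
    fun z hz hzc => ?_, fun u hu huc z hz hzc => h.semi hna hu huc ⟨hz, hzc⟩,
    fun hp T hT hi hE => h.noab hna hp hT hi hE⟩
  obtain ⟨u, hu, huc⟩ := SetLike.not_le_iff_exists.1 fun hle =>
    hna (le_centralizer_iff_isMulCommutative.1 hle)
  obtain ⟨g, hg, rfl⟩ := h.semi hna hu huc ⟨hz, hzc⟩
  rw [← comm_pow_left (hzc g hg).symm, commutatorElement_eq_one_iff_mul_comm]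
  exact (h.frat (H3.pow_mem_map_frattini h.pP hg) u hu).symm

end Schmidt

theorem comm_or_se {X : Type*} [Group X] [Finite X] {p : ℕ} [Fact p.Prime]
    (hX : IsMinimalNonNilpotent X) (P : Sylow p X) (hPn : (P : Subgroup X).Normal) :
    IsMulCommutative (P : Subgroup X) ∨ SE p (P : Subgroup X) := by
  obtain ⟨q, r, hq, hr, hqr, D, Q, x, hD, hQn, hsup, hx⟩ := H4.schmidt_structure hX
  by_cases hna : IsMulCommutative (P : Subgroup X)
  · exact Or.inl hna
  right
  have := Fact.mk hq
  have := Fact.mk hr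
  by_cases hpr : p = r
  · subst hpr
    have hPQ : P = Q := by
      have := Sylow.unique_of_normal P hPn
      exact Subsingleton.elim _ _
    subst hPQ
    exact SchData.se (q := q) (x := x) ⟨hqr.symm, P.isPGroup', hD ▸ D.isPGroup', hD ▸ hsup, hx,
      hX.2⟩ hna
  · exfalso
    apply hna
    have : IsMulCommutative (D : Subgroup X) := hD ▸ inferInstance
    have h1 := H4.commutator_le_of_sup_eq_top hsup
    rw [← commutator_self_eq_bot_iff, eq_bot_iff,
      ← (IsPGroup.disjoint_of_ne p r hpr _ _ P.isPGroup' Q.isPGroup').eq_bot]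
    exact le_inf (commutator_le_left _ _) ((commutator_mono le_top le_top).trans h1)

end Cfsg.Agent.H36
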