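import Mathlib
import Cfsg.Agent.H36.SchmSE
import Cfsg.Agent.H4.CoprimeGen
import Cfsg.Agent.H4.CoprimeExt
import Cfsg.Agent.H4.PLength
import Cfsg.Agent.H53.ActStable
import Cfsg.Agent.H53.PSolv

/-!
A `p`-solvable group with a semi-extraspecial Sylow subgroup of Schmidt type has `p`-length one.
-/

set_option autoImplicit false

open Subgroup
open scoped commutatorElement Pointwise

namespace Cfsg.Agent.H36

theorem semi_mod {G : Type*} [Group G] [Finite G] {p : ℕ} [Fact p.Prime] {U A K Z : Subgroup G}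
    [U.Normal] [IsMulCommutative U] [IsMulCommutative A] (hU : IsPGroup p U) (hA : IsPGroup p A)
    (hK : (Nat.card K).Coprime p) (hAK : A ≤ normalizer (K : Set G))
    (hnc : ¬ K ≤ centralizer (A : Set G)) (hKU : K ⊓ centralizer (U : Set G) = ⊥)
    (hAU : A ⊓ centralizer (U : Set G) = ⊥) (hZA : Z ≤ centralizer (A : Set G))
    (hUA : ∀ a ∈ A, ∀ u ∈ U, ⁅a, u⁆ ∈ Z)
    (hsemi : ∀ u ∈ U, u ∉ Z → ∀ z ∈ Z, ∃ a ∈ A, ⁅a, u⁆ = z) :
    (∃ a, A = zpowers a) ∧ ∃ z, Z = zpowers z := by
  have hcop : (Nat.card A).Coprime (Nat.card K) := (H4.coprime_card_of_isPGroup hK hA).symm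
  have : ∃ B ≤ A, (∃ a ∈ A, B ⊔ zpowers a = A) ∧
      ¬ K ⊓ centralizer (B : Set G) ≤ centralizer (A : Set G) := by
    by_contra hc
    push Not at hc
    exact hnc (H4.le_of_centralizer_cocyclic_le hAK hcop hc)
  obtain ⟨B, hBA, ⟨a, ha, hBa⟩, hB⟩ := this
  set K₁ := K ⊓ centralizer (B : Set G) with hK₁
  have hAB : A ≤ centralizer (B : Set G) := H4.le_normalizer_of_le_of_isMulCommutative hBA
  have hAK₁ : A ≤ normalizer (K₁ : Set G) :=
    H4.le_normalizer_inf hAK (hAB.trans le_normalizer)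
  set R := ⁅K₁, A⁆ with hR
  have hRK₁ : R ≤ K₁ := H4.commutator_le_left_of_le_normalizer hAK₁
  have hRA : ⁅R, A⁆ = R := H4.commutator_commutator_eq hAK₁ (H4.coprime_of_le_right hcop inf_le_left)
    (Or.inl (H4.isSolvable_of_isPGroup hA))
  have hAR : A ≤ normalizer (R : Set G) := H4.le_normalizer_commutator hAK₁ le_normalizer
  have hR0 : R ≠ ⊥ := fun h => hB (commutator_eq_bot_iff_le_centralizer.1 h)
  have key : ∀ W : Subgroup G, R ≤ normalizer (W : Set G) → W ≤ centralizer (A : Set G) →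
      W ≤ centralizer (R : Set G) := by
    intro W hRW hWA
    rw [le_centralizer_iff, ← hRA]
    exact (commutator_mono le_rfl (le_centralizer_iff.1 hWA)).trans
      (by rw [commutator_comm]
          exact H4.commutator_le_left_of_le_normalizer (H4.le_normalizer_centralizer hRW))
  have hcRU : (Nat.card R).Coprime (Nat.card U) := H4.coprime_card_of_isPGroup
    (H3.coprime_card_of_le (hRK₁.trans inf_le_left) hK) hU
  set V := ⁅U, R⁆ with hV
  have hVU : V ≤ U := commutator_le_left _ _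
  have hCV : centralizer (R : Set G) ⊓ V = ⊥ :=
    H4.centralizer_inf_commutator_eq_bot le_normalizer_of_normal hcRU
  have hRV : R ≤ normalizer (V : Set G) :=
    H4.le_normalizer_commutator le_normalizer_of_normal le_normalizer
  have hAV : A ≤ normalizer (V : Set G) := H4.le_normalizer_commutator le_normalizer_of_normal hAR
  have hcomZ : ∀ W B' : Subgroup G, W ≤ U → B' ≤ A → ⁅W, B'⁆ ≤ Z := by
    intro W B' hW hB'
    rw [commutator_comm]
    exact commutator_le.2 fun b hb w hw => hUA b (hB' hb) w (hW hw)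
  have hVB : V ≤ centralizer (B : Set G) := by
    rw [← commutator_eq_bot_iff_le_centralizer, eq_bot_iff, ← hCV]
    refine le_inf (key _ (H4.le_normalizer_commutator hRV ?_) ((hcomZ _ _ hVU hBA).trans hZA))
      (H4.commutator_le_left_of_le_normalizer (hBA.trans hAV))
    exact (hRK₁.trans inf_le_right).trans (centralizer_le_normalizer _)
  have hVZ : ¬ V ≤ Z := by
    intro h
    have h1 : V = ⊥ := by
      rw [eq_bot_iff, ← hCV]
      exact le_inf (key _ hRV (h.trans hZA)) le_rfl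
    apply hR0
    rw [eq_bot_iff, ← hKU]
    exact le_inf (hRK₁.trans inf_le_left)
      (le_centralizer_iff.1 (commutator_eq_bot_iff_le_centralizer.1 h1))
  obtain ⟨v, hv, hvZ⟩ := SetLike.not_le_iff_exists.1 hVZ
  have hz := hUA a ha v (hVU hv)
  have hZ : Z = zpowers ⁅a, v⁆ := by
    refine le_antisymm (fun z hz' => ?_) (zpowers_le.2 hz)
    obtain ⟨g, hg, rfl⟩ := hsemi v (hVU hv) hvZ z hz'
    rw [← hBa] at hg
    obtain ⟨c, hc, b, hb, rfl⟩ := (H4.mem_sup_iff_of_le_normalizer'
      (((zpowers_le.2 ha).trans hAB).trans (centralizer_le_normalizer _))).1 hg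
    have h1 : ⁅b, v⁆ = 1 := commutatorElement_eq_one_iff_mul_comm.2 (hVB hv b hb)
    rw [comm_mul_left (by simp [h1]), h1, one_mul]
    obtain ⟨n, rfl⟩ := (Submonoid.mem_powers_iff _ _).1 ((mem_powers_iff_mem_zpowers).2 hc)
    rw [comm_pow_left (hZA hz a ha).symm]
    exact pow_mem (mem_zpowers _) _
  refine ⟨⟨a, ?_⟩, _, hZ⟩
  have hZV : Z ≤ V := by
    rw [hZ, zpowers_le, commutatorElement_def]
    exact V.mul_mem (H4.conj_mem_of_mem_normalizer (hAV ha) hv) (V.inv_mem hv)
  have h0 : U ⊓ centralizer (R : Set G) ≤ centralizer (A : Set G) := by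
    rw [← commutator_eq_bot_iff_le_centralizer, eq_bot_iff, ← hCV]
    refine le_inf ((H4.commutator_le_left_of_le_normalizer (H4.le_normalizer_inf
      le_normalizer_of_normal (H4.le_normalizer_centralizer hAR))).trans inf_le_right)
      ((hcomZ _ _ inf_le_left le_rfl).trans hZV)
  have hUB : U ≤ centralizer (B : Set G) := by
    rw [← H4.commutator_sup_centralizer (A := R) (K := U) le_normalizer_of_normal hcRU
      (Or.inr (H4.isSolvable_of_isPGroup hU))]
    exact sup_le hVB (h0.trans (centralizer_le (SetLike.coe_subset_coe.2 hBA)))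
  have hB0 : B = ⊥ := by
    rw [eq_bot_iff, ← hAU]
    exact le_inf hBA (le_centralizer_iff.1 hUB)
  rw [← hBa, hB0, bot_sup_eq]

open SemidirectProduct in
theorem semi_mod_ext {H V : Type*} [Group H] [Finite H] [Group V] [Finite V] {p : ℕ}
    [Fact p.Prime] (φ : H →* MulAut V) (hφ : Function.Injective φ) [IsMulCommutative V]
    (hV : IsPGroup p V) {A K : Subgroup H} [IsMulCommutative A] [K.Normal] (hA : IsPGroup p A)
    (hK : (Nat.card K).Coprime p) (hnc : ¬ K ≤ centralizer (A : Set H)) {Z : Subgroup V}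
    (hZA : ∀ a ∈ A, ∀ z ∈ Z, φ a z = z) (hUA : ∀ a ∈ A, ∀ u, φ a u * u⁻¹ ∈ Z)
    (hsemi : ∀ u, u ∉ Z → ∀ z ∈ Z, ∃ a ∈ A, φ a u * u⁻¹ = z) :
    (∃ a, A = zpowers a) ∧ ∃ z, Z = zpowers z := by
  have := H4.Ext.finite_semidirect φ
  have hN : (H4.Ext.L φ ⊤).Normal := by
    rw [H4.Ext.L, ← MonoidHom.range_eq_map, range_inl_eq_ker_rightHom]; infer_instance
  have hcomm : ∀ (a : H) (u : V), ⁅(inr a : V ⋊[φ] H), (inl u : V ⋊[φ] H)⁆ =
      inl (φ a u * u⁻¹) := by
    intro a u
    rw [commutatorElement_def, H4.Ext.inr_conj_inl, map_mul, map_inv]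
  have hfaith : ∀ B : Subgroup H, H4.Ext.R φ B ⊓
      centralizer (H4.Ext.L φ ⊤ : Set (V ⋊[φ] H)) = ⊥ := by
    intro B
    rw [eq_bot_iff]
    rintro _ ⟨⟨b, -, rfl⟩, hb⟩
    have : φ b = φ 1 := by
      ext u
      have h1 := hb _ (mem_map_of_mem inl (mem_top u))
      have h2 := hcomm b u
      rw [commutatorElement_eq_one_iff_mul_comm.2 h1.symm, eq_comm, ← map_one inl] at h2
      simpa [mul_inv_eq_one] using inl_injective h2
    rw [hφ this, map_one]
    exact one_mem _
  obtain ⟨⟨a, ha⟩, z, hz⟩ := semi_mod (p := p) (U := H4.Ext.L φ ⊤) (A := H4.Ext.R φ A)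
    (K := H4.Ext.R φ K) (Z := H4.Ext.L φ Z) ((hV.to_subgroup ⊤).map _) (hA.map _)
    (by rwa [H4.Ext.card_R]) ((map_mono le_normalizer_of_normal).trans (le_normalizer_map _))
    (fun h => hnc fun k hk a ha => inr_injective (φ := φ) (by
      rw [map_mul, map_mul]
      exact h (mem_map_of_mem _ hk) _ (mem_map_of_mem _ ha)))
    (hfaith K) (hfaith A)
    (by
      rintro _ ⟨z, hz, rfl⟩
      exact (H4.Ext.inl_mem_centralizer_R_iff φ).2 fun a ha => hZA a ha z hz)
    (by
      rintro _ ⟨a, ha, rfl⟩ _ ⟨u, -, rfl⟩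
      rw [hcomm]
      exact mem_map_of_mem _ (hUA a ha u))
    (by
      rintro _ ⟨u, -, rfl⟩ hu _ ⟨z, hz, rfl⟩
      obtain ⟨a, ha, h⟩ := hsemi u (fun h => hu (mem_map_of_mem _ h)) z hz
      exact ⟨inr a, mem_map_of_mem _ ha, by rw [hcomm, h]⟩)
  constructor
  · obtain ⟨b, -, rfl⟩ : a ∈ H4.Ext.R φ A := ha ▸ mem_zpowers a
    rw [← MonoidHom.map_zpowers] at ha
    exact ⟨b, map_injective inr_injective ha⟩
  · obtain ⟨b, -, rfl⟩ : z ∈ H4.Ext.L φ Z := hz ▸ mem_zpowers z
    rw [← MonoidHom.map_zpowers] at hz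
    exact ⟨b, map_injective inl_injective hz⟩

theorem sylow_le_pCore_of_se {G : Type*} [Group G] [Finite G] {p : ℕ} [Fact p.Prime]
    (hG : IsPSolvable p G) (hO : pPrimeCore p G = ⊥) (S : Sylow p G)
    (h : IsMulCommutative (S : Subgroup G) ∨ SE p (S : Subgroup G)) :
    (S : Subgroup G) ≤ pCore p G := by
  have hpp : p.Prime := Fact.out
  have hc := H53.centralizer_pCore_le hG hO
  have hTS : pCore p G ≤ S := H3.pCore_le_sylow S
  rcases h with h | h
  · exact (le_centralizer _).trans ((centralizer_le (SetLike.coe_subset_coe.2 hTS)).trans hc)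
  set T := pCore p G with hT
  have hUn := H53.omegaZ_normal p G
  set U := H53.omegaZ p G with hU
  have hUE : IsElementaryAbelian p U := H53.elemAb_omegaZ hc
  have hUT : U ≤ centralizer (T : Set G) := H53.omegaZ_le_centralizer_pCore
  have hUS : U ≤ S := (hUT.trans hc).trans hTS
  set Z := (S : Subgroup G) ⊓ centralizer ((S : Subgroup G) : Set G) with hZ
  have hZU : Z ≤ U := fun z hz => H53.le_omegaZ S (H53.mem_omegaOne hz (h.zp z hz.1 hz.2))
  have hcls : ∀ a ∈ (S : Subgroup G), ∀ b ∈ (S : Subgroup G), ⁅a, b⁆ ∈ Z := fun a ha b hb =>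
    ⟨(S : Subgroup G).mul_mem ((S : Subgroup G).mul_mem ((S : Subgroup G).mul_mem ha hb)
      ((S : Subgroup G).inv_mem ha)) ((S : Subgroup G).inv_mem hb), h.cls a ha b hb⟩
  have hSC : (S : Subgroup G) ⊓ centralizer (U : Set G) ≤ T := by
    let π := QuotientGroup.mk' U
    have : (T.map π).Normal := Normal.map inferInstance _ (QuotientGroup.mk'_surjective _)
    let D := (centralizer ((T.map π : Subgroup _) : Set (G ⧸ U))).comap π ⊓ centralizer (U : Set G)
    have hD : ∀ g, g ∈ D ↔ (∀ t ∈ T, ⁅g, t⁆ ∈ U) ∧ g ∈ centralizer (U : Set G) := by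
      intro g
      refine and_congr_left fun _ => ⟨fun hg t ht => ?_, ?_⟩
      · rw [← QuotientGroup.eq_one_iff]
        have := hg _ (mem_map_of_mem π ht)
        change π ⁅g, t⁆ = 1
        rw [map_commutatorElement, commutatorElement_eq_one_iff_mul_comm, this]
      · rintro hg _ ⟨t, ht, rfl⟩
        have : π ⁅g, t⁆ = 1 := (QuotientGroup.eq_one_iff _).2 (hg t ht)
        rw [map_commutatorElement, commutatorElement_eq_one_iff_mul_comm] at this
        exact this.symm
    have hDp : IsPGroup p D := by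
      rintro ⟨g, hg⟩
      obtain ⟨h1, h2⟩ := (hD g).1 hg
      have h3 : g ^ p ∈ T := hc fun t ht => by
        rw [eq_comm, ← commutatorElement_eq_one_iff_mul_comm, comm_pow_left (h2 _ (h1 t ht))]
        exact hUE.2 _ (h1 t ht)
      obtain ⟨k, hk⟩ := H3.pCore_isPGroup p G ⟨_, h3⟩
      refine ⟨k + 1, Subtype.ext ?_⟩
      have := congrArg Subtype.val hk
      simpa [pow_succ', pow_mul] using this
    refine le_trans (fun g hg => (hD g).2 ⟨fun t ht => hZU (hcls g hg.1 t (hTS ht)), hg.2⟩)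
      (H3.le_pCore hDp)
  by_contra hST
  have hnc : ¬ (S : Subgroup G) ≤ centralizer (U : Set G) := fun hle => hST fun g hg =>
    hSC ⟨hg, hle hg⟩
  have hO' : pCore p (G ⧸ centralizer (U : Set G)) = ⊥ := H53.pCore_quotient_centralizer_omegaZ
  have hp5 : p < 5 := by
    by_contra hp
    refine hnc fun a ha => ?_
    have := H53.isPStableOn_of_isPSolvable (by omega) hG U hUE a (by
      rw [commutator_eq_bot_iff_le_centralizer]
      refine le_trans (commutator_le.2 fun u hu b hb => hcls u (hUS hu) b (zpowers_le.2 ha hb)) ?_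
      exact inf_le_right.trans (centralizer_le (SetLike.coe_subset_coe.2 (zpowers_le.2 ha))))
    rwa [hO', mem_bot, QuotientGroup.eq_one_iff] at this
  let π := QuotientGroup.mk' (centralizer (U : Set G))
  have hZC : Z ≤ centralizer (U : Set G) :=
    inf_le_right.trans (centralizer_le (SetLike.coe_subset_coe.2 hUS))
  have hAc : IsMulCommutative ((S : Subgroup G).map π) := by
    rw [← commutator_self_eq_bot_iff, ← map_commutator, Subgroup.map_eq_bot_iff,
      QuotientGroup.ker_mk']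
    exact (commutator_le.2 hcls).trans hZC
  have := hUE.1
  have hUp : IsPGroup p U := S.isPGroup'.to_le hUS
  obtain ⟨⟨a, ha⟩, z, hz⟩ := semi_mod_ext (p := p) (H53.quotAct U) (H53.quotAct_injective U) hUp
    (A := (S : Subgroup G).map π) (K := pPrimeCore p _) (S.isPGroup'.map _)
    (H3.pPrimeCore_coprime p _) (fun hle => by
      have h1 := (le_centralizer_iff.1 hle).trans
        (H53.centralizer_pPrimeCore_le (H53.isPSolvable_quotient hG _) hO')
      have h2 := H3.inf_eq_bot_of_isPGroup_of_coprime (S.isPGroup'.map π)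
        (H3.pPrimeCore_coprime p _)
      rw [inf_eq_left.2 h1, Subgroup.map_eq_bot_iff, QuotientGroup.ker_mk'] at h2
      exact hnc h2) (Z := Z.subgroupOf U)
    (by
      rintro _ ⟨a, ha, rfl⟩ z hz
      apply Subtype.ext
      change a * z * a⁻¹ = z
      have h1 : a * z = z * a := hz.2 a ha
      rw [h1, mul_inv_cancel_right])
    (by
      rintro _ ⟨a, ha, rfl⟩ u
      exact hcls a ha u (hUS u.2))
    (by
      intro u hu z hz
      obtain ⟨g, hg, hgu⟩ := h.semi u (hUS u.2) (fun hc => hu ⟨hUS u.2, hc⟩) z hz.1 hz.2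
      exact ⟨π g, mem_map_of_mem _ hg, Subtype.ext hgu⟩)
  have hZz : Z = zpowers (z : G) := by
    rw [← map_subgroupOf_eq_of_le hZU, hz, MonoidHom.map_zpowers]; rfl
  have hZn : ∀ w ∈ Z, (∀ g : G, g * w * g⁻¹ ∈ Z) → w = 1 := by
    intro w hw hw'
    by_contra hw1
    have hzp : ∀ y ∈ Z, y ≠ 1 → Nat.card (zpowers y) = p := fun y hy hy1 => by
      rw [Nat.card_zpowers]
      exact orderOf_eq_prime (h.zp y hy.1 hy.2) hy1
    have hz1 : (z : G) ≠ 1 := by
      intro h1
      rw [hZz, h1, zpowers_one_eq_bot, mem_bot] at hw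
      exact hw1 hw
    have hwZ : zpowers w = Z := eq_of_le_of_card_ge (zpowers_le.2 hw) (by
      rw [hzp w hw hw1, hZz, hzp z (hZz ▸ mem_zpowers _) hz1])
    have hn : Z.Normal := ⟨fun y hy g => by
      rw [← hwZ] at hy
      obtain ⟨n, rfl⟩ := hy
      rw [← conj_zpow]
      exact zpow_mem (hw' g) n⟩
    apply hnc
    rw [le_centralizer_iff]
    refine le_trans (iSup_le fun S' => ?_) (inf_le_right : Z ≤ _)
    obtain ⟨g, rfl⟩ := MulAction.exists_smul_eq G S S'
    have := H53.conj_omegaOne_center (p := p) (S : Subgroup G) g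
    refine le_trans (le_of_eq this.symm) ?_
    rintro _ ⟨y, hy, rfl⟩
    exact hn.conj_mem y (H53.omegaOne_le _ hy) g
  have hTn : T.Normal := inferInstance
  refine h.noab hp5 T hTS ?_ ⟨?_, fun t ht => ?_⟩
  · have h1 : T = centralizer (U : Set G) ⊓ S :=
      le_antisymm (le_inf (le_centralizer_iff.1 hUT) hTS) ((inf_comm _ _).le.trans hSC)
    rw [h1, inf_relIndex_right, ← H3.card_map_mk', ha, Nat.card_zpowers]
    obtain ⟨b, hb, rfl⟩ : a ∈ (S : Subgroup G).map π := ha ▸ mem_zpowers a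
    refine orderOf_eq_prime ?_ fun h1 => hnc ?_
    · rw [← map_pow]
      exact (QuotientGroup.eq_one_iff _).2 (hZC ⟨pow_mem hb p, h.pw b hb⟩)
    · rwa [h1, zpowers_one_eq_bot, Subgroup.map_eq_bot_iff, QuotientGroup.ker_mk'] at ha
  · refine ⟨⟨fun a b => Subtype.ext ?_⟩⟩
    refine commutatorElement_eq_one_iff_mul_comm.1 (hZn _ (hcls _ (hTS a.2) _ (hTS b.2)) fun g => ?_)
    rw [conjugate_commutatorElement]
    exact hcls _ (hTS (hTn.conj_mem _ a.2 g)) _ (hTS (hTn.conj_mem _ b.2 g))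
  · refine hZn _ ⟨pow_mem (hTS ht) p, h.pw t (hTS ht)⟩ fun g => ?_
    rw [← conj_pow]
    have := hTS (hTn.conj_mem _ ht g)
    exact ⟨pow_mem this p, h.pw _ this⟩

theorem pLengthLE_one_of_se {G : Type*} [Group G] [Finite G] {p : ℕ} [Fact p.Prime]
    (hG : IsPSolvable p G) (S : Sylow p G)
    (h : IsMulCommutative (S : Subgroup G) ∨ SE p (S : Subgroup G)) : PLengthLE p 1 G := by
  refine H4.pLengthLE_one_of_sylow_le S ?_
  let π := QuotientGroup.mk' (pPrimeCore p G)
  have hπ : Function.Surjective π := QuotientGroup.mk'_surjective _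
  rw [pPrimePCore, ← map_le_iff_le_comap]
  refine sylow_le_pCore_of_se (H53.isPSolvable_quotient hG _)
    (H3.pPrimeCore_quotient_pPrimeCore p G) (S.mapSurjective hπ) ?_
  rcases h with h | h
  · exact Or.inl (inferInstance : IsMulCommutative ((S : Subgroup G).map π))
  · right
    have hinj : Function.Injective (π.comp (S : Subgroup G).subtype) := by
      rw [injective_iff_map_eq_one]
      intro s hs
      have h1 : (s : G) ∈ (S : Subgroup G) ⊓ pPrimeCore p G :=
        ⟨s.2, (QuotientGroup.eq_one_iff _).1 hs⟩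
      rw [H3.inf_eq_bot_of_isPGroup_of_coprime S.isPGroup' (H3.pPrimeCore_coprime p G)] at h1
      exact Subtype.ext h1
    refine h.of_equiv ((MulEquiv.subgroupCongr ?_).trans (MonoidHom.ofInjective hinj).symm)
    rw [MonoidHom.range_comp, range_subtype]
    rfl

end Cfsg.Agent.H36
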