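import Cfsg.Agent.H36.SpY1

/-!
# The commutator relations of the doubled short root elements
-/

set_option autoImplicit false

namespace Cfsg.Agent.H36.SpY

open Cfsg Cfsg.Agent.H63 Cfsg.Agent.H63.SL Cfsg.Agent.H26 Cfsg.Agent.H68.Sp
open Cfsg.Agent.H78 hiding tv tv_zero
open Cfsg.Agent.H29.SpK
open Subgroup Module
open scoped commutatorElement

universe u v

variable {F V : Type v} [Field F] [AddCommGroup V] [Module F V] {G : Type u} [Group G]
  {P : PForm F V} {φ : P.E →* G} {L : Subgroup G} {k : ℕ} {t : G} {l0 c0 : F} {y : V → V → G}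

section

variable (Y : Y1 P φ L t l0 y) (h : SG P φ L k)
  (hc : ∀ a a' b e, Hyp P a a' b e → ⁅y a b, y a' e⁆ = Es P φ b (c0 • e) * y b ((1 + l0) • e))
include Y h hc

theorem cm_ys_ys {a a' b e : V} (H : Hyp P a a' b e) (c d : F) :
    ⁅y a (c • b), y a' (d • e)⁆ =
      YA P φ y b e (⟨c0 * (c * d), (1 + l0) * (c * d)⟩ : QA F c0) := by
  by_cases h1 : c = 0
  · subst h1; simp [Y.zero, YA, Es_zero]
  by_cases h2 : d = 0
  · subst h2; simp [Y.zero, YA, Es_zero]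
  rw [hc _ _ _ _ (hyp_smul h H h1 h2), smul_smul, smul_smul, Es_smul h, smul_smul,
    ys_smul Y H.2.1 h1, YA]
  congr 3 <;> ring

theorem l01 {a a' b e : V} (H : Hyp P a a' b e) : l0 = 0 ∨ l0 = 1 := by
  have e1 := cm_ys_ys Y h hc H 1 1
  have e2 := cm_ys_ys Y h hc (hyp_swap (hyp_symm h H)) 1 1
  rw [← commutatorElement_inv, e1, YA_inv Y h H.2.1, YA_swap Y h H.2.1] at e2
  simp only [YA, sg, mul_one, mul_left_inj] at e2
  have e3 := Es_inj h H.2.1 e2
  have e4 : l0 * (1 + l0) = 0 := by linear_combination -e3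
  rcases mul_eq_zero.1 e4 with e5 | e5
  · exact Or.inl e5
  · exact Or.inr (by linear_combination e5 - h.two)

theorem sp {a a' b e : V} (H : Hyp P a a' b e) (α α' : QA F c0) :
    ⁅YA P φ y a b α, YA P φ y a' e α'⁆ = YA P φ y b e (sg l0 α * α') := by
  have hbe := H.2.1
  have e1 : ⁅y a (α.im • b), YA P φ y a' e α'⁆ = YA P φ y b e
      (α'.re • sg l0 (⟨0, α.im⟩ : QA F c0) +
        ⟨c0 * (α.im * α'.im), (1 + l0) * (α.im * α'.im)⟩) := by
    have e0 := cm_YA_Es Y h H α'.re (⟨0, α.im⟩ : QA F c0)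
    rw [YA_im] at e0
    rw [YA, cm_mul_right, e0, cm_ys_ys Y h hc H, YA_adds Y h hbe]
    rw [cm_ys_ys Y h hc H]
    exact YA_comm_ET Y h hbe _ (PForm.f_symm_zero H.2.2.2.1) (by rw [fr h, hbe.1, mul_zero])
      (PForm.f_symm_zero H.2.2.2.2.2) (by rw [fr h, fs h, mul_zero]) 0
  rw [show YA P φ y a b α = Es P φ a (α.re • b) * y a (α.im • b) from rfl, cm_mul_left, e1,
    cm_Es_YA Y h H, ← YA_adds Y h hbe]
  · congr 1
    ext
    · simp only [sg, QuadraticAlgebra.re_add, QuadraticAlgebra.re_smul, QuadraticAlgebra.re_mul,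
        smul_eq_mul]
      ring
    · simp only [sg, QuadraticAlgebra.im_add, QuadraticAlgebra.im_smul, QuadraticAlgebra.im_mul,
        smul_eq_mul]
      ring
  · rw [e1]
    exact YA_comm_ET Y h hbe _ (PForm.f_symm_zero H.2.2.1) (by rw [fr h, fs h, mul_zero])
      (PForm.f_symm_zero H.2.2.2.2.1) (by rw [fr h, PForm.f_symm_zero hbe.1, mul_zero]) 0

theorem ss {a a' b e : V} (H : Hyp P a a' b e) (α α' : QA F c0) :
    ⁅YA P φ y a b α, YA P φ y a' b α'⁆ = tv P φ b (l0 * (sg l0 α * α').im) := by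
  have hbe := H.2.1
  have H3' := hyp_i3' h H
  have H' : Hyp P a a' b (e + (1 : F) • b) :=
    ⟨H.1, i2_shear h hbe 1, H.2.2.1, H.2.2.2.1,
      by rw [P.f_add_right, fr h, H.2.2.1, H.2.2.2.2.1, mul_zero, add_zero],
      by rw [P.f_add_right, fr h, H.2.2.2.1, H.2.2.2.2.2, mul_zero, add_zero]⟩
  have e1 := sp Y h hc H' α α'
  have e2 := sp Y h hc H α α'
  have e3 : YA P φ y a' b α' = YA P φ y a' e α' * YA P φ y a' (e + (1 : F) • b) α' := by
    rw [one_smul, YA_add Y h (i3_swap23 H3'), ← mul_assoc, YA_sq Y h (i3_13 H3'), one_mul]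
  rw [e3, cm_mul_right, e1, e2, YA_shear Y h hbe, ← mul_assoc, YA_sq Y h hbe, one_mul, one_mul]
  rw [e1]
  exact YA_com Y h (i3_13 H3') H'.2.1 H.2.2.2.1 H'.2.2.2.2.2 (PForm.f_symm_zero hbe.1)
    (by rw [P.f_add_right, fr h, fs h, PForm.f_symm_zero hbe.1, mul_zero, add_zero]) _ _

end

/-- **H4B** -/
theorem h4b : H4bStmt.{u, v} := by
  intro F V _ _ _ _ _ G _ _ P φ L k t C l0 y Y c0 hc
  have h := C.toCtx0.toLL.toSM.toSG
  refine ⟨?_, fun a a' b e H => sp Y h hc H, fun a a' b H => ?_⟩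
  · obtain ⟨a, a', b, e, H⟩ := exists_hyp0 h C.g1 C.k3
    exact l01 Y h hc H
  · obtain ⟨e, H⟩ := exists_hyp h C.g1 C.k3 H
    exact ss Y h hc H

end Cfsg.Agent.H36.SpY
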